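import Cfsg.Agent.H553.OddHall_m3
import Cfsg.Agent.H263.ChermakDelgado
import Cfsg.Agent.H803.S74.Sys
import Cfsg.Agent.H160.PD.Crit
import Cfsg.Prelude.Def_HallClasses
import Cfsg.Agent.H742.PD.BigE6_m3
import Cfsg.Agent.Classification.DihLift_m3
import Cfsg.Agent.Lib.Zsigmondy
import Cfsg.Agent.Lib.FieldAutCard
import Cfsg.Agent.H160.PSLTwo
import Cfsg.Agent.S0205
import Cfsg.Agent.Lib.PSL2Torus
import Cfsg.Agent.H173.RU.Lift
import Cfsg.Agent.LieClassical.HermSimple
import Cfsg.Agent.H173.RU.Main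
import Cfsg.Agent.H160.PD.Tools
import Cfsg.Agent.S0815
import Mathlib
import Cfsg.Agent.H458.SpAut
import Cfsg.Agent.LieClassical.SympCount
import Cfsg.Agent.S0814
import Cfsg.Agent.H174.AltRank
import Cfsg.Agent.H458.RowPSp
import Cfsg.Agent.S2730
import Cfsg.Agent.S2712
import Cfsg.Agent.H999.PslGraphSplit
import Cfsg.Agent.H200.LinFixE_m3
import Cfsg.Agent.ClassicalGeometry.TwoFamilies
import Cfsg.Agent.H14.DP.Orth
import Cfsg.Agent.H200.RowOrthL_m3
import Cfsg.Agent.S0816
import Cfsg.Agent.S0292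
import Cfsg.Agent.S4613
import Cfsg.Prelude.Def_KGroupFacts
import Cfsg.Agent.FastGrp
import Cfsg.Agent.Prune
set_option linter.all false

section
prune_inst 0x7f00000000000000000000000000000000000000000000000000000000000000000000000000000000000000000000000000000000000000000000000000000000000000000000000000000000000000003fffffffffffffffffffffffffffaeffbdfffffffd

section
prune_inst 0xfce8f82bb831dfdfff7e77ae94ddfc39901fffa6dff943bfe02bdf0b9f030009c563a509e010fe0ed6e01410a87843f9ffceffea63d87ffffd1ff41ffbee0ff5f6b500119488340f3c0ff603f0778e7f000000000000000000000000000000000200000000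

-- part: H817/PD/RowRed
section
prune_inst 0x1160314408c0020000188516102020044c00059000408401dd020f460206f6620980294148801d02102a2a01000100000000005000400000040004000001002080a8d4043300000c26009f803083180c00000000000000000000000000051004000000002
set_option linter.all false
open scoped Cfsg.Agent.FastGrp

-- part: H817/PD/Basic
section
/-!
# Products of two π-decomposable groups: basic facts (helper817, for S4246)

* `dom_compl`, `dom_chain`, `dom_normalizer`: in groups with a normal series with factors `π`, `π'`, `π`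
  every `π`-subgroup lies in a conjugate of a given Hall `π`-subgroup;
* `PD π LA KA LB KB`: `G = (LA × KA)(LB × KB)` with `π`-groups `LA, LB` and `π'`-groups `KA, KB`;
* `PD.hall`: if `LA ⊔ LB` is a `π`-group then it is a Hall `π`-subgroup and equal to `LA * LB`;
* `PD.good_of_conj`: `LA ≤ H`, `LB ≤ H ^ g` and `H` a `π`-group imply that `LA ⊔ LB` is a `π`-group;
* `PD.sub`, `PD.quot`, `PD.symm`.
-/

set_option autoImplicit false
set_option linter.dupNamespace false
set_option linter.unusedSectionVars false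
set_option linter.unusedVariables false

namespace Cfsg.Agent.H817.PD

open Subgroup Cfsg Cfsg.Agent.H988.CPi
open scoped Pointwise

variable {π : Set ℕ}

theorem PiN.one : PiN π 1 := fun p hp h => absurd (Nat.dvd_one.1 h) hp.ne_one

theorem PiN'.one : PiN' π 1 := fun p hp _ h => absurd (Nat.dvd_one.1 h) hp.ne_one

variable {G : Type*} [Group G]

theorem mem_conj_smul {g x : G} {H : Subgroup G} : x ∈ MulAut.conj g • H ↔ g⁻¹ * x * g ∈ H := by
  rw [Subgroup.mem_smul_pointwise_iff_exists]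
  constructor
  · rintro ⟨y, hy, rfl⟩
    have : g⁻¹ * (MulAut.conj g • y) * g = y := by
      simp [MulAut.conj_apply, mul_assoc]
    rw [this]; exact hy
  · intro h
    exact ⟨g⁻¹ * x * g, h, by simp only [MulAut.conj_apply, mul_assoc, _root_.smul_mul', _root_.smul_inv', _root_.MulAut.smul_def, _root_.mul_inv_cancel, _root_.mul_one, _root_.inv_mul_cancel, _root_.inv_mul_cancel_left]⟩

theorem conj_smul_le_iff {g : G} {H K : Subgroup G} :
    H ≤ MulAut.conj g • K ↔ ∀ x ∈ H, g⁻¹ * x * g ∈ K :=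
  ⟨fun h x hx => mem_conj_smul.1 (h hx), fun h x hx => mem_conj_smul.2 (h x hx)⟩

variable [Finite G]

theorem eq_bot_of_coprime {H K : Subgroup G} (h1 : PiN π (Nat.card H)) (h2 : PiN' π (Nat.card K)) :
    H ⊓ K = ⊥ :=
  (disjoint_of_coprime_natCard (h1.coprime h2)).eq_bot

/-- Schur–Zassenhaus, dominance. -/
theorem dom_compl (N : Subgroup G) [N.Normal] (h1 : PiN' π (Nat.card N)) (h2 : PiN π N.index)
    {H L : Subgroup G} (hH : IsPiHall π H) (hL : PiN π (Nat.card L)) : ∃ g : G, L ≤ MulAut.conj g • H := by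
  have hNH : N ⊓ H = ⊥ := by rw [inf_comm]; exact eq_bot_of_coprime hH.1 h1
  have hsup : H ⊔ N = ⊤ := by
    rw [← index_eq_one]
    apply eq_one_of_both (π := π)
    · exact h2.of_dvd (index_dvd_of_le le_sup_right)
    · exact PiN'.of_dvd hH.2 (index_dvd_of_le le_sup_left)
  set M : Subgroup G := L ⊔ N with hM
  have hNM : N ≤ M := le_sup_right
  have hLM : L ≤ M := le_sup_left
  have hrel : N.relIndex M = Nat.card L := by
    rw [hM, relIndex_sup_right, ← relIndex_bot_left, ← inf_relIndex_right, inf_comm,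
      eq_bot_of_coprime hL h1]
  have hcM : Nat.card M = Nat.card N * Nat.card L := by
    rw [← hrel, ← relIndex_bot_left N, relIndex_mul_relIndex ⊥ N M bot_le hNM, relIndex_bot_left]
  -- the intersection of `M` and `H`
  have hmod : (M ⊓ H) ⊔ N = M := by
    apply le_antisymm (sup_le inf_le_left hNM)
    intro x hx
    have hx2 : x ∈ H ⊔ N := by rw [hsup]; exact mem_top x
    obtain ⟨h, hh, n, hn, rfl⟩ := (mem_sup_of_normal_right).1 hx2
    refine mul_mem_sup (mem_inf.2 ⟨?_, hh⟩) hn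
    have := M.mul_mem hx (M.inv_mem (hNM hn))
    simpa using this
  have hcard : Nat.card ↥(M ⊓ H) = Nat.card L := by
    rw [← hrel]
    conv_rhs => rw [← hmod]
    have h3 : N ⊓ (M ⊓ H) = ⊥ := by
      rw [eq_bot_iff, ← hNH]
      exact le_inf inf_le_left (inf_le_right.trans inf_le_right)
    rw [relIndex_sup_right, ← inf_relIndex_right N, h3, relIndex_bot_left]
  have hall : ∀ X : Subgroup G, X ≤ M → Nat.card X = Nat.card L → IsPiHall π (X.subgroupOf M) := by
    intro X hX hc
    have hc1 : Nat.card (X.subgroupOf M) = Nat.card L := by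
      rw [← hc]; exact Nat.card_congr (subgroupOfEquivOfLe hX).toEquiv
    refine ⟨by rw [hc1]; exact hL, ?_⟩
    have h3 := (X.subgroupOf M).card_mul_index
    rw [hc1, hcM, mul_comm (Nat.card N)] at h3
    have h4 : (X.subgroupOf M).index = Nat.card N := Nat.eq_of_mul_eq_mul_left Nat.card_pos h3
    have : PiN' π (X.subgroupOf M).index := by rw [h4]; exact h1
    exact this
  have hcpi : IsCPiGroup π ↥M := by
    apply cpi_of_compl (N.subgroupOf M)
    · rw [Nat.card_congr (subgroupOfEquivOfLe hNM).toEquiv]; exact h1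
    · have : (N.subgroupOf M).index = Nat.card L := hrel
      rw [this]; exact hL
  obtain ⟨m, hm⟩ := hcpi.2 _ _ (hall (M ⊓ H) inf_le_left hcard) (hall L hLM rfl)
  rw [conj_eq] at hm
  obtain ⟨m', -, hm'⟩ := Cfsg.Agent.Solvable.SZ.conj_of_subgroupOf M (M ⊓ H) L inf_le_left hLM ⟨m, hm.symm⟩
  refine ⟨m', ?_⟩
  rw [← hm']
  intro x hx
  rw [mem_conj_smul] at hx ⊢
  exact hx.2

/-- dominance in a group with normal series with factors `π`, `π'`, `π`. -/
theorem dom_chain (S B : Subgroup G) [S.Normal] [B.Normal] (hSB : S ≤ B) (h1 : PiN π (Nat.card S))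
    (h2 : PiN' π (S.relIndex B)) (h3 : PiN π B.index) {H L : Subgroup G} (hH : IsPiHall π H)
    (hL : PiN π (Nat.card L)) : ∃ g : G, L ≤ MulAut.conj g • H := by
  have : (B.map (QuotientGroup.mk' S)).Normal := Normal.map inferInstance _ (QuotientGroup.mk'_surjective S)
  have h4 : (B.map (QuotientGroup.mk' S)).index = B.index :=
    index_map_eq _ (QuotientGroup.mk'_surjective S) (by rw [QuotientGroup.ker_mk']; exact hSB)
  have h5 : Nat.card (B.map (QuotientGroup.mk' S)) = S.relIndex B := by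
    have h5 := card_mul_index (B.map (QuotientGroup.mk' S))
    have h6 : Nat.card (G ⧸ S) = S.index := rfl
    rw [h4, h6, ← relIndex_mul_index hSB] at h5
    have h7 : B.index ≠ 0 := index_ne_zero_of_finite
    exact Nat.eq_of_mul_eq_mul_right (Nat.pos_of_ne_zero h7) h5
  obtain ⟨g, hg⟩ := dom_compl (B.map (QuotientGroup.mk' S)) (by rw [h5]; exact h2) (by rw [h4]; exact h3)
    (isPiHall_map_mk hH S) (L := L.map (QuotientGroup.mk' S)) (hL.of_dvd (card_map_dvd _ _))
  obtain ⟨g, rfl⟩ := QuotientGroup.mk'_surjective S g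
  refine ⟨g, conj_smul_le_iff.2 fun x hx => ?_⟩
  have h6 := conj_smul_le_iff.1 hg _ (mem_map_of_mem (QuotientGroup.mk' S) hx)
  rw [← map_inv, ← map_mul, ← map_mul] at h6
  obtain ⟨y, hy, hyx⟩ := h6
  have h7 : y⁻¹ * (g⁻¹ * x * g) ∈ S := (QuotientGroup.eq (s := S)).1 hyx
  have h8 : S ≤ H := le_of_normal hH h1
  have := H.mul_mem hy (h8 h7)
  simpa only [mul_assoc, _root_.mul_inv_cancel_left] using this

/-- The criterion with a Hall subgroup of a normal subgroup. -/
theorem dom_normalizer {P N Y : Subgroup G} [N.Normal] (hPN : P ≤ N) (hP : PiN π (Nat.card P))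
    (hP' : PiN' π (P.relIndex N)) (hNY : N ≤ Y) (hY : PiN π (N.relIndex Y)) {L L' : Subgroup G}
    (hL : PiN π (Nat.card L)) (hL' : PiN π (Nat.card L')) (h1 : L ≤ normalizer (P : Set G) ⊓ Y)
    (h2 : L' ≤ normalizer (P : Set G) ⊓ Y) :
    ∃ H : Subgroup G, PiN π (Nat.card H) ∧ L ≤ H ∧ ∃ g : G, L' ≤ MulAut.conj g • H := by
  set M : Subgroup G := normalizer (P : Set G) ⊓ Y with hM
  have hPM : P ≤ M := le_inf le_normalizer (hPN.trans hNY)
  have n1 : (P.subgroupOf M).Normal := by
    exact (normal_subgroupOf_iff_le_normalizer hPM).mpr inf_le_left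
  have n2 : (N.subgroupOf M).Normal := inferInstance
  have c0 : P.subgroupOf M ≤ N.subgroupOf M := fun x hx => hPN hx
  have c1 : PiN π (Nat.card (P.subgroupOf M)) := by
    rw [Nat.card_congr (subgroupOfEquivOfLe hPM).toEquiv]; exact hP
  have c2 : PiN' π ((P.subgroupOf M).relIndex (N.subgroupOf M)) := by
    have h3 : (P.subgroupOf M).relIndex (N.subgroupOf M) = P.relIndex (N ⊓ M) := by
      rw [← inf_subgroupOf_right N M, relIndex_subgroupOf inf_le_right]
    rw [h3]
    refine PiN'.of_dvd hP' ?_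
    have := relIndex_mul_relIndex P (N ⊓ M) N (le_inf hPN hPM) inf_le_left
    exact ⟨_, this.symm⟩
  have c3 : PiN π (N.subgroupOf M).index := by
    have h3 : (N.subgroupOf M).index = N.relIndex M := rfl
    rw [h3]
    refine PiN.of_dvd hY ?_
    rw [← relIndex_sup_right M N, ← relIndex_mul_relIndex N (M ⊔ N) Y le_sup_right (sup_le inf_le_right hNY)]
    exact dvd_mul_right _ _
  obtain ⟨⟨H, hH⟩, -⟩ := cpi_of_chain (P.subgroupOf M) (N.subgroupOf M) c0 c1 c2 c3
  have key : ∀ X : Subgroup G, PiN π (Nat.card X) → X ≤ M →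
      ∃ m : M, X ≤ MulAut.conj (m : G) • H.map M.subtype := by
    intro X hX hXM
    obtain ⟨m, hm⟩ := dom_chain (P.subgroupOf M) (N.subgroupOf M) c0 c1 c2 c3 hH (L := X.subgroupOf M)
      (by rw [Nat.card_congr (subgroupOfEquivOfLe hXM).toEquiv]; exact hX)
    refine ⟨m, conj_smul_le_iff.2 fun x hx => ?_⟩
    have h3 := conj_smul_le_iff.1 hm ⟨x, hXM hx⟩ hx
    exact ⟨_, h3, rfl⟩
  obtain ⟨a, ha⟩ := key L hL h1
  obtain ⟨b, hb⟩ := key L' hL' h2
  refine ⟨MulAut.conj (a : G) • H.map M.subtype, ?_, ha, (b : G) * (a : G)⁻¹, ?_⟩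
  · rw [Cfsg.Agent.Solvable.SZ.card_conj_smul, card_map_of_injective M.subtype_injective]
    exact hH.1
  · rw [← mul_smul, ← map_mul, inv_mul_cancel_right]
    exact hb

omit [Finite G] in
/-- powers separate commuting elements of coprime orders -/
theorem mem_zpowers_of_mul [Finite G] {c d : G} (h : c * d = d * c) (hcop : (orderOf c).Coprime (orderOf d)) :
    c ∈ zpowers (c * d) ∧ d ∈ zpowers (c * d) := by
  obtain ⟨n, hn1, hn2⟩ := Nat.chineseRemainder hcop 1 0
  have hc : Commute c d := h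
  have h1 : c ^ n = c := by
    have := pow_eq_pow_iff_modEq.2 hn1
    rwa [pow_one] at this
  have h2 : d ^ n = 1 := by
    have := pow_eq_pow_iff_modEq.2 hn2
    rwa [pow_zero] at this
  have h3 : c ∈ zpowers (c * d) := by
    have h4 : (c * d) ^ n = c := by rw [hc.mul_pow, h1, h2, mul_one]
    have h5 := (zpowers (c * d)).pow_mem (mem_zpowers (c * d)) n
    rwa [h4] at h5
  refine ⟨h3, ?_⟩
  have := (zpowers (c * d)).mul_mem ((zpowers (c * d)).inv_mem h3) (mem_zpowers (c * d))
  simpa using this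

/-- `G = (LA × KA)(LB × KB)` with `π`-groups `LA, LB` and `π'`-groups `KA, KB`. -/
structure PD (π : Set ℕ) {G : Type*} [Group G] (LA KA LB KB : Subgroup G) : Prop where
  la : PiN π (Nat.card LA)
  ka : PiN' π (Nat.card KA)
  lb : PiN π (Nat.card LB)
  kb : PiN' π (Nat.card KB)
  ca : ∀ a ∈ LA, ∀ b ∈ KA, a * b = b * a
  cb : ∀ a ∈ LB, ∀ b ∈ KB, a * b = b * a
  prod : ∀ g : G, ∃ a ∈ LA, ∃ b ∈ KA, ∃ c ∈ LB, ∃ d ∈ KB, g = a * b * (c * d)

theorem split {L K : Subgroup G} (h1 : PiN π (Nat.card L)) (h2 : PiN' π (Nat.card K))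
    (hc : ∀ a ∈ L, ∀ b ∈ K, a * b = b * a) {c d : G} (hcL : c ∈ L) (hdK : d ∈ K) :
    c ∈ zpowers (c * d) ∧ d ∈ zpowers (c * d) := by
  apply mem_zpowers_of_mul (hc c hcL d hdK)
  refine PiN.coprime (π := π) (h1.of_dvd ?_) (h2.of_dvd ?_)
  · exact Subgroup.orderOf_dvd_natCard L hcL
  · exact Subgroup.orderOf_dvd_natCard K hdK

theorem split_mem {L K : Subgroup G} (h1 : PiN π (Nat.card L)) (h2 : PiN' π (Nat.card K))
    (hc : ∀ a ∈ L, ∀ b ∈ K, a * b = b * a) {c d : G} (hcL : c ∈ L) (hdK : d ∈ K) {Z : Subgroup G}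
    (hZ : c * d ∈ Z) : c ∈ Z ∧ d ∈ Z := by
  obtain ⟨h3, h4⟩ := split h1 h2 hc hcL hdK
  have : zpowers (c * d) ≤ Z := zpowers_le.2 hZ
  exact ⟨this h3, this h4⟩

omit [Finite G] in
theorem mem_sup_comm {L K : Subgroup G} (hc : ∀ a ∈ L, ∀ b ∈ K, a * b = b * a) {x : G} :
    x ∈ L ⊔ K ↔ ∃ c ∈ L, ∃ d ∈ K, x = c * d := by
  constructor
  · intro hx
    have hLK : L ≤ normalizer (K : Set G) := by
      intro a ha
      rw [mem_normalizer_iff]
      intro b
      constructor
      · intro hb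
        have : a * b * a⁻¹ = b := by rw [hc a ha b hb, mul_inv_cancel_right]
        rw [this]; exact hb
      · intro hb
        have h3 := hc a ha _ hb
        have : b = a * b * a⁻¹ := by
          have h4 : a * (a * b * a⁻¹) * a⁻¹ = a * b * a⁻¹ := by rw [h3]; group
          have h5 : a * b * a⁻¹ = b := by
            have := congrArg (fun z => a⁻¹ * z * a) h4
            simpa only [mul_assoc, _root_.inv_mul_cancel_left, _root_.inv_mul_cancel, _root_.mul_one] using this
          exact h5.symm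
        rw [this]; exact hb
    have h4 : (x : G) ∈ ((L ⊔ K : Subgroup G) : Set G) := hx
    rw [coe_mul_of_left_le_normalizer_right L K hLK] at h4
    obtain ⟨c, hc', d, hd, rfl⟩ := h4
    exact ⟨c, hc', d, hd, rfl⟩
  · rintro ⟨c, hc', d, hd, rfl⟩
    exact mul_mem_sup hc' hd

theorem card_sup {L K : Subgroup G} (h1 : PiN π (Nat.card L)) (h2 : PiN' π (Nat.card K))
    (hc : ∀ a ∈ L, ∀ b ∈ K, a * b = b * a) : Nat.card ↥(L ⊔ K) = Nat.card L * Nat.card K := by
  have h3 := Cfsg.Agent.H263.ChermakDelgado.ncard_mul_inf L K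
  rw [eq_bot_of_coprime h1 h2, card_bot, mul_one] at h3
  rw [← h3, ← Nat.card_coe_set_eq]
  apply congrArg (fun s : Set G => Nat.card s)
  ext x
  rw [SetLike.mem_coe, mem_sup_comm hc]
  constructor
  · rintro ⟨c, hc', d, hd, rfl⟩
    exact ⟨c, hc', d, hd, rfl⟩
  · rintro ⟨c, hc', d, hd, rfl⟩
    exact ⟨c, hc', d, hd, rfl⟩

namespace PD

variable {LA KA LB KB : Subgroup G} (h : PD π LA KA LB KB)
include h

omit [Finite G] in
theorem symm : PD π LB KB LA KA := by
  refine ⟨h.lb, h.kb, h.la, h.ka, h.cb, h.ca, fun g => ?_⟩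
  obtain ⟨a, ha, b, hb, c, hc, d, hd, hg⟩ := h.prod g⁻¹
  refine ⟨c⁻¹, LB.inv_mem hc, d⁻¹, KB.inv_mem hd, a⁻¹, LA.inv_mem ha, b⁻¹, KA.inv_mem hb, ?_⟩
  have h1 : g = (a * b * (c * d))⁻¹ := by rw [← hg, inv_inv]
  rw [h1, h.ca a ha b hb, h.cb c hc d hd]
  group

theorem card_A : Nat.card ↥(LA ⊔ KA) = Nat.card LA * Nat.card KA := card_sup h.la h.ka h.ca

theorem card_B : Nat.card ↥(LB ⊔ KB) = Nat.card LB * Nat.card KB := card_sup h.lb h.kb h.cb

theorem inf_eq : (LA ⊔ KA) ⊓ (LB ⊔ KB) = (LA ⊓ LB) ⊔ (KA ⊓ KB) := by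
  apply le_antisymm
  · rintro x ⟨hx1, hx2⟩
    have hx1 := (mem_sup_comm h.ca).1 hx1
    have hx2 := (mem_sup_comm h.cb).1 hx2
    obtain ⟨a, ha, b, hb, hab⟩ := hx1
    obtain ⟨c, hc, d, hd, hcd⟩ := hx2
    -- both are the coprime parts of `x`
    have h1 : c⁻¹ * a = d * b⁻¹ := by
      have : a * b = c * d := by rw [← hab, hcd]
      have h2 : a = c * d * b⁻¹ := by rw [← this]; group
      rw [h2]; group
    obtain ⟨ha', hb'⟩ := split h.la h.ka h.ca ha hb
    obtain ⟨hc', hd'⟩ := split h.lb h.kb h.cb hc hd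
    rw [← hab] at ha' hb'
    rw [← hcd] at hc' hd'
    have hcomm : ∀ u ∈ zpowers x, ∀ v ∈ zpowers x, u * v = v * u := by
      rintro _ ⟨m, rfl⟩ _ ⟨n, rfl⟩
      simp only [← zpow_add, add_comm]
    have e1 : orderOf (c⁻¹ * a) = 1 := by
      apply eq_one_of_both (π := π)
      · intro p hp hpd
        have hcom : Commute c⁻¹ a := hcomm _ (inv_mem hc') _ ha'
        have h5 := hcom.orderOf_mul_dvd_mul_orderOf
        rw [orderOf_inv] at h5
        rcases hp.dvd_mul.1 (hpd.trans h5) with h6 | h6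
        · exact h.lb p hp (h6.trans (Subgroup.orderOf_dvd_natCard LB hc))
        · exact h.la p hp (h6.trans (Subgroup.orderOf_dvd_natCard LA ha))
      · intro p hp hpπ hpd
        rw [h1] at hpd
        have hcom : Commute d b⁻¹ := hcomm _ hd' _ (inv_mem hb')
        have h5 := hcom.orderOf_mul_dvd_mul_orderOf
        rw [orderOf_inv] at h5
        rcases hp.dvd_mul.1 (hpd.trans h5) with h6 | h6
        · exact h.kb p hp hpπ (h6.trans (Subgroup.orderOf_dvd_natCard KB hd))
        · exact h.ka p hp hpπ (h6.trans (Subgroup.orderOf_dvd_natCard KA hb))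
    rw [orderOf_eq_one_iff] at e1
    have e2 : a = c := by rw [inv_mul_eq_one] at e1; exact e1.symm
    have e3 : d = b := by rw [e1] at h1; exact (mul_inv_eq_one.1 h1.symm)
    rw [hab]
    exact mul_mem_sup ⟨ha, e2 ▸ hc⟩ ⟨hb, e3 ▸ hd⟩
  · refine sup_le (le_inf (inf_le_left.trans le_sup_left) (inf_le_right.trans le_sup_left))
      (le_inf (inf_le_left.trans le_sup_right) (inf_le_right.trans le_sup_right))

theorem card_mul : Nat.card G * (Nat.card ↥(LA ⊓ LB) * Nat.card ↥(KA ⊓ KB)) =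
    Nat.card LA * Nat.card KA * (Nat.card LB * Nat.card KB) := by
  have h1 := Cfsg.Agent.H263.ChermakDelgado.ncard_mul_inf (LA ⊔ KA) (LB ⊔ KB)
  have h2 : ((LA ⊔ KA : Subgroup G) : Set G) * ((LB ⊔ KB : Subgroup G) : Set G) = Set.univ := by
    rw [Set.eq_univ_iff_forall]
    intro g
    obtain ⟨a, ha, b, hb, c, hc, d, hd, rfl⟩ := h.prod g
    exact ⟨a * b, mul_mem_sup ha hb, c * d, mul_mem_sup hc hd, rfl⟩
  rw [h2, Set.ncard_univ, h.inf_eq, h.card_A, h.card_B] at h1
  rw [← h1, card_sup (π := π) (h.la.of_dvd (card_dvd_of_le inf_le_left)) (h.ka.of_dvd (card_dvd_of_le inf_le_left))]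
  intro a ha b hb
  exact h.ca a ha.1 b hb.1

/-- if `LA ⊔ LB` is a `π`-group then it is a Hall `π`-subgroup and equal to `LA * LB`. -/
theorem hall_aux (hg : PiN π (Nat.card ↥(LA ⊔ LB))) :
    ((LA : Set G) * (LB : Set G)).ncard = Nat.card ↥(LA ⊔ LB) ∧ PiN' π (LA ⊔ LB).index := by
  have e1 := Cfsg.Agent.H263.ChermakDelgado.ncard_mul_inf LA LB
  have e2 := Cfsg.Agent.H263.ChermakDelgado.ncard_mul_inf KA KB
  have e3 := h.card_mul
  set m := ((LA : Set G) * (LB : Set G)).ncard with hm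
  set n := ((KA : Set G) * (KB : Set G)).ncard with hn
  have hmπ : PiN π m := (h.la.mul h.lb).of_dvd ⟨_, e1.symm⟩
  have hnπ : PiN' π n := (h.ka.mul h.kb).of_dvd ⟨_, e2.symm⟩
  have e4 : Nat.card G = m * n := by
    have h5 : Nat.card G * (Nat.card ↥(LA ⊓ LB) * Nat.card ↥(KA ⊓ KB)) =
        m * n * (Nat.card ↥(LA ⊓ LB) * Nat.card ↥(KA ⊓ KB)) := by
      rw [e3]
      calc Nat.card LA * Nat.card KA * (Nat.card LB * Nat.card KB)
          = (Nat.card LA * Nat.card LB) * (Nat.card KA * Nat.card KB) := by ring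
        _ = _ := by rw [← e1, ← e2]; ring
    exact Nat.eq_of_mul_eq_mul_right (Nat.mul_pos Nat.card_pos Nat.card_pos) h5
  have h6 : Nat.card ↥(LA ⊔ LB) ∣ m := by
    have h7 : Nat.card ↥(LA ⊔ LB) ∣ m * n := by rw [← e4]; exact card_subgroup_dvd_card _
    exact (hg.coprime hnπ).dvd_of_dvd_mul_right h7
  have h8 : m ≤ Nat.card ↥(LA ⊔ LB) := Cfsg.Agent.H263.ChermakDelgado.ncard_mul_le_sup LA LB
  have hm0 : 0 < m := by
    rw [Nat.pos_iff_ne_zero]
    intro h0
    rw [h0, zero_mul] at e4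
    exact Nat.card_pos.ne' e4
  have h9 : m = Nat.card ↥(LA ⊔ LB) := le_antisymm h8 (Nat.le_of_dvd hm0 h6)
  refine ⟨h9, ?_⟩
  have h10 := (LA ⊔ LB).card_mul_index
  rw [e4, h9] at h10
  rw [Nat.eq_of_mul_eq_mul_left Nat.card_pos h10]
  exact hnπ

theorem hall (hg : PiN π (Nat.card ↥(LA ⊔ LB))) : IsPiHall π (LA ⊔ LB) :=
  ⟨hg, (h.hall_aux hg).2⟩

theorem coe_sup (hg : PiN π (Nat.card ↥(LA ⊔ LB))) :
    ((LA ⊔ LB : Subgroup G) : Set G) = (LA : Set G) * (LB : Set G) := by
  symm
  apply Set.eq_of_subset_of_ncard_le (Cfsg.Agent.H263.ChermakDelgado.mul_subset_sup LA LB)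
  rw [(h.hall_aux hg).1]
  exact le_of_eq (Nat.card_coe_set_eq _).symm

/-- The conjugacy trick. -/
theorem good_of_conj {H : Subgroup G} (hH : PiN π (Nat.card H)) (h1 : LA ≤ H) {g : G}
    (h2 : LB ≤ MulAut.conj g • H) : PiN π (Nat.card ↥(LA ⊔ LB)) := by
  obtain ⟨c, hc, d, hd, a, ha, b, hb, rfl⟩ := h.symm.prod g
  -- `LB ≤ H ^ (a b)`, `LA ≤ H ^ (a b)`
  have h3 : LB ≤ MulAut.conj (a * b) • H := by
    rw [conj_smul_le_iff] at h2 ⊢
    intro x hx
    have h4 := h2 ((c * d) * x * (c * d)⁻¹) ?_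
    · have : (c * d * (a * b))⁻¹ * (c * d * x * (c * d)⁻¹) * (c * d * (a * b)) = (a * b)⁻¹ * x * (a * b) := by
        group
      rwa [this] at h4
    · have h5 : c * d * x * (c * d)⁻¹ = c * x * c⁻¹ := by
        have := h.cb x hx d hd
        calc c * d * x * (c * d)⁻¹ = c * (d * x) * d⁻¹ * c⁻¹ := by group
          _ = c * (x * d) * d⁻¹ * c⁻¹ := by rw [this]
          _ = _ := by group
      rw [h5]
      exact LB.mul_mem (LB.mul_mem hc hx) (LB.inv_mem hc)
  have h4 : LA ≤ MulAut.conj (a * b) • H := by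
    rw [conj_smul_le_iff]
    intro x hx
    have h5 : (a * b)⁻¹ * x * (a * b) = a⁻¹ * x * a := by
      have e1 := h.ca (a⁻¹ * x * a) (LA.mul_mem (LA.mul_mem (LA.inv_mem ha) hx) ha) b hb
      calc (a * b)⁻¹ * x * (a * b) = b⁻¹ * ((a⁻¹ * x * a) * b) := by group
        _ = b⁻¹ * (b * (a⁻¹ * x * a)) := by rw [e1]
        _ = _ := by group
    rw [h5]
    exact h1 (LA.mul_mem (LA.mul_mem (LA.inv_mem ha) hx) ha)
  refine PiN.of_dvd hH ?_
  rw [← Cfsg.Agent.Solvable.SZ.card_conj_smul (a * b) H]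
  exact card_dvd_of_le (sup_le h4 h3)

/-- restriction to a subgroup containing the first factor -/
theorem sub {Z : Subgroup G} (h1 : LA ≤ Z) (h2 : KA ≤ Z) :
    PD π (LA.subgroupOf Z) (KA.subgroupOf Z) (LB.subgroupOf Z) (KB.subgroupOf Z) := by
  have hd : ∀ X : Subgroup G, Nat.card (X.subgroupOf Z) ∣ Nat.card X := by
    intro X
    rw [← card_map_of_injective Z.subtype_injective, subgroupOf_map_subtype]
    exact card_dvd_of_le inf_le_left
  refine ⟨h.la.of_dvd (hd _), h.ka.of_dvd (hd _), h.lb.of_dvd (hd _), h.kb.of_dvd (hd _), ?_, ?_, ?_⟩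
  · intro a ha b hb
    exact Subtype.ext (h.ca a ha b hb)
  · intro a ha b hb
    exact Subtype.ext (h.cb a ha b hb)
  · intro g
    obtain ⟨a, ha, b, hb, c, hc, d, hd', hg⟩ := h.prod g
    have hcd : c * d ∈ Z := by
      have : c * d = (a * b)⁻¹ * g := by rw [hg]; group
      rw [this]
      exact Z.mul_mem (Z.inv_mem (Z.mul_mem (h1 ha) (h2 hb))) g.2
    obtain ⟨hcZ, hdZ⟩ := split_mem h.lb h.kb h.cb hc hd' hcd
    exact ⟨⟨a, h1 ha⟩, ha, ⟨b, h2 hb⟩, hb, ⟨c, hcZ⟩, hc, ⟨d, hdZ⟩, hd', Subtype.ext hg⟩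

/-- quotients -/
theorem quot (N : Subgroup G) [N.Normal] :
    PD π (LA.map (QuotientGroup.mk' N)) (KA.map (QuotientGroup.mk' N)) (LB.map (QuotientGroup.mk' N))
      (KB.map (QuotientGroup.mk' N)) := by
  refine ⟨h.la.of_dvd (card_map_dvd _ _), h.ka.of_dvd (card_map_dvd _ _), h.lb.of_dvd (card_map_dvd _ _),
    h.kb.of_dvd (card_map_dvd _ _), ?_, ?_, ?_⟩
  · rintro _ ⟨a, ha, rfl⟩ _ ⟨b, hb, rfl⟩
    rw [← map_mul, ← map_mul, h.ca a ha b hb]
  · rintro _ ⟨a, ha, rfl⟩ _ ⟨b, hb, rfl⟩
    rw [← map_mul, ← map_mul, h.cb a ha b hb]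
  · intro g
    obtain ⟨g, rfl⟩ := QuotientGroup.mk'_surjective N g
    obtain ⟨a, ha, b, hb, c, hc, d, hd, rfl⟩ := h.prod g
    exact ⟨_, mem_map_of_mem _ ha, _, mem_map_of_mem _ hb, _, mem_map_of_mem _ hc, _, mem_map_of_mem _ hd,
      by simp only [map_mul]⟩

end PD

end Cfsg.Agent.H817.PD
end

-- part: H817/PD/Red
section
/-!
# Products of two π-decomposable groups: the minimal counterexample (helper817, for S4246)

`Gross π` : Hall `π`-subgroups are conjugate (S4350); `IH π n` : the theorem for groups of order `< n`;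
`MinCex.main` : in a minimal counterexample there is a unique minimal normal subgroup `N`, it is non-abelian,
`C(N) = 1`, and, up to symmetry, `G = B N`, `KA N = KB N`, `LA ≤ LB N`, and no proper normal subgroup contains `A`.
-/

set_option autoImplicit false
set_option linter.dupNamespace false
set_option linter.unusedSectionVars false
set_option linter.unusedVariables false

namespace Cfsg.Agent.H817.PD

open Subgroup Cfsg Cfsg.Agent.H988.CPi
open scoped Pointwise

universe u

/-- Hall `π`-subgroups are conjugate in every finite group -/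
def Gross (π : Set ℕ) : Prop :=
  ∀ (X : Type u) [Group X] [Finite X] (H K : Subgroup X), IsPiHall π H → IsPiHall π K → ∃ g : X, K = MulAut.conj g • H

/-- the theorem for groups of order less than `n` -/
def IH (π : Set ℕ) (n : ℕ) : Prop :=
  ∀ (X : Type u) [Group X] [Finite X], Nat.card X < n → ∀ LA KA LB KB : Subgroup X, PD π LA KA LB KB →
    PiN π (Nat.card ↥(LA ⊔ LB))

variable {π : Set ℕ} {G : Type u} [Group G] [Finite G] {LA KA LB KB : Subgroup G}

theorem card_eq_rel (H N : Subgroup G) : Nat.card H = Nat.card ↥(N ⊓ H) * N.relIndex H := by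
  have h1 := (N.subgroupOf H).card_mul_index
  rw [← h1]
  congr 1
  rw [← card_map_of_injective H.subtype_injective, subgroupOf_map_subtype]

theorem card_map_mk (H N : Subgroup G) [N.Normal] : Nat.card (H.map (QuotientGroup.mk' N)) = N.relIndex H := by
  rw [← relIndex_ker, QuotientGroup.ker_mk']

theorem card_quot_lt {N : Subgroup G} [N.Normal] (hN : N ≠ ⊥) : Nat.card (G ⧸ N) < Nat.card G := by
  have h1 := card_eq_card_quotient_mul_card_subgroup N
  have h2 : 1 < Nat.card N := (one_lt_card_iff_ne_bot N).2 hN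
  have h3 := Nat.card_pos (α := G ⧸ N)
  nlinarith

theorem card_lt_of_ne_top {Z : Subgroup G} (hZ : Z ≠ ⊤) : Nat.card Z < Nat.card G := by
  rcases lt_or_eq_of_le (card_le_card_group Z) with h | h
  · exact h
  · exact absurd (card_eq_iff_eq_top Z |>.1 h) hZ

namespace Min

variable (h : PD π LA KA LB KB) (ih : IH.{u} π (Nat.card G))
include h ih

theorem quot_good {N : Subgroup G} [N.Normal] (hN : N ≠ ⊥) : PiN π (N.relIndex (LA ⊔ LB)) := by
  have h1 := ih (G ⧸ N) (card_quot_lt hN) _ _ _ _ (h.quot N)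
  rwa [← Subgroup.map_sup, card_map_mk] at h1

theorem sub_hall {Z : Subgroup G} (hZ : Z ≠ ⊤) (h1 : LA ≤ Z) (h2 : KA ≤ Z) :
    IsPiHall π (LA.subgroupOf Z ⊔ LB.subgroupOf Z) :=
  (h.sub h1 h2).hall (ih Z (card_lt_of_ne_top hZ) _ _ _ _ (h.sub h1 h2))

theorem map_sub {Z : Subgroup G} (h1 : LA ≤ Z) :
    (LA.subgroupOf Z ⊔ LB.subgroupOf Z).map Z.subtype = LA ⊔ (LB ⊓ Z) := by
  rw [Subgroup.map_sup, subgroupOf_map_subtype, subgroupOf_map_subtype, inf_of_le_left h1]

/-- no proper subgroup contains `A` and `LB` -/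
theorem proper {Z : Subgroup G} (hZ : Z ≠ ⊤) (h1 : LA ≤ Z) (h2 : KA ≤ Z) (h3 : LB ≤ Z) :
    PiN π (Nat.card ↥(LA ⊔ LB)) := by
  have h4 := (sub_hall h ih hZ h1 h2).1
  have h5 : PiN π (Nat.card ↥(LA.subgroupOf Z ⊔ LB.subgroupOf Z)) := h4
  rwa [← card_map_of_injective Z.subtype_injective, map_sub h ih h1, inf_of_le_left h3] at h5

/-- two normal subgroups -/
theorem two_normal {N M : Subgroup G} [N.Normal] [M.Normal] (hN : N ≠ ⊥) (hM : M ≠ ⊥) (hNM : N ⊓ M = ⊥) :
    PiN π (Nat.card ↥(LA ⊔ LB)) := by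
  have h1 := quot_good h ih hN
  have h2 := quot_good h ih hM
  rw [card_eq_rel (LA ⊔ LB) N]
  refine PiN.mul ?_ h1
  have h3 := card_eq_rel (N ⊓ (LA ⊔ LB)) M
  have h4 : M ⊓ (N ⊓ (LA ⊔ LB)) = ⊥ := by
    rw [eq_bot_iff, ← hNM]
    exact le_inf (inf_le_right.trans inf_le_left) inf_le_left
  rw [h4, card_bot, one_mul] at h3
  rw [h3]
  refine PiN.of_dvd h2 ?_
  rw [← card_map_mk, ← card_map_mk]
  exact card_dvd_of_le (map_mono inf_le_right)

/-- the criterion with Hall subgroups of `N` -/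
theorem crit {N P : Subgroup G} [N.Normal] (hN : N ≠ ⊥) (hPN : P ≤ N) (hP : PiN π (Nat.card P))
    (hP' : PiN' π (P.relIndex N)) (h1 : LA ≤ normalizer (P : Set G)) {n : G} (hn : n ∈ N)
    (h2 : LB ≤ normalizer ((MulAut.conj n • P : Subgroup G) : Set G)) : PiN π (Nat.card ↥(LA ⊔ LB)) := by
  have h3 := quot_good h ih hN
  set Y : Subgroup G := LA ⊔ LB ⊔ N with hY
  have h4 : PiN π (N.relIndex Y) := by rw [hY, relIndex_sup_right]; exact h3
  have hNY : N ≤ Y := le_sup_right
  have hLB : LB ≤ Y := le_sup_right.trans le_sup_left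
  obtain ⟨H, hH, h5, g, h6⟩ := dom_normalizer (L := LA) (L' := MulAut.conj n⁻¹ • LB) hPN hP hP' hNY h4 h.la
    (by rw [Cfsg.Agent.Solvable.SZ.card_conj_smul]; exact h.lb)
    (le_inf h1 (le_sup_left.trans le_sup_left)) (by
      intro x hx
      rw [mem_conj_smul, inv_inv] at hx
      refine mem_inf.2 ⟨?_, ?_⟩
      · have h7 := mem_normalizer_iff.1 (h2 hx)
        rw [mem_normalizer_iff]
        intro y
        have h8 := h7 (n * y * n⁻¹)
        rw [mem_conj_smul, mem_conj_smul] at h8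
        have e1 : n⁻¹ * (n * y * n⁻¹) * n = y := by group
        have e2 : n⁻¹ * (n * x * n⁻¹ * (n * y * n⁻¹) * (n * x * n⁻¹)⁻¹) * n = x * y * x⁻¹ := by group
        rw [e1, e2] at h8
        exact h8
      · have h7 := Y.mul_mem (Y.mul_mem (Y.inv_mem (hNY hn)) (hLB hx)) (hNY hn)
        have e1 : n⁻¹ * (n * x * n⁻¹) * n = x := by group
        rwa [e1] at h7)
  refine h.good_of_conj hH h5 (g := n * g) ?_
  rw [conj_smul_le_iff] at h6 ⊢
  intro x hx
  have h7 := h6 (n⁻¹ * x * n) (by rw [mem_conj_smul, inv_inv]; simpa [mul_assoc] using hx)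
  have e1 : (n * g)⁻¹ * x * (n * g) = g⁻¹ * (n⁻¹ * x * n) * g := by group
  rw [e1]
  exact h7

theorem of_pi {N : Subgroup G} [N.Normal] (hN : N ≠ ⊥) (h1 : PiN π (Nat.card N)) :
    PiN π (Nat.card ↥(LA ⊔ LB)) := by
  rw [card_eq_rel (LA ⊔ LB) N]
  exact PiN.mul (h1.of_dvd (card_dvd_of_le inf_le_left)) (quot_good h ih hN)

theorem of_pi' {N : Subgroup G} [N.Normal] (hN : N ≠ ⊥) (h1 : PiN' π (Nat.card N)) :
    PiN π (Nat.card ↥(LA ⊔ LB)) := by
  refine crit h ih hN (P := ⊥) bot_le (by rw [card_bot]; exact PiN.one) (by rw [relIndex_bot_left]; exact h1) ?_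
    (n := 1) (one_mem N) ?_
  · intro x _
    rw [mem_normalizer_iff]
    intro y
    rw [mem_bot, mem_bot, conj_eq_one_iff]
  · intro x _
    rw [mem_normalizer_iff]
    intro y
    rw [map_one, one_smul, mem_bot, mem_bot, conj_eq_one_iff]

theorem hall_inter {Z N : Subgroup G} [N.Normal] (hNZ : N ≤ Z) {H : Subgroup Z} (hH : IsPiHall π H) :
    PiN' π ((H.map Z.subtype ⊓ N).relIndex N) := by
  have h1 := (isPiHall_subgroupOf hH (N.subgroupOf Z)).2
  have h2 : PiN' π (H.relIndex (N.subgroupOf Z)) := h1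
  have h3 : (H.map Z.subtype ⊓ N).relIndex N = H.relIndex (N.subgroupOf Z) := by
    rw [inf_relIndex_right]
    have h4 : H = (H.map Z.subtype).subgroupOf Z := by
      rw [subgroupOf, comap_map_eq_self_of_injective Z.subtype_injective]
    conv_rhs => rw [h4]
    rw [relIndex_subgroupOf hNZ]
  rw [h3]
  exact h2

/-- `A N ≠ G`, `B N ≠ G` -/
theorem two_proper (hG : Gross.{u} π) {N : Subgroup G} [N.Normal] (hN : N ≠ ⊥) (h1 : LA ⊔ KA ⊔ N ≠ ⊤)
    (h2 : LB ⊔ KB ⊔ N ≠ ⊤) : PiN π (Nat.card ↥(LA ⊔ LB)) := by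
  have c1 : LA ≤ LA ⊔ KA ⊔ N := le_sup_left.trans le_sup_left
  have c2 : KA ≤ LA ⊔ KA ⊔ N := le_sup_right.trans le_sup_left
  have c3 : LB ≤ LB ⊔ KB ⊔ N := le_sup_left.trans le_sup_left
  have c4 : KB ≤ LB ⊔ KB ⊔ N := le_sup_right.trans le_sup_left
  have e1 := sub_hall h ih h1 c1 c2
  have e2 := sub_hall h.symm ih h2 c3 c4
  set Z1 := LA ⊔ KA ⊔ N with hZ1
  set Z2 := LB ⊔ KB ⊔ N with hZ2
  set H1 := LA.subgroupOf Z1 ⊔ LB.subgroupOf Z1 with hH1
  set H2 := LB.subgroupOf Z2 ⊔ LA.subgroupOf Z2 with hH2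
  set P1 := H1.map Z1.subtype ⊓ N with hP1
  set P2 := H2.map Z2.subtype ⊓ N with hP2
  have f1 : PiN' π (P1.relIndex N) := hall_inter h ih le_sup_right e1
  have f2 : PiN' π (P2.relIndex N) := hall_inter h ih le_sup_right e2
  have g1 : PiN π (Nat.card P1) := by
    have : PiN π (Nat.card (H1.map Z1.subtype)) := by
      rw [card_map_of_injective Z1.subtype_injective]; exact e1.1
    exact this.of_dvd (card_dvd_of_le inf_le_left)
  have g2 : PiN π (Nat.card P2) := by
    have : PiN π (Nat.card (H2.map Z2.subtype)) := by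
      rw [card_map_of_injective Z2.subtype_injective]; exact e2.1
    exact this.of_dvd (card_dvd_of_le inf_le_left)
  have hall : ∀ P : Subgroup G, P ≤ N → PiN π (Nat.card P) → PiN' π (P.relIndex N) → IsPiHall π (P.subgroupOf N) := by
    intro P hPN i1 i2
    refine ⟨?_, i2⟩
    have : PiN π (Nat.card (P.subgroupOf N)) := by
      rw [Nat.card_congr (subgroupOfEquivOfLe hPN).toEquiv]; exact i1
    exact this
  have hP1N : P1 ≤ N := inf_le_right
  have hP2N : P2 ≤ N := inf_le_right
  obtain ⟨g, hg⟩ := hG N _ _ (hall P1 hP1N g1 f1) (hall P2 hP2N g2 f2)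
  obtain ⟨n, hn, hnP⟩ := Cfsg.Agent.Solvable.SZ.conj_of_subgroupOf N P1 P2 hP1N hP2N ⟨g, hg.symm⟩
  have norm : ∀ (X W : Subgroup G), X ≤ W → X ≤ normalizer ((W ⊓ N : Subgroup G) : Set G) := by
    intro X W hXW x hx
    rw [mem_normalizer_iff]
    intro y
    constructor
    · intro hy
      exact mem_inf.2 ⟨W.mul_mem (W.mul_mem (hXW hx) hy.1) (W.inv_mem (hXW hx)),
        (inferInstance : N.Normal).conj_mem y hy.2 x⟩
    · intro hy
      have e : y = x⁻¹ * (x * y * x⁻¹) * x := by group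
      rw [e]
      refine mem_inf.2 ⟨W.mul_mem (W.mul_mem (W.inv_mem (hXW hx)) hy.1) (hXW hx), ?_⟩
      simpa only [_root_.inv_inv] using (inferInstance : N.Normal).conj_mem _ hy.2 x⁻¹
  refine crit h ih hN hP1N g1 f1 ?_ hn ?_
  · apply norm
    rw [hH1, map_sub h ih c1]
    exact le_sup_left
  · rw [hnP]
    apply norm
    rw [hH2, map_sub h.symm ih c3]
    exact le_sup_left

/-- no proper normal subgroup contains `A` -/
theorem normal_proper (hG : Gross.{u} π) {Y : Subgroup G} [Y.Normal] (hY : Y ≠ ⊤) (h1 : LA ≤ Y) (h2 : KA ≤ Y) :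
    PiN π (Nat.card ↥(LA ⊔ LB)) := by
  have e1 := sub_hall h ih hY h1 h2
  have e2 := map_sub h ih h1
  set H1 := LA.subgroupOf Y ⊔ LB.subgroupOf Y with hH1
  set H := H1.map Y.subtype with hH
  have hHY : H ≤ Y := map_subtype_le H1
  have hcH : PiN π (Nat.card H) := by
    rw [hH, card_map_of_injective Y.subtype_injective]; exact e1.1
  have hnorm : LB ≤ normalizer (H : Set G) := by
    intro b hb
    -- `H ^ b` is a Hall subgroup of `Y`
    have hbY : MulAut.conj b • H ≤ Y := by
      intro x hx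
      rw [mem_conj_smul] at hx
      have := (inferInstance : Y.Normal).conj_mem _ (hHY hx) b
      simpa [mul_assoc] using this
    have hHsub : H.subgroupOf Y = H1 := by
      rw [hH, subgroupOf, comap_map_eq_self_of_injective Y.subtype_injective]
    have hcard2 : Nat.card ((MulAut.conj b • H).subgroupOf Y) = Nat.card H1 := by
      rw [Nat.card_congr (subgroupOfEquivOfLe hbY).toEquiv, Cfsg.Agent.Solvable.SZ.card_conj_smul, hH,
        card_map_of_injective Y.subtype_injective]
    have hall2 : IsPiHall π ((MulAut.conj b • H).subgroupOf Y) := by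
      refine ⟨by rw [hcard2]; exact e1.1, ?_⟩
      have h3 := ((MulAut.conj b • H).subgroupOf Y).card_mul_index
      have h4 := H1.card_mul_index
      rw [← h4, hcard2] at h3
      have h5 : ((MulAut.conj b • H).subgroupOf Y).index = H1.index :=
        Nat.eq_of_mul_eq_mul_left Nat.card_pos h3
      have : PiN' π ((MulAut.conj b • H).subgroupOf Y).index := by rw [h5]; exact e1.2
      exact this
    obtain ⟨y, hy⟩ := hG Y _ _ e1 hall2
    obtain ⟨y', hy'Y, hy'⟩ := Cfsg.Agent.Solvable.SZ.conj_of_subgroupOf Y H (MulAut.conj b • H) hHY hbY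
      ⟨y, by rw [hHsub]; exact hy.symm⟩
    obtain ⟨c, hc, d, hd, a, ha, a', ha', rfl⟩ := h.symm.prod y'
    have hcd : c * d ∈ Y := by
      have h9 := Y.mul_mem hy'Y (Y.inv_mem (Y.mul_mem (h1 ha) (h2 ha')))
      rwa [mul_inv_cancel_right] at h9
    obtain ⟨hcY, hdY⟩ := split_mem h.lb h.kb h.cb hc hd hcd
    -- the subgroup `R`
    set α := a * a' with hα
    have hR : MulAut.conj ((c * d)⁻¹ * b) • H = MulAut.conj α • H := by
      rw [map_mul, mul_smul, ← hy', ← mul_smul, ← map_mul, inv_mul_cancel_left]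
    have hH_le : H ≤ MulAut.conj α • H := by
      conv_lhs => rw [e2]
      refine sup_le ?_ ?_
      · rw [conj_smul_le_iff]
        intro x hx
        have h5 : α⁻¹ * x * α = a⁻¹ * x * a := by
          have e1 := h.ca (a⁻¹ * x * a) (LA.mul_mem (LA.mul_mem (LA.inv_mem ha) hx) ha) a' ha'
          calc (a * a')⁻¹ * x * (a * a') = a'⁻¹ * ((a⁻¹ * x * a) * a') := by group
            _ = a'⁻¹ * (a' * (a⁻¹ * x * a)) := by rw [e1]
            _ = _ := by group
        rw [h5, e2]
        exact mem_sup_left (LA.mul_mem (LA.mul_mem (LA.inv_mem ha) hx) ha)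
      · rw [← hR, conj_smul_le_iff]
        intro x hx
        rw [e2]
        refine mem_sup_right (mem_inf.2 ⟨?_, ?_⟩)
        · have h6 : d * (b * 1) = b * d := by rw [mul_one, h.cb b hb d hd]
          have h5 : ((c * d)⁻¹ * b)⁻¹ * x * ((c * d)⁻¹ * b) = b⁻¹ * (c * x * c⁻¹) * b := by
            have e3 := h.cb x hx.1 d hd
            have e4 : d * x * d⁻¹ = x := by rw [← e3]; group
            calc ((c * d)⁻¹ * b)⁻¹ * x * ((c * d)⁻¹ * b) = b⁻¹ * (c * (d * x * d⁻¹) * c⁻¹) * b := by group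
              _ = _ := by rw [e4]
          rw [h5]
          exact LB.mul_mem (LB.mul_mem (LB.inv_mem hb) (LB.mul_mem (LB.mul_mem hc hx.1) (LB.inv_mem hc))) hb
        · have := (inferInstance : Y.Normal).conj_mem x hx.2 ((c * d)⁻¹ * b)⁻¹
          simpa only [_root_.mul_inv_rev, _root_.inv_inv] using this
    have hH_eq : H = MulAut.conj ((c * d)⁻¹ * b) • H := by
      rw [hR]
      apply eq_of_le_of_card_ge hH_le
      rw [Cfsg.Agent.Solvable.SZ.card_conj_smul]
    have hmem : (c * d)⁻¹ * b ∈ normalizer (H : Set G) := by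
      rw [mem_normalizer_iff]
      intro z
      constructor
      · intro hz
        rw [hH_eq, mem_conj_smul]
        have e3 : ((c * d)⁻¹ * b)⁻¹ * ((c * d)⁻¹ * b * z * ((c * d)⁻¹ * b)⁻¹) * ((c * d)⁻¹ * b) = z := by group
        rw [e3]
        exact hz
      · intro hz
        rw [hH_eq, mem_conj_smul] at hz
        have e3 : ((c * d)⁻¹ * b)⁻¹ * ((c * d)⁻¹ * b * z * ((c * d)⁻¹ * b)⁻¹) * ((c * d)⁻¹ * b) = z := by group
        rw [e3] at hz
        exact hz
    have e5 : (c * d)⁻¹ * b = (c⁻¹ * b) * d⁻¹ := by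
      have e3 := h.cb (c⁻¹ * b) (LB.mul_mem (LB.inv_mem hc) hb) d⁻¹ (KB.inv_mem hd)
      rw [e3]; group
    rw [e5] at hmem
    obtain ⟨h5, -⟩ := split_mem h.lb h.kb h.cb (LB.mul_mem (LB.inv_mem hc) hb) (KB.inv_mem hd) hmem
    have h6 : c ∈ normalizer (H : Set G) := by
      apply le_normalizer
      rw [e2]
      exact mem_sup_right (mem_inf.2 ⟨hc, hcY⟩)
    have := mul_mem h6 h5
    simpa using this
  have h3 : PiN π (Nat.card ↥(LB ⊔ H)) := by
    have h4 := Cfsg.Agent.H263.ChermakDelgado.ncard_mul_inf LB H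
    rw [← coe_mul_of_left_le_normalizer_right LB H hnorm] at h4
    have h5 : Nat.card ↥(LB ⊔ H) ∣ Nat.card LB * Nat.card H := ⟨_, by rw [← h4, ← Nat.card_coe_set_eq]; rfl⟩
    exact (h.lb.mul hcH).of_dvd h5
  refine h3.of_dvd (card_dvd_of_le (sup_le ?_ le_sup_left))
  refine le_trans ?_ le_sup_right
  rw [e2]
  exact le_sup_left

/-- `KA N = KB N` -/
theorem quot_eq {N : Subgroup G} [N.Normal] (h1 : LB ⊔ KB ⊔ N = ⊤) (hbad : ¬ PiN π (Nat.card ↥(LA ⊔ LB))) :
    LA ≤ LB ⊔ N ∧ KA ⊔ N = KB ⊔ N := by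
  have hq := h.quot N
  set q := QuotientGroup.mk' N with hqd
  set la := LA.map q
  set ka := KA.map q
  set lb := LB.map q
  set kb := KB.map q
  have hker : ∀ X : Subgroup G, (X.map q).comap q = X ⊔ N := by
    intro X
    rw [comap_map_eq, hqd, QuotientGroup.ker_mk']
  have hmapN : N.map q = ⊥ := by
    rw [Subgroup.map_eq_bot_iff, hqd, QuotientGroup.ker_mk']
  have e1 : lb ⊔ kb = ⊤ := by
    have := congrArg (Subgroup.map q) h1
    rw [Subgroup.map_sup, Subgroup.map_sup, hmapN, sup_bot_eq,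
      map_top_of_surjective q (QuotientGroup.mk'_surjective N)] at this
    exact this
  have key : ∀ x : G ⧸ N, (∃ c ∈ lb, ∃ d ∈ kb, x = c * d ∧ orderOf c ∣ orderOf x ∧ orderOf d ∣ orderOf x) := by
    intro x
    have hx : x ∈ lb ⊔ kb := by rw [e1]; exact mem_top x
    obtain ⟨c, hc, d, hd, rfl⟩ := (mem_sup_comm hq.cb).1 hx
    obtain ⟨h2, h3⟩ := split hq.lb hq.kb hq.cb hc hd
    exact ⟨c, hc, d, hd, rfl, orderOf_dvd_of_mem_zpowers h2, orderOf_dvd_of_mem_zpowers h3⟩
  have e2 : la ≤ lb := by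
    intro x hx
    obtain ⟨c, hc, d, hd, hx', h2, h3⟩ := key x
    have h4 : orderOf d = 1 := by
      apply eq_one_of_both (π := π)
      · exact hq.la.of_dvd (h3.trans (Subgroup.orderOf_dvd_natCard la hx))
      · exact hq.kb.of_dvd (Subgroup.orderOf_dvd_natCard kb hd)
    rw [orderOf_eq_one_iff] at h4
    rw [hx', h4, mul_one]
    exact hc
  have e3 : ka ≤ kb := by
    intro x hx
    obtain ⟨c, hc, d, hd, hx', h2, h3⟩ := key x
    have h4 : orderOf c = 1 := by
      apply eq_one_of_both (π := π)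
      · exact hq.lb.of_dvd (Subgroup.orderOf_dvd_natCard lb hc)
      · exact hq.ka.of_dvd (h2.trans (Subgroup.orderOf_dvd_natCard ka hx))
    rw [orderOf_eq_one_iff] at h4
    rw [hx', h4, one_mul]
    exact hd
  have e4 : lb ⊔ ka = ⊤ := by
    have hZ : LA ⊔ KA ⊔ LB ⊔ N = ⊤ := by
      by_contra hne
      exact hbad (proper h ih hne (le_sup_left.trans (le_sup_left.trans le_sup_left))
        (le_sup_right.trans (le_sup_left.trans le_sup_left)) (le_sup_right.trans le_sup_left))
    have := congrArg (Subgroup.map q) hZ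
    rw [Subgroup.map_sup, Subgroup.map_sup, Subgroup.map_sup, hmapN, sup_bot_eq,
      map_top_of_surjective q (QuotientGroup.mk'_surjective N)] at this
    rw [← this]
    apply le_antisymm
    · exact sup_le le_sup_right (le_sup_right.trans le_sup_left)
    · exact sup_le (sup_le (e2.trans le_sup_left) le_sup_right) le_sup_left
  have e5 : kb ≤ ka := by
    intro x hx
    have hx2 : x ∈ lb ⊔ ka := by rw [e4]; exact mem_top x
    obtain ⟨l, hl, k, hk, rfl⟩ := (mem_sup_comm (fun a ha b hb => hq.cb a ha b (e3 hb))).1 hx2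
    have h2 : l ∈ kb := by
      have := kb.mul_mem hx (kb.inv_mem (e3 hk))
      simpa using this
    have h3 : l ∈ lb ⊓ kb := ⟨hl, h2⟩
    rw [eq_bot_of_coprime hq.lb hq.kb, mem_bot] at h3
    rw [h3, one_mul]
    exact hk
  have e6 : ka = kb := le_antisymm e3 e5
  refine ⟨?_, ?_⟩
  · rw [← hker LB]
    exact (le_comap_map q LA).trans (comap_mono e2)
  · rw [← hker KA, ← hker KB]
    exact congrArg _ e6

end Min

/-- The minimal counterexample. -/
structure MinCex (π : Set ℕ) {G : Type u} [Group G] [Finite G] (LA KA LB KB N : Subgroup G) : Prop where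
  pd : PD π LA KA LB KB
  la : LA ≠ ⊥
  lb : LB ≠ ⊥
  normal : N.Normal
  min : ∀ M : Subgroup G, M.Normal → M ≤ N → M = ⊥ ∨ M = N
  nab : ¬ ∀ x ∈ N, ∀ y ∈ N, Commute x y
  npi' : ¬ PiN' π (Nat.card N)
  cent : Subgroup.centralizer (N : Set G) = ⊥
  top : LB ⊔ KB ⊔ N = ⊤
  lab : LA ≤ LB ⊔ N
  kab : KA ⊔ N = KB ⊔ N
  nor : ∀ Y : Subgroup G, Y.Normal → LA ≤ Y → KA ≤ Y → Y = ⊤

theorem exists_minimal_normal (K : Subgroup G) [K.Normal] (hK : K ≠ ⊥) :
    ∃ N : Subgroup G, N.Normal ∧ N ≠ ⊥ ∧ N ≤ K ∧ ∀ M : Subgroup G, M.Normal → M ≤ N → M = ⊥ ∨ M = N := by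
  have hfin : {T : Subgroup G | T.Normal ∧ T ≠ ⊥ ∧ T ≤ K}.Finite := Set.toFinite _
  have hne : {T : Subgroup G | T.Normal ∧ T ≠ ⊥ ∧ T ≤ K}.Nonempty := ⟨K, inferInstance, hK, le_rfl⟩
  obtain ⟨T, ⟨hT0, hTn, hTK⟩, hTmin⟩ := hfin.exists_minimal hne
  refine ⟨T, hT0, hTn, hTK, fun S hS hST => ?_⟩
  by_cases hS0 : S = ⊥
  · exact Or.inl hS0
  · exact Or.inr (le_antisymm hST (hTmin ⟨hS, hS0, hST.trans hTK⟩ hST))

theorem isPGroup_of_min_abelian {N : Subgroup G} [N.Normal] (hN : N ≠ ⊥)
    (hmin : ∀ M : Subgroup G, M.Normal → M ≤ N → M = ⊥ ∨ M = N)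
    (hab : ∀ x ∈ N, ∀ y ∈ N, Commute x y) : ∃ p : ℕ, p.Prime ∧ IsPGroup p N := by
  have h1 : 1 < Nat.card N := (one_lt_card_iff_ne_bot N).2 hN
  obtain ⟨p, hp, hpd⟩ := Nat.exists_prime_and_dvd h1.ne'
  refine ⟨p, hp, ?_⟩
  have hFp : Fact p.Prime := ⟨hp⟩
  -- the subgroup of elements of order dividing `p`
  let M : Subgroup G :=
    { carrier := {x | x ∈ N ∧ x ^ p = 1}
      one_mem' := ⟨one_mem N, one_pow p⟩
      mul_mem' := by
        rintro x y ⟨hx, hx'⟩ ⟨hy, hy'⟩
        exact ⟨mul_mem hx hy, by rw [(hab x hx y hy).mul_pow, hx', hy', one_mul]⟩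
      inv_mem' := by
        rintro x ⟨hx, hx'⟩
        exact ⟨inv_mem hx, by rw [inv_pow, hx', inv_one]⟩ }
  have hM : M.Normal := by
    constructor
    rintro x ⟨hx, hx'⟩ g
    exact ⟨(inferInstance : N.Normal).conj_mem x hx g, by rw [conj_pow, hx', mul_one, mul_inv_cancel]⟩
  obtain ⟨x, hx⟩ := exists_prime_orderOf_dvd_card' (G := N) p hpd
  have hxM : (x : G) ∈ M := ⟨x.2, by
    have := pow_orderOf_eq_one x
    rw [hx] at this
    exact congrArg Subtype.val this⟩
  rcases hmin M hM (fun y hy => hy.1) with h2 | h2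
  · exfalso
    rw [h2, mem_bot] at hxM
    have : x = 1 := Subtype.ext hxM
    rw [this, orderOf_one] at hx
    exact hp.one_lt.ne hx
  · intro y
    refine ⟨1, ?_⟩
    have h3 : (y : G) ∈ M := by rw [h2]; exact y.2
    rw [pow_one]
    exact Subtype.ext h3.2

/-- **The minimal counterexample.** -/
theorem exists_minCex (hG : Gross.{u} π) (h : PD π LA KA LB KB) (ih : IH.{u} π (Nat.card G))
    (hbad : ¬ PiN π (Nat.card ↥(LA ⊔ LB))) :
    ∃ LA KA LB KB N : Subgroup G, MinCex π LA KA LB KB N := by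
  have htop : (⊤ : Subgroup G) ≠ ⊥ := by
    intro h0
    apply hbad
    have : LA ⊔ LB = ⊥ := eq_bot_iff.2 (by rw [← h0]; exact le_top)
    rw [this, card_bot]
    exact PiN.one
  obtain ⟨N, hN, hN1, -, hmin⟩ := exists_minimal_normal (⊤ : Subgroup G) htop
  have hnab : ¬ ∀ x ∈ N, ∀ y ∈ N, Commute x y := by
    intro hab
    obtain ⟨p, hp, hpN⟩ := isPGroup_of_min_abelian hN1 hmin hab
    have := Fact.mk hp
    obtain ⟨n, hn⟩ := IsPGroup.iff_card.1 hpN
    by_cases hpπ : p ∈ π
    · apply hbad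
      apply Min.of_pi h ih hN1
      rw [hn]
      intro r hr hrd
      rw [(Nat.prime_dvd_prime_iff_eq hr hp).1 (hr.dvd_of_dvd_pow hrd)]
      exact hpπ
    · apply hbad
      apply Min.of_pi' h ih hN1
      rw [hn]
      intro r hr hrπ hrd
      rw [(Nat.prime_dvd_prime_iff_eq hr hp).1 (hr.dvd_of_dvd_pow hrd)] at hrπ
      exact hpπ hrπ
  have hcent : Subgroup.centralizer (N : Set G) = ⊥ := by
    by_contra hC
    obtain ⟨M, hM, hM1, hMC, -⟩ := exists_minimal_normal (Subgroup.centralizer (N : Set G)) hC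
    rcases hmin (M ⊓ N) inferInstance inf_le_right with h1 | h1
    · exact hbad (Min.two_normal h ih hN1 hM1 (by rw [inf_comm]; exact h1))
    · apply hnab
      intro x hx y hy
      have h2 : x ∈ M := by rw [← h1] at hx; exact hx.1
      exact (mem_centralizer_iff.1 (hMC h2) y hy).symm
  have hnpi' : ¬ PiN' π (Nat.card N) := fun h1 => hbad (Min.of_pi' h ih hN1 h1)
  -- up to symmetry
  have main : ∀ LA KA LB KB : Subgroup G, PD π LA KA LB KB → ¬ PiN π (Nat.card ↥(LA ⊔ LB)) →
      LB ⊔ KB ⊔ N = ⊤ → MinCex π LA KA LB KB N := by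
    intro LA KA LB KB h hbad h1
    obtain ⟨h2, h3⟩ := Min.quot_eq h ih h1 hbad
    refine ⟨h, ?_, ?_, hN, hmin, hnab, hnpi', hcent, h1, h2, h3, ?_⟩
    · rintro rfl
      apply hbad
      rw [bot_sup_eq]
      exact h.lb
    · rintro rfl
      apply hbad
      rw [sup_bot_eq]
      exact h.la
    · intro Y hY h4 h5
      by_contra hne
      exact hbad (Min.normal_proper h ih hG hne h4 h5)
  by_cases h1 : LB ⊔ KB ⊔ N = ⊤
  · exact ⟨LA, KA, LB, KB, N, main _ _ _ _ h hbad h1⟩
  · by_cases h2 : LA ⊔ KA ⊔ N = ⊤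
    · exact ⟨LB, KB, LA, KA, N, main _ _ _ _ h.symm (by rwa [sup_comm]) h2⟩
    · exact absurd (Min.two_proper h ih hG hN1 h2 h1) hbad

end Cfsg.Agent.H817.PD
end

-- part: H817/PD/Count
section
/-!
# Products of two π-decomposable groups: the action on the simple factors (helper817, for S4246)

Counting lemmas for a non-abelian minimal normal subgroup `N = T 0 × … × T (m-1)`.
-/

set_option autoImplicit false
set_option linter.dupNamespace false
set_option linter.unusedSectionVars false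
set_option linter.unusedVariables false

namespace Cfsg.Agent.H817.PD

open Subgroup Cfsg Cfsg.Agent.H988.CPi Cfsg.Agent.H803.S74
open scoped Pointwise

universe u

section sys

variable {G : Type u} [Group G] {N : Subgroup G} [N.Normal] {m : ℕ} {T : Fin m → Subgroup G} {e : N ≃* ∀ i, T i}
  (h : Sys N T e) {σ : G →* Equiv.Perm (Fin m)} (hσ : ∀ g i, T (σ g i) = (T i).map (MulAut.conj g).toMonoidHom)
include h hσ

/-- equivariance of the coordinates -/
theorem coord (g : G) (i : Fin m) (n : N) :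
    (e (MulAut.conjNormal g n) (σ g i) : G) = g * (e n i : G) * g⁻¹ := by
  classical
  -- a characterisation of coordinates
  have key : ∀ (n : N) (i : Fin m) (t : T i), (∀ s ∈ T i, Commute ((t : G)⁻¹ * n) s) → e n i = t := by
    intro n i t hs
    have h1 : e (⟨t, h.le i t.2⟩ : N) = Pi.mulSingle i t := by
      apply e.symm.injective
      rw [MulEquiv.symm_apply_apply]
      exact Subtype.ext (h.single i t).symm
    have h2 : e ((⟨t, h.le i t.2⟩ : N)⁻¹ * n) i = 1 := by
      rw [h.one]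
      intro s hs'
      exact hs s hs'
    rw [map_mul, map_inv, h1, Pi.mul_apply, Pi.inv_apply, Pi.mulSingle_eq_same] at h2
    exact (inv_mul_eq_one.1 h2).symm
  have key2 : ∀ (n : N) (i : Fin m), ∀ s ∈ T i, Commute (((e n i : T i) : G)⁻¹ * n) s := by
    intro n i s hs
    have h1 : e (⟨e n i, h.le i (e n i).2⟩ : N) = Pi.mulSingle i (e n i) := by
      apply e.symm.injective
      rw [MulEquiv.symm_apply_apply]
      exact Subtype.ext (h.single i (e n i)).symm
    have h2 : e ((⟨e n i, h.le i (e n i).2⟩ : N)⁻¹ * n) i = 1 := by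
      rw [map_mul, map_inv, h1, Pi.mul_apply, Pi.inv_apply, Pi.mulSingle_eq_same]
      simp
    exact (h.one _ i).1 h2 s hs
  have hmem : g * (e n i : G) * g⁻¹ ∈ T (σ g i) := Sys.mem_sigma hσ (e n i).2
  have := key (MulAut.conjNormal g n) (σ g i) ⟨g * (e n i : G) * g⁻¹, hmem⟩ ?_
  · rw [this]
  · intro s hs
    rw [hσ] at hs
    obtain ⟨t, ht, rfl⟩ := hs
    have h3 := key2 n i t ht
    simp only [MulAut.conjNormal_apply, MulEquiv.coe_toMonoidHom, MulAut.conj_apply]
    have h4 : (g * (e n i : G) * g⁻¹)⁻¹ * (g * (n : G) * g⁻¹) = g * ((e n i : G)⁻¹ * n) * g⁻¹ := by group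
    rw [h4]
    have h5 := h3.map (MulAut.conj g).toMonoidHom
    simpa only [_root_.Commute.conj_iff, _root_.MulEquiv.toMonoidHom_eq_coe, _root_.MonoidHom.coe_coe, _root_.MulAut.conj_apply] using h5

/-- an element which centralises all factors centralises `N` -/
theorem mem_centralizer {g : G} (hg : ∀ i, ∀ t ∈ T i, g * t = t * g) : g ∈ Subgroup.centralizer (N : Set G) := by
  have hfix : ∀ i, σ g i = i := by
    intro i
    rw [h.sigma_eq_iff hσ]
    intro x hx
    rw [hg i x hx, mul_inv_cancel_right]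
    exact hx
  rw [mem_centralizer_iff]
  intro n hn
  have h1 : MulAut.conjNormal g (⟨n, hn⟩ : N) = ⟨n, hn⟩ := by
    apply e.injective
    funext i
    apply Subtype.ext
    have h2 := coord h hσ g i ⟨n, hn⟩
    rw [hfix i] at h2
    rw [h2, hg i _ (e ⟨n, hn⟩ i).2, mul_inv_cancel_right]
  have h2 : g * n * g⁻¹ = n := by
    have := congrArg Subtype.val h1
    rwa [MulAut.conjNormal_apply] at this
  calc n * g = (g * n * g⁻¹) * g := by rw [h2]
    _ = g * n := by group

variable [Finite G]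

theorem card_T (i j : Fin m) : Nat.card (T i) = Nat.card (T j) := by
  obtain ⟨g, hg⟩ := h.tr i j
  rw [hg]
  exact (card_map_of_injective (f := (MulAut.conj g).toMonoidHom) (MulAut.conj g).injective).symm

theorem card_N (i : Fin m) : Nat.card N = Nat.card (T i) ^ m := by
  rw [Nat.card_congr e.toEquiv, Nat.card_pi]
  rw [Finset.prod_congr rfl (fun j _ => card_T h hσ j i)]
  rw [Finset.prod_const, Finset.card_univ, Fintype.card_fin]

/-- `X ≤ N` centralised by `L`: at most one coordinate for each orbit of `L`. -/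
theorem card_dvd_orbits (i0 : Fin m) {X L : Subgroup G} (hX : X ≤ N) (hc : ∀ a ∈ L, ∀ b ∈ X, a * b = b * a)
    {O : Type} [Finite O] (p : Fin m → O) (r : O → Fin m) (hr : ∀ i, ∃ y ∈ L, σ y (r (p i)) = i) :
    Nat.card X ∣ Nat.card (T i0) ^ Nat.card O := by
  cases nonempty_fintype O
  let f : X →* ∀ o : O, T (r o) :=
    { toFun := fun x o => e ⟨x, hX x.2⟩ (r o)
      map_one' := by
        funext o
        have : (⟨((1 : X) : G), hX (1 : X).2⟩ : N) = 1 := rfl
        rw [this, map_one]; rfl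
      map_mul' := fun x y => by
        funext o
        have : (⟨((x * y : X) : G), hX (x * y).2⟩ : N) = ⟨x, hX x.2⟩ * ⟨y, hX y.2⟩ := rfl
        rw [this, map_mul]; rfl }
  have hf : Function.Injective f := by
    rw [injective_iff_map_eq_one]
    intro x hx
    have h1 : e ⟨x, hX x.2⟩ = 1 := by
      funext i
      obtain ⟨y, hy, hyi⟩ := hr i
      have h2 := coord h hσ y (r (p i)) ⟨x, hX x.2⟩
      have h3 : MulAut.conjNormal y (⟨x, hX x.2⟩ : N) = ⟨x, hX x.2⟩ := by
        apply Subtype.ext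
        rw [MulAut.conjNormal_apply]
        show y * x * y⁻¹ = x
        rw [hc y hy x x.2, mul_inv_cancel_right]
      rw [h3, hyi] at h2
      have h4 : e ⟨x, hX x.2⟩ (r (p i)) = 1 := congrFun hx (p i)
      rw [h4] at h2
      apply Subtype.ext
      rw [h2]
      simp only [_root_.OneMemClass.coe_one, _root_.mul_one, _root_.mul_inv_cancel, _root_.Pi.one_apply]
    have h2 : (⟨x, hX x.2⟩ : N) = 1 := e.injective (by rw [h1, map_one])
    exact Subtype.ext (congrArg (fun z : N => (z : G)) h2)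
  have h1 := Subgroup.card_dvd_of_injective f hf
  rw [Nat.card_pi, Finset.prod_congr rfl (fun o _ => card_T h hσ (r o) i0), Finset.prod_const, Finset.card_univ,
    ← Nat.card_eq_fintype_card] at h1
  exact h1

end sys

/-- several homomorphisms with trivial common kernel -/
theorem card_dvd_pow {X M : Type*} [Group X] [Group M] {ι : Type*} [Finite ι] (f : ι → X →* M)
    (hf : ∀ x, (∀ i, f i x = 1) → x = 1) : Nat.card X ∣ Nat.card M ^ Nat.card ι := by
  cases nonempty_fintype ι
  have h1 : Function.Injective (MonoidHom.pi f) := by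
    rw [injective_iff_map_eq_one]
    intro x hx
    exact hf x fun i => congrFun hx i
  have h2 := Subgroup.card_dvd_of_injective (MonoidHom.pi f) h1
  rwa [Nat.card_pi, Finset.prod_const, Finset.card_univ, ← Nat.card_eq_fintype_card] at h2

/-- the orbits of `L` on the factors, with representatives -/
structure Orb {G : Type u} [Group G] {m : ℕ} (σ : G →* Equiv.Perm (Fin m)) (L : Subgroup G) {O : Type}
    (p : Fin m → O) (r : O → Fin m) : Prop where
  pr : ∀ o, p (r o) = o
  eq : ∀ i j, p i = p j ↔ ∃ y ∈ L, σ y i = j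

theorem exists_orb {G : Type u} [Group G] {m : ℕ} (σ : G →* Equiv.Perm (Fin m)) (L : Subgroup G) :
    ∃ (O : Type) (_ : Finite O) (p : Fin m → O) (r : O → Fin m), Orb σ L p r := by
  let s : Setoid (Fin m) :=
    { r := fun i j => ∃ y ∈ L, σ y i = j
      iseqv :=
        { refl := fun i => ⟨1, one_mem L, by rw [map_one]; rfl⟩
          symm := by
            rintro i j ⟨y, hy, rfl⟩
            refine ⟨y⁻¹, inv_mem hy, ?_⟩
            rw [map_inv, Equiv.Perm.inv_def, Equiv.symm_apply_apply]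
          trans := by
            rintro i j k ⟨y, hy, rfl⟩ ⟨z, hz, rfl⟩
            exact ⟨z * y, mul_mem hz hy, by rw [map_mul]; rfl⟩ } }
  refine ⟨Quotient s, inferInstance, Quotient.mk s, Quotient.out, ?_, ?_⟩
  · intro o
    exact Quotient.out_eq o
  · intro i j
    exact Quotient.eq (r := s)

section two

variable {G : Type u} [Group G] [Finite G] {N : Subgroup G} [N.Normal] {m : ℕ} {T : Fin m → Subgroup G}
  {e : N ≃* ∀ i, T i}
  (h : Sys N T e) {σ : G →* Equiv.Perm (Fin m)} (hσ : ∀ g i, T (σ g i) = (T i).map (MulAut.conj g).toMonoidHom)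
include h hσ

theorem ker_le_normalizer (i : Fin m) : σ.ker ≤ normalizer (T i : Set G) := by
  intro x hx
  rw [MonoidHom.mem_ker] at hx
  have h1 : ∀ y ∈ T i, x * y * x⁻¹ ∈ T i := by
    have : σ x i = i := by rw [hx]; rfl
    exact (h.sigma_eq_iff hσ).1 this
  have hx' : σ x⁻¹ = 1 := by rw [map_inv, hx, inv_one]
  have h2 : ∀ y ∈ T i, x⁻¹ * y * x⁻¹⁻¹ ∈ T i := by
    have : σ x⁻¹ i = i := by rw [hx']; rfl
    exact (h.sigma_eq_iff hσ).1 this
  rw [mem_normalizer_iff]
  intro y
  constructor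
  · exact h1 y
  · intro hy
    have := h2 _ hy
    simpa [mul_assoc] using this

/-- the action of the kernel of `σ` on the `i`-th factor -/
noncomputable def psi (i : Fin m) : σ.ker →* MulAut (T i) :=
  (T i).normalizerMonoidHom.comp (Subgroup.inclusion (ker_le_normalizer h hσ i))

theorem psi_apply (i : Fin m) (x : σ.ker) (t : T i) : ((psi h hσ i x t : T i) : G) = x * t * (x : G)⁻¹ := rfl

/-- the action conjugated by `g` -/
noncomputable def psiG (i : Fin m) (g : G) : σ.ker →* MulAut (T i) :=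
  (psi h hσ i).comp (MulAut.conjNormal (H := σ.ker) g⁻¹).toMonoidHom

theorem psiG_apply (i : Fin m) (g : G) (x : σ.ker) (t : T i) :
    ((psiG h hσ i g x t : T i) : G) = (g⁻¹ * x * g) * t * (g⁻¹ * x * g)⁻¹ := by
  show ((psi h hσ i (MulAut.conjNormal (H := σ.ker) g⁻¹ x) t : T i) : G) = _
  rw [psi_apply, MulAut.conjNormal_apply, inv_inv]

theorem psiG_eq_one (i : Fin m) (g : G) (x : σ.ker) (hx : psiG h hσ i g x = 1) :
    ∀ t ∈ T (σ g i), (x : G) * t = t * x := by
  intro t ht
  rw [hσ] at ht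
  obtain ⟨s, hs, rfl⟩ := ht
  have h1 := psiG_apply h hσ i g x ⟨s, hs⟩
  rw [hx] at h1
  have h2 : s = (g⁻¹ * x * g) * s * (g⁻¹ * x * g)⁻¹ := h1
  show (x : G) * (g * s * g⁻¹) = (g * s * g⁻¹) * x
  have h3 : s * (g⁻¹ * x * g) = (g⁻¹ * x * g) * s := by
    calc s * (g⁻¹ * x * g) = ((g⁻¹ * x * g) * s * (g⁻¹ * x * g)⁻¹) * (g⁻¹ * x * g) := by rw [← h2]
      _ = _ := by group
  calc (x : G) * (g * s * g⁻¹) = g * ((g⁻¹ * x * g) * s) * g⁻¹ := by group
    _ = g * (s * (g⁻¹ * x * g)) * g⁻¹ := by rw [h3]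
    _ = _ := by group

/-- the 2-part of a group commuting with `L` -/
theorem two_part (i0 : Fin m) {L K : Subgroup G} (hL : ¬ 2 ∣ Nat.card L) (hc : ∀ a ∈ L, ∀ b ∈ K, a * b = b * a)
    (hcent : Subgroup.centralizer (N : Set G) = ⊥) {O : Type} [Finite O] {p : Fin m → O} {r : O → Fin m}
    (ho : Orb σ L p r) :
    (Nat.card K).factorization 2 + 1 ≤ Nat.card O * (1 + (Nat.card (MulAut (T i0))).factorization 2) := by
  classical
  cases nonempty_fintype O
  have hF : Fact (Nat.Prime 2) := ⟨Nat.prime_two⟩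
  obtain ⟨Q0⟩ : Nonempty (Sylow 2 K) := inferInstance
  set Q : Subgroup G := (Q0 : Subgroup K).map K.subtype with hQ
  have hQK : Q ≤ K := map_subtype_le _
  have hcQ : Nat.card Q = 2 ^ (Nat.card K).factorization 2 := by
    rw [hQ, card_map_of_injective K.subtype_injective]
    exact Q0.card_eq_multiplicity
  -- elements of `Q` permute the orbits
  have hperm : ∀ k ∈ K, ∀ i j, p i = p j → p (σ k i) = p (σ k j) := by
    intro k hk i j hij
    obtain ⟨y, hy, rfl⟩ := (ho.eq i j).1 hij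
    rw [ho.eq]
    refine ⟨y, hy, ?_⟩
    have := congrArg σ (hc y hy k hk)
    rw [map_mul, map_mul] at this
    exact congrArg (fun z => z i) this
  let F : K → O → O := fun k o => p (σ (k : G) (r o))
  have F1 : ∀ o, F 1 o = o := by
    intro o
    show p (σ ((1 : K) : G) (r o)) = o
    rw [OneMemClass.coe_one, map_one]
    exact ho.pr o
  have Fm : ∀ a b o, F (a * b) o = F a (F b o) := by
    intro a b o
    show p (σ ((a * b : K) : G) (r o)) = p (σ (a : G) (r (p (σ (b : G) (r o)))))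
    rw [Subgroup.coe_mul, map_mul]
    exact hperm a a.2 _ _ (ho.pr _).symm
  let ρ : K →* Equiv.Perm O :=
    { toFun := fun k => ⟨F k, F k⁻¹, fun o => by rw [← Fm, inv_mul_cancel, F1], fun o => by
        rw [← Fm, mul_inv_cancel, F1]⟩
      map_one' := Equiv.ext F1
      map_mul' := fun a b => Equiv.ext (Fm a b) }
  have hρ : ∀ k o, ρ k o = p (σ (k : G) (r o)) := fun k o => rfl
  let ρQ : Q →* Equiv.Perm O := ρ.comp (Subgroup.inclusion hQK)
  have hker : ∀ x : ρQ.ker, ((x : Q) : G) ∈ σ.ker := by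
    intro x
    have hx : ρQ x = 1 := x.2
    rw [MonoidHom.mem_ker]
    ext i
    -- `x` moves `i` within its `L`-orbit
    have h1 : p (σ ((x : Q) : G) i) = p i := by
      have h2 : p (σ ((x : Q) : G) (r (p i))) = p i := by
        have := congrArg (fun z : Equiv.Perm O => z (p i)) hx
        exact this
      rw [← h2]
      exact hperm _ (hQK (x : Q).2) _ _ (ho.pr _).symm
    obtain ⟨y, hy, hyi⟩ := (ho.eq _ _).1 h1.symm
    -- powers
    have h3 : ∀ n : ℕ, σ (((x : Q) : G) ^ n) i = σ (y ^ n) i := by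
      intro n
      induction n with
      | zero => simp only [_root_.pow_zero, _root_.map_one, _root_.Equiv.Perm.coe_one, _root_.id_eq]
      | succ n ih =>
        have hcom : ((x : Q) : G) * y ^ n = y ^ n * ((x : Q) : G) :=
          (hc (y ^ n) (pow_mem hy n) _ (hQK (x : Q).2)).symm
        calc σ (((x : Q) : G) ^ (n + 1)) i = σ ((x : Q) : G) (σ (((x : Q) : G) ^ n) i) := by
              rw [pow_succ', map_mul]; rfl
          _ = σ ((x : Q) : G) (σ (y ^ n) i) := by rw [ih]
          _ = σ (((x : Q) : G) * y ^ n) i := by rw [map_mul]; rfl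
          _ = σ (y ^ n * ((x : Q) : G)) i := by rw [hcom]
          _ = σ (y ^ n) (σ ((x : Q) : G) i) := by rw [map_mul]; rfl
          _ = σ (y ^ n) (σ y i) := by rw [hyi]
          _ = σ (y ^ (n + 1)) i := by rw [pow_succ, map_mul]; rfl
    -- coprimality
    have h4 : Nat.Coprime (orderOf ((x : Q) : G)) (orderOf y) := by
      have h5 : orderOf ((x : Q) : G) ∣ 2 ^ (Nat.card K).factorization 2 := by
        rw [← hcQ]; exact Subgroup.orderOf_dvd_natCard Q (x : Q).2
      refine Nat.Coprime.coprime_dvd_left h5 (Nat.Coprime.pow_left _ ?_)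
      rw [Nat.Prime.coprime_iff_not_dvd Nat.prime_two]
      intro h6
      exact hL (h6.trans (Subgroup.orderOf_dvd_natCard L hy))
    obtain ⟨n, hn1, hn2⟩ := Nat.chineseRemainder h4 1 0
    have h5 := h3 n
    have h6 : ((x : Q) : G) ^ n = ((x : Q) : G) := by
      have := pow_eq_pow_iff_modEq.2 hn1
      rwa [pow_one] at this
    have h7 : y ^ n = 1 := by
      have := pow_eq_pow_iff_modEq.2 hn2
      rwa [pow_zero] at this
    rw [h6, h7, map_one] at h5
    rw [h5]
  -- the kernel embeds in a product of automorphism groups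
  choose g hg using fun i => h.tr i0 i
  have hgσ : ∀ i, σ (g i) i0 = i := by
    intro i
    apply h.inj
    rw [hσ]
    exact (hg i).symm
  let j : ρQ.ker →* σ.ker :=
    { toFun := fun x => ⟨((x : Q) : G), hker x⟩
      map_one' := rfl
      map_mul' := fun _ _ => rfl }
  have h1 : Nat.card ρQ.ker ∣ Nat.card (MulAut (T i0)) ^ Nat.card O := by
    refine card_dvd_pow (fun o : O => (psiG h hσ i0 (g (r o))).comp j) ?_
    intro x hx
    have h2 : ∀ o, ∀ t ∈ T (r o), ((x : Q) : G) * t = t * ((x : Q) : G) := by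
      intro o
      have := psiG_eq_one h hσ i0 (g (r o)) (j x) (hx o)
      rw [hgσ] at this
      exact this
    have h3 : ((x : Q) : G) ∈ Subgroup.centralizer (N : Set G) := by
      apply mem_centralizer h hσ
      intro i t ht
      obtain ⟨y, hy, hyi⟩ := (ho.eq (r (p i)) i).1 (ho.pr (p i))
      rw [← hyi, hσ] at ht
      obtain ⟨s, hs, rfl⟩ := ht
      have h4 := h2 (p i) s hs
      have h5 : ((x : Q) : G) * y = y * ((x : Q) : G) := (hc y hy _ (hQK (x : Q).2)).symm
      have h6 : ((x : Q) : G) * y⁻¹ = y⁻¹ * ((x : Q) : G) := (hc y⁻¹ (inv_mem hy) _ (hQK (x : Q).2)).symm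
      show ((x : Q) : G) * (y * s * y⁻¹) = (y * s * y⁻¹) * ((x : Q) : G)
      calc ((x : Q) : G) * (y * s * y⁻¹) = (((x : Q) : G) * y) * s * y⁻¹ := by group
        _ = y * (((x : Q) : G) * s) * y⁻¹ := by rw [h5]; group
        _ = y * s * (((x : Q) : G) * y⁻¹) := by rw [h4]; group
        _ = _ := by rw [h6]; group
    rw [hcent, mem_bot] at h3
    exact Subtype.ext (Subtype.ext h3)
  have h2 : Nat.card Q = Nat.card ρQ.range * Nat.card ρQ.ker := by
    have h3 := card_mul_index ρQ.ker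
    rw [index_ker] at h3
    rw [← h3, mul_comm]
  have hO : Nat.card O ≠ 0 := by
    have : Nonempty O := ⟨p i0⟩
    exact Nat.card_pos.ne'
  have h3 : Nat.card ρQ.range ∣ (Nat.card O).factorial := by
    have := card_subgroup_dvd_card ρQ.range
    rwa [Nat.card_perm] at this
  have h4 : (Nat.card ρQ.range).factorization 2 < Nat.card O := by
    have h5 := (Nat.factorization_le_iff_dvd Nat.card_pos.ne' (Nat.factorial_ne_zero _)).2 h3 2
    have h6 := padicValNat_factorial_lt_of_ne_zero 2 hO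
    rw [← Nat.factorization_def _ Nat.prime_two] at h6
    omega
  have h5 : (Nat.card ρQ.ker).factorization 2 ≤ Nat.card O * (Nat.card (MulAut (T i0))).factorization 2 := by
    have h6 := (Nat.factorization_le_iff_dvd Nat.card_pos.ne' (pow_ne_zero _ Nat.card_pos.ne')).2 h1 2
    rwa [Nat.factorization_pow, Finsupp.smul_apply, smul_eq_mul] at h6
  have h6 : (Nat.card K).factorization 2 =
      (Nat.card ρQ.range).factorization 2 + (Nat.card ρQ.ker).factorization 2 := by
    have h7 := congrArg (fun n => n.factorization 2) h2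
    simp only [hcQ] at h7
    rw [Nat.factorization_mul Nat.card_pos.ne' Nat.card_pos.ne', Finsupp.add_apply,
      Nat.Prime.factorization_pow Nat.prime_two, Finsupp.single_eq_same] at h7
    exact h7
  rw [h6]
  calc _ ≤ Nat.card O + Nat.card O * (Nat.card (MulAut (T i0))).factorization 2 := by omega
    _ = _ := by ring

end two

end Cfsg.Agent.H817.PD
end

-- part: H817/PD/Orbits
section
/-!
# Products of two π-decomposable groups: `LA` and `LB` fix all simple factors (helper817, for S4246)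
-/

set_option autoImplicit false
set_option linter.dupNamespace false
set_option linter.unusedSectionVars false
set_option linter.unusedVariables false

namespace Cfsg.Agent.H817.PD

open Subgroup Cfsg Cfsg.Agent.H988.CPi Cfsg.Agent.H803.S74
open scoped Pointwise

universe u

variable {π : Set ℕ}

namespace PD

variable {G : Type u} [Group G] [Finite G] {LA KA LB KB : Subgroup G} (h : PD π LA KA LB KB)
include h

theorem card_inf (N : Subgroup G) : Nat.card ↥(N ⊓ (LB ⊔ KB)) = Nat.card ↥(LB ⊓ N) * Nat.card ↥(KB ⊓ N) := by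
  have h1 : N ⊓ (LB ⊔ KB) = (LB ⊓ N) ⊔ (KB ⊓ N) := by
    apply le_antisymm
    · rintro x ⟨hxN, hx⟩
      obtain ⟨c, hc, d, hd, rfl⟩ := (mem_sup_comm h.cb).1 hx
      obtain ⟨h2, h3⟩ := split_mem h.lb h.kb h.cb hc hd hxN
      exact mul_mem_sup ⟨hc, h2⟩ ⟨hd, h3⟩
    · exact sup_le (le_inf inf_le_right (inf_le_left.trans le_sup_left))
        (le_inf inf_le_right (inf_le_left.trans le_sup_right))
  rw [h1, card_sup (π := π) (h.lb.of_dvd (card_dvd_of_le inf_le_left)) (h.kb.of_dvd (card_dvd_of_le inf_le_left))]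
  intro a ha b hb
  exact h.cb a ha.1 b hb.1

theorem card_dvd (N : Subgroup G) [N.Normal] :
    Nat.card N ∣ Nat.card LA * Nat.card KA * (Nat.card ↥(LB ⊓ N) * Nat.card ↥(KB ⊓ N)) := by
  have e1 := h.card_mul
  have e2 := card_eq_rel (LB ⊔ KB) N
  rw [h.card_B, h.card_inf N] at e2
  obtain ⟨c, hc⟩ := relIndex_dvd_index_of_normal N (LB ⊔ KB)
  have e3 := N.card_mul_index
  have h0 : N.relIndex (LB ⊔ KB) ≠ 0 := by
    rw [← card_map_mk]; exact Nat.card_pos.ne'
  refine ⟨c * (Nat.card ↥(LA ⊓ LB) * Nat.card ↥(KA ⊓ KB)), ?_⟩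
  apply Nat.eq_of_mul_eq_mul_right (Nat.pos_of_ne_zero h0)
  rw [← e3, hc, e2] at e1
  calc _ = Nat.card LA * Nat.card KA * (Nat.card ↥(LB ⊓ N) * Nat.card ↥(KB ⊓ N) * N.relIndex (LB ⊔ KB)) := by
        ring
    _ = _ := by rw [← e1]; ring

theorem num_pi (N : Subgroup G) [N.Normal] {r : ℕ} (hr : r.Prime) (hrπ : r ∈ π) :
    (Nat.card N).factorization r ≤ (Nat.card LA).factorization r + (Nat.card ↥(LB ⊓ N)).factorization r := by
  have h1 := (Nat.factorization_le_iff_dvd Nat.card_pos.ne'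
    (Nat.mul_ne_zero (Nat.mul_ne_zero Nat.card_pos.ne' Nat.card_pos.ne')
      (Nat.mul_ne_zero Nat.card_pos.ne' Nat.card_pos.ne'))).2 (h.card_dvd N) r
  rw [Nat.factorization_mul (Nat.mul_ne_zero Nat.card_pos.ne' Nat.card_pos.ne')
    (Nat.mul_ne_zero Nat.card_pos.ne' Nat.card_pos.ne'), Nat.factorization_mul Nat.card_pos.ne' Nat.card_pos.ne',
    Nat.factorization_mul Nat.card_pos.ne' Nat.card_pos.ne'] at h1
  simp only [Finsupp.add_apply] at h1
  have h2 : (Nat.card KA).factorization r = 0 := Nat.factorization_eq_zero_of_not_dvd (h.ka r hr hrπ)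
  have h3 : (Nat.card ↥(KB ⊓ N)).factorization r = 0 :=
    Nat.factorization_eq_zero_of_not_dvd fun hd => h.kb r hr hrπ (hd.trans (card_dvd_of_le inf_le_left))
  omega

theorem num_pi' (N : Subgroup G) [N.Normal] {r : ℕ} (hr : r.Prime) (hrπ : r ∉ π) :
    (Nat.card N).factorization r ≤ (Nat.card KA).factorization r + (Nat.card ↥(KB ⊓ N)).factorization r := by
  have h1 := (Nat.factorization_le_iff_dvd Nat.card_pos.ne'
    (Nat.mul_ne_zero (Nat.mul_ne_zero Nat.card_pos.ne' Nat.card_pos.ne')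
      (Nat.mul_ne_zero Nat.card_pos.ne' Nat.card_pos.ne'))).2 (h.card_dvd N) r
  rw [Nat.factorization_mul (Nat.mul_ne_zero Nat.card_pos.ne' Nat.card_pos.ne')
    (Nat.mul_ne_zero Nat.card_pos.ne' Nat.card_pos.ne'), Nat.factorization_mul Nat.card_pos.ne' Nat.card_pos.ne',
    Nat.factorization_mul Nat.card_pos.ne' Nat.card_pos.ne'] at h1
  simp only [Finsupp.add_apply] at h1
  have h2 : (Nat.card LA).factorization r = 0 :=
    Nat.factorization_eq_zero_of_not_dvd fun hd => hrπ (h.la r hr hd)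
  have h3 : (Nat.card ↥(LB ⊓ N)).factorization r = 0 :=
    Nat.factorization_eq_zero_of_not_dvd fun hd => hrπ (h.lb r hr (hd.trans (card_dvd_of_le inf_le_left)))
  omega

end PD

section comb

/-- each orbit of `LB` contains a non-trivial orbit of `LA` -/
theorem orbits_le {G : Type u} [Group G] [Finite G] {m : ℕ} {σ : G →* Equiv.Perm (Fin m)} {LA LB : Subgroup G}
    (hodd : ¬ 2 ∣ Nat.card LA) {OA OB : Type} [Finite OA] [Finite OB] {pA : Fin m → OA} {rA : OA → Fin m}
    {pB : Fin m → OB} {rB : OB → Fin m} (hA : Orb σ LA pA rA) (hB : Orb σ LB pB rB)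
    (hle : ∀ x ∈ LA, ∃ y ∈ LB, σ x = σ y) {x : G} (hx : x ∈ LA)
    (hmove : ∀ o : OB, ∃ j, pB j = o ∧ σ x j ≠ j) : Nat.card OA + 2 * Nat.card OB ≤ m := by
  classical
  cases nonempty_fintype OA
  cases nonempty_fintype OB
  have hsame : ∀ y ∈ LA, ∀ j, pA (σ y j) = pA j := fun y hy j => ((hA.eq j _).2 ⟨y, hy, rfl⟩).symm
  have hsameB : ∀ y ∈ LA, ∀ j, pB (σ y j) = pB j := by
    intro y hy j
    obtain ⟨z, hz, hyz⟩ := hle y hy
    exact ((hB.eq j _).2 ⟨z, hz, by rw [hyz]⟩).symm
  have key : ∀ o : OB, ∃ b c : Fin m, pB b = o ∧ pB c = o ∧ b ≠ c ∧ b ≠ rA (pA b) ∧ c ≠ rA (pA c) := by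
    intro o
    obtain ⟨j, hj, hxj⟩ := hmove o
    -- three points
    have h1 : σ x (σ x j) ≠ σ x j := fun h2 => hxj ((σ x).injective h2)
    have h2 : σ x (σ x j) ≠ j := by
      intro h3
      apply hxj
      -- the order of `x` is odd
      have hodd' : ¬ 2 ∣ orderOf x := fun hd => hodd (hd.trans (Subgroup.orderOf_dvd_natCard LA hx))
      obtain ⟨k, hk⟩ : Odd (orderOf x) := by
        rw [← Nat.not_even_iff_odd, even_iff_two_dvd]; exact hodd'
      have h4 : ∀ n : ℕ, σ (x ^ (2 * n)) j = j := by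
        intro n
        induction n with
        | zero => simp
        | succ n ih =>
          rw [show 2 * (n + 1) = 2 * n + 1 + 1 by ring, pow_succ, pow_succ, map_mul, map_mul]
          show σ (x ^ (2 * n)) (σ x (σ x j)) = j
          rw [h3, ih]
      have h5 : σ (x ^ orderOf x) j = j := by rw [pow_orderOf_eq_one, map_one]; rfl
      rw [hk, pow_succ', map_mul] at h5
      have h6 : σ x (σ (x ^ (2 * k)) j) = j := h5
      rwa [h4] at h6
    have a1 : pA (σ x j) = pA j := hsame x hx j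
    have a2 : pA (σ x (σ x j)) = pA j := by rw [hsame x hx, a1]
    have b1 : pB (σ x j) = o := by rw [hsameB x hx, hj]
    have b2 : pB (σ x (σ x j)) = o := by rw [hsameB x hx, b1]
    by_cases c0 : j = rA (pA j)
    · refine ⟨σ x j, σ x (σ x j), b1, b2, h1.symm, ?_, ?_⟩
      · rw [a1, ← c0]; exact hxj
      · rw [a2, ← c0]; exact h2
    · by_cases c1 : σ x j = rA (pA j)
      · refine ⟨j, σ x (σ x j), hj, b2, h2.symm, c0, ?_⟩
        rw [a2, ← c1]; exact h1
      · exact ⟨j, σ x j, hj, b1, hxj.symm, c0, by rw [a1]; exact c1⟩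
  choose b c hb hc hbc hb' hc' using key
  let Φ : OA ⊕ (OB ⊕ OB) → Fin m := Sum.elim rA (Sum.elim b c)
  have hΦ : Function.Injective Φ := by
    rintro (q | o | o) (q' | o' | o') hq
    · have : rA q = rA q' := hq
      rw [← hA.pr q, ← hA.pr q', this]
    · exfalso
      have h1 : rA q = b o' := hq
      exact hb' o' (by rw [← h1, hA.pr])
    · exfalso
      have h1 : rA q = c o' := hq
      exact hc' o' (by rw [← h1, hA.pr])
    · exfalso
      have h1 : b o = rA q' := hq
      exact hb' o (by rw [h1, hA.pr])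
    · have h1 : b o = b o' := hq
      have h2 : o = o' := by rw [← hb o, ← hb o', h1]
      rw [h2]
    · exfalso
      have h1 : b o = c o' := hq
      have h2 : o = o' := by rw [← hb o, ← hc o', h1]
      subst h2
      exact hbc o h1
    · exfalso
      have h1 : c o = rA q' := hq
      exact hc' o (by rw [h1, hA.pr])
    · exfalso
      have h1 : c o = b o' := hq
      have h2 : o = o' := by rw [← hc o, ← hb o', h1]
      subst h2
      exact hbc o h1.symm
    · have h1 : c o = c o' := hq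
      have h2 : o = o' := by rw [← hc o, ← hc o', h1]
      rw [h2]
  have h1 := Fintype.card_le_of_injective Φ hΦ
  rw [Fintype.card_sum, Fintype.card_sum, Fintype.card_fin] at h1
  rw [Nat.card_eq_fintype_card, Nat.card_eq_fintype_card]
  omega

end comb

section main

variable {G : Type u} [Group G] [Finite G] {LA KA LB KB N : Subgroup G} {m : ℕ} {T : Fin m → Subgroup G}
  {e : N ≃* ∀ i, T i}

namespace MinCex

theorem exists_mul (hm : MinCex π LA KA LB KB N) (g : G) : ∃ l ∈ LB, ∃ k ∈ KB, ∃ n ∈ N, g = l * k * n := by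
  have := hm.normal
  have hg : g ∈ LB ⊔ KB ⊔ N := by rw [hm.top]; exact mem_top g
  obtain ⟨b, hb, n, hn, rfl⟩ := (mem_sup_of_normal_right).1 hg
  obtain ⟨l, hl, k, hk, rfl⟩ := (mem_sup_comm hm.pd.cb).1 hb
  exact ⟨l, hl, k, hk, n, hn, rfl⟩

theorem exists_la (hm : MinCex π LA KA LB KB N) {x : G} (hx : x ∈ LA) : ∃ y ∈ LB, ∃ n ∈ N, x = y * n := by
  have := hm.normal
  obtain ⟨b, hb, n, hn, h1⟩ := (mem_sup_of_normal_right).1 (hm.lab hx)
  exact ⟨b, hb, n, hn, h1.symm⟩

theorem exists_kb (hm : MinCex π LA KA LB KB N) {x : G} (hx : x ∈ KB) : ∃ y ∈ KA, ∃ n ∈ N, x = y * n := by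
  have := hm.normal
  have h2 : x ∈ KA ⊔ N := by rw [hm.kab]; exact mem_sup_left hx
  obtain ⟨b, hb, n, hn, h1⟩ := (mem_sup_of_normal_right).1 h2
  exact ⟨b, hb, n, hn, h1.symm⟩

theorem exists_ka (hm : MinCex π LA KA LB KB N) {x : G} (hx : x ∈ KA) : ∃ y ∈ KB, ∃ n ∈ N, x = y * n := by
  have := hm.normal
  have h2 : x ∈ KB ⊔ N := by rw [← hm.kab]; exact mem_sup_left hx
  obtain ⟨b, hb, n, hn, h1⟩ := (mem_sup_of_normal_right).1 h2
  exact ⟨b, hb, n, hn, h1.symm⟩

end MinCex

variable (hm : MinCex π LA KA LB KB N) (h : Sys N T e) {σ : G →* Equiv.Perm (Fin m)}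
  (hσ : ∀ g i, T (σ g i) = (T i).map (MulAut.conj g).toMonoidHom)
include hm h hσ

theorem sigma_N {n : G} (hn : n ∈ N) : σ n = 1 := by
  have := hm.normal
  ext i
  rw [h.sigma_of_mem hσ hn i]
  rfl

theorem sigma_mul_N {g n : G} (hn : n ∈ N) : σ (g * n) = σ g := by
  rw [map_mul, sigma_N hm h hσ hn, mul_one]

theorem exists_sigma_eq (i j : Fin m) : ∃ g : G, σ g i = j := by
  obtain ⟨g, hg⟩ := h.tr i j
  refine ⟨g, h.inj ?_⟩
  rw [hσ]
  exact hg.symm

/-- **`LA` fixes all factors.** -/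
theorem la_le_ker (h2 : 2 ∉ π) (i0 : Fin m)
    (hout : (Nat.card (MulAut (T i0))).factorization 2 + 1 ≤ 2 * (Nat.card (T i0)).factorization 2) :
    LA ≤ σ.ker := by
  have hN := hm.normal
  by_contra hcon
  obtain ⟨x, hx, hx1⟩ := SetLike.not_le_iff_exists.1 hcon
  rw [MonoidHom.mem_ker] at hx1
  obtain ⟨i, hi⟩ : ∃ i, σ x i ≠ i := by
    by_contra hcon2
    push Not at hcon2
    exact hx1 (Equiv.ext hcon2)
  obtain ⟨OA, _, pA, rA, hA⟩ := exists_orb σ LA
  obtain ⟨OB, _, pB, rB, hB⟩ := exists_orb σ LB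
  have hla : ¬ 2 ∣ Nat.card LA := fun hd => h2 (hm.pd.la 2 Nat.prime_two hd)
  have hlb : ¬ 2 ∣ Nat.card LB := fun hd => h2 (hm.pd.lb 2 Nat.prime_two hd)
  -- the combinatorial inequality
  have c1 : Nat.card OA + 2 * Nat.card OB ≤ m := by
    refine orbits_le hla hA hB ?_ hx ?_
    · intro y hy
      obtain ⟨z, hz, n, hn, rfl⟩ := hm.exists_la hy
      exact ⟨z, hz, sigma_mul_N hm h hσ hn⟩
    · intro o
      obtain ⟨g, hg⟩ := exists_sigma_eq hm h hσ i (rB o)
      obtain ⟨l, hl, k, hk, n, hn, rfl⟩ := hm.exists_mul g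
      rw [sigma_mul_N hm h hσ hn, map_mul] at hg
      refine ⟨σ k i, ?_, ?_⟩
      · rw [← hB.pr o, hB.eq]
        exact ⟨l, hl, hg⟩
      · obtain ⟨k', hk', n', hn', rfl⟩ := hm.exists_kb hk
        rw [sigma_mul_N hm h hσ hn']
        intro h3
        apply hi
        have h4 : σ x (σ k' i) = σ k' (σ x i) := by
          have := congrArg σ (hm.pd.ca x hx k' hk')
          rw [map_mul, map_mul] at this
          exact congrArg (fun z => z i) this
        rw [h4] at h3
        exact (σ k').injective h3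
  -- the numerical inequality
  have n1 := hm.pd.symm.num_pi' N Nat.prime_two h2
  have n2 : (Nat.card N).factorization 2 = m * (Nat.card (T i0)).factorization 2 := by
    rw [card_N h hσ i0, Nat.factorization_pow, Finsupp.smul_apply, smul_eq_mul]
  have n3 : (Nat.card ↥(KA ⊓ N)).factorization 2 ≤ Nat.card OA * (Nat.card (T i0)).factorization 2 := by
    have h3 := card_dvd_orbits h hσ i0 (X := KA ⊓ N) (L := LA) inf_le_right
      (fun a ha b hb => hm.pd.ca a ha b hb.1) pA rA (fun i => (hA.eq _ _).1 (hA.pr _))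
    have h4 := (Nat.factorization_le_iff_dvd Nat.card_pos.ne' (pow_ne_zero _ Nat.card_pos.ne')).2 h3 2
    rwa [Nat.factorization_pow, Finsupp.smul_apply, smul_eq_mul] at h4
  have n4 := two_part h hσ i0 hlb hm.pd.cb hm.cent hB
  have n5 : Nat.card OB * (1 + (Nat.card (MulAut (T i0))).factorization 2) ≤
      Nat.card OB * (2 * (Nat.card (T i0)).factorization 2) := Nat.mul_le_mul_left _ (by omega)
  rw [n2] at n1
  set s := (Nat.card (T i0)).factorization 2
  have n6 : (Nat.card OA + 2 * Nat.card OB) * s ≤ m * s := Nat.mul_le_mul_right _ c1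
  have n7 : (Nat.card OA + 2 * Nat.card OB) * s = Nat.card OA * s + Nat.card OB * (2 * s) := by ring
  omega

/-- **`LB` fixes all factors.** -/
theorem lb_le_ker (hla : LA ≤ σ.ker) : LB ≤ σ.ker := by
  have hN := hm.normal
  set Y : Subgroup G := (KB.map σ).comap σ with hY
  have hYn : Y.Normal := by
    constructor
    intro x hx g
    obtain ⟨k, hk, hkx⟩ := hx
    obtain ⟨l, hl, k', hk', n, hn, rfl⟩ := hm.exists_mul g
    refine ⟨k' * k * k'⁻¹, mul_mem (mul_mem hk' hk) (inv_mem hk'), ?_⟩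
    have e1 : l * (k' * k * k'⁻¹) * l⁻¹ = k' * k * k'⁻¹ := by
      rw [hm.pd.cb l hl _ (mul_mem (mul_mem hk' hk) (inv_mem hk')), mul_inv_cancel_right]
    rw [← e1]
    simp only [map_mul, map_inv, sigma_N hm h hσ hn, hkx]
    group
  have h1 : Y = ⊤ := by
    apply hm.nor Y hYn
    · intro x hx
      have := hla hx
      rw [MonoidHom.mem_ker] at this
      show σ x ∈ KB.map σ
      rw [this]
      exact one_mem _
    · intro x hx
      obtain ⟨y, hy, n, hn, rfl⟩ := hm.exists_ka hx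
      exact ⟨y, hy, (sigma_mul_N hm h hσ hn).symm⟩
  intro x hx
  have h2 : x ∈ Y := by rw [h1]; exact mem_top x
  obtain ⟨k, hk, hkx⟩ := h2
  rw [MonoidHom.mem_ker, ← orderOf_eq_one_iff]
  apply eq_one_of_both (π := π)
  · exact hm.pd.lb.of_dvd ((orderOf_map_dvd σ x).trans (Subgroup.orderOf_dvd_natCard LB hx))
  · rw [← hkx]
    exact hm.pd.kb.of_dvd ((orderOf_map_dvd σ k).trans (Subgroup.orderOf_dvd_natCard KB hk))

theorem kb_transitive (hlb : LB ≤ σ.ker) (i j : Fin m) : ∃ k ∈ KB, σ k i = j := by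
  obtain ⟨g, hg⟩ := exists_sigma_eq hm h hσ i j
  obtain ⟨l, hl, k, hk, n, hn, rfl⟩ := hm.exists_mul g
  refine ⟨k, hk, ?_⟩
  have h1 : σ l = 1 := hlb hl
  rw [sigma_mul_N hm h hσ hn, map_mul, h1, one_mul] at hg
  exact hg

theorem ka_transitive (hlb : LB ≤ σ.ker) (i j : Fin m) : ∃ k ∈ KA, σ k i = j := by
  obtain ⟨k, hk, h1⟩ := kb_transitive hm h hσ hlb i j
  obtain ⟨k', hk', n, hn, rfl⟩ := hm.exists_kb hk
  exact ⟨k', hk', by rwa [sigma_mul_N hm h hσ hn] at h1⟩

end main

end Cfsg.Agent.H817.PD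
end

-- part: H817/PD/RowRed
section
/-!
# Products of two π-decomposable groups: the configuration on a simple factor (helper817, for S4246)

`main` : S4246 from `Gross π` (S4350), the rows `Row S` and the 2-part of `Aut S`.
-/

set_option autoImplicit false
set_option linter.dupNamespace false
set_option linter.unusedSectionVars false
set_option linter.unusedVariables false

namespace Cfsg.Agent.H817.PD

open Subgroup Cfsg Cfsg.Agent.H988.CPi Cfsg.Agent.H803.S74
open Cfsg.Agent.H160.PD (tr Cfg Row)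
open scoped Pointwise

universe u

variable {π : Set ℕ} {G : Type u} [Group G]

/-- the group of automorphisms of `S` induced by the elements of `R` which normalise `S` -/
noncomputable def im (S R : Subgroup G) : Subgroup (MulAut S) :=
  (R.subgroupOf (normalizer (S : Set G))).map S.normalizerMonoidHom

theorem mem_im {S R : Subgroup G} {b : MulAut S} :
    b ∈ im S R ↔ ∃ (g : G) (hg : g ∈ normalizer (S : Set G)), g ∈ R ∧ S.normalizerMonoidHom ⟨g, hg⟩ = b := by
  constructor
  · rintro ⟨⟨g, hg⟩, h1, h2⟩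
    exact ⟨g, hg, h1, h2⟩
  · rintro ⟨g, hg, h1, h2⟩
    exact ⟨⟨g, hg⟩, h1, h2⟩

theorem im_apply {S : Subgroup G} {g : G} (hg : g ∈ normalizer (S : Set G)) (s : S) :
    ((S.normalizerMonoidHom ⟨g, hg⟩ s : S) : G) = g * s * g⁻¹ := rfl

theorem card_im_dvd (S R : Subgroup G) : Nat.card (im S R) ∣ Nat.card R := by
  refine (card_map_dvd _ _).trans ?_
  rw [← card_map_of_injective (normalizer (S : Set G)).subtype_injective, subgroupOf_map_subtype]
  exact card_dvd_of_le inf_le_left

theorem im_comm {S L K : Subgroup G} (hc : ∀ a ∈ L, ∀ b ∈ K, a * b = b * a) :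
    ∀ a ∈ im S L, ∀ b ∈ im S K, a * b = b * a := by
  intro a ha b hb
  obtain ⟨x, hx, hxL, rfl⟩ := mem_im.1 ha
  obtain ⟨y, hy, hyK, rfl⟩ := mem_im.1 hb
  rw [← map_mul, ← map_mul]
  congr 1
  exact Subtype.ext (hc x hxL y hyK)

section sys

variable [Finite G] {N : Subgroup G} [N.Normal] {m : ℕ} {T : Fin m → Subgroup G} {e : N ≃* ∀ i, T i}
  (h : Sys N T e) {σ : G →* Equiv.Perm (Fin m)} (hσ : ∀ g i, T (σ g i) = (T i).map (MulAut.conj g).toMonoidHom)
include h hσ

/-- elements of `N` act on `T i` as their coordinate. -/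
theorem conj_coord (n : N) (i : Fin m) (t : T i) :
    (n : G) * t * (n : G)⁻¹ = (e n i : G) * t * (e n i : G)⁻¹ := by
  classical
  have h1 : e (⟨e n i, h.le i (e n i).2⟩ : N) = Pi.mulSingle i (e n i) := by
    apply e.symm.injective
    rw [MulEquiv.symm_apply_apply]
    exact Subtype.ext (h.single i (e n i)).symm
  have h2 : e ((⟨e n i, h.le i (e n i).2⟩ : N)⁻¹ * n) i = 1 := by
    rw [map_mul, map_inv, h1, Pi.mul_apply, Pi.inv_apply, Pi.mulSingle_eq_same]
    simp
  have h3 : ((e n i : G)⁻¹ * n) * t = t * ((e n i : G)⁻¹ * n) := (h.one _ i).1 h2 t t.2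
  have h4 : (n : G) * t = (e n i : G) * t * ((e n i : G)⁻¹ * n) := by
    calc (n : G) * t = (e n i : G) * (((e n i : G)⁻¹ * n) * t) := by group
      _ = _ := by rw [h3]; group
  rw [h4]; group

/-- the coordinates of the elements of `R ⊓ N` are in the trace of `im R` -/
theorem coord_mem_tr {R : Subgroup G} (n : N) (i : Fin m) (hn : (n : G) ∈ R) : e n i ∈ tr (im (T i) R) := by
  rw [Cfsg.Agent.H160.PD.mem_tr, mem_im]
  refine ⟨n, h.norm i n.2, hn, ?_⟩
  ext t
  rw [im_apply, MulAut.conj_apply]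
  exact conj_coord h hσ n i t

/-- `LA` centralised by a transitive group is faithful on each factor -/
theorem card_la_dvd (i0 : Fin m) {L K : Subgroup G} (hc : ∀ a ∈ L, ∀ b ∈ K, a * b = b * a) (hL : L ≤ σ.ker)
    (ht : ∀ i, ∃ k ∈ K, σ k i0 = i) (hcent : Subgroup.centralizer (N : Set G) = ⊥) :
    Nat.card L ∣ Nat.card (im (T i0) L) := by
  let f : L →* im (T i0) L :=
    { toFun := fun x => ⟨(T i0).normalizerMonoidHom ⟨x, ker_le_normalizer h hσ i0 (hL x.2)⟩,
        mem_im.2 ⟨x, _, x.2, rfl⟩⟩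
      map_one' := by
        apply Subtype.ext
        exact map_one _
      map_mul' := fun x y => by
        apply Subtype.ext
        show (T i0).normalizerMonoidHom _ = (T i0).normalizerMonoidHom _ * (T i0).normalizerMonoidHom _
        rw [← map_mul]; rfl }
  apply Subgroup.card_dvd_of_injective f
  rw [injective_iff_map_eq_one]
  intro x hx
  have h1 : ∀ s ∈ T i0, (x : G) * s = s * x := by
    intro s hs
    have h2 : (T i0).normalizerMonoidHom ⟨x, ker_le_normalizer h hσ i0 (hL x.2)⟩ = 1 := congrArg Subtype.val hx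
    have h3 : (x : G) * s * (x : G)⁻¹ = s := by
      have := congrArg (fun z : MulAut (T i0) => ((z ⟨s, hs⟩ : T i0) : G)) h2
      exact this
    calc (x : G) * s = ((x : G) * s * (x : G)⁻¹) * x := by group
      _ = s * x := by rw [h3]
  have h4 : (x : G) ∈ Subgroup.centralizer (N : Set G) := by
    apply mem_centralizer h hσ
    intro i t hti
    obtain ⟨k, hk, rfl⟩ := ht i
    rw [hσ] at hti
    obtain ⟨s, hs, rfl⟩ := hti
    have h5 := h1 s hs
    have h6 : (x : G) * k = k * x := hc x x.2 k hk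
    have h7 : (x : G) * k⁻¹ = k⁻¹ * x := hc x x.2 k⁻¹ (inv_mem hk)
    show (x : G) * (k * s * k⁻¹) = (k * s * k⁻¹) * x
    calc (x : G) * (k * s * k⁻¹) = ((x : G) * k) * s * k⁻¹ := by group
      _ = k * ((x : G) * s) * k⁻¹ := by rw [h6]; group
      _ = k * s * ((x : G) * k⁻¹) := by rw [h5]; group
      _ = _ := by rw [h7]; group
  rw [hcent, mem_bot] at h4
  exact Subtype.ext h4

/-- `L ⊓ N` centralised by a transitive group is faithful on each factor -/
theorem card_inf_dvd (i0 : Fin m) {L K : Subgroup G} (hc : ∀ a ∈ L, ∀ b ∈ K, a * b = b * a)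
    (ht : ∀ i, ∃ k ∈ K, σ k i0 = i) : Nat.card ↥(L ⊓ N) ∣ Nat.card (tr (im (T i0) L)) := by
  let f : ↥(L ⊓ N) →* tr (im (T i0) L) :=
    { toFun := fun x => ⟨e ⟨x, x.2.2⟩ i0, coord_mem_tr h hσ ⟨x, x.2.2⟩ i0 x.2.1⟩
      map_one' := by
        apply Subtype.ext
        show e 1 i0 = 1
        rw [map_one]; rfl
      map_mul' := fun x y => by
        apply Subtype.ext
        show e (⟨x, x.2.2⟩ * ⟨y, y.2.2⟩) i0 = e ⟨x, x.2.2⟩ i0 * e ⟨y, y.2.2⟩ i0
        rw [map_mul]; rfl }
  apply Subgroup.card_dvd_of_injective f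
  rw [injective_iff_map_eq_one]
  intro x hx
  have h0 : e ⟨x, x.2.2⟩ i0 = 1 := congrArg Subtype.val hx
  have h1 : e ⟨x, x.2.2⟩ = 1 := by
    funext i
    obtain ⟨k, hk, rfl⟩ := ht i
    have h2 := coord h hσ k i0 ⟨x, x.2.2⟩
    have h3 : MulAut.conjNormal k (⟨x, x.2.2⟩ : N) = ⟨x, x.2.2⟩ := by
      apply Subtype.ext
      rw [MulAut.conjNormal_apply]
      show k * (x : G) * k⁻¹ = x
      rw [← hc x x.2.1 k hk, mul_inv_cancel_right]
    rw [h3, h0] at h2
    apply Subtype.ext
    rw [h2]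
    simp only [_root_.OneMemClass.coe_one, _root_.mul_one, _root_.mul_inv_cancel, _root_.Pi.one_apply]
  have h2 : (⟨x, x.2.2⟩ : N) = 1 := e.injective (by rw [h1, map_one])
  exact Subtype.ext (congrArg (fun z : N => (z : G)) h2)

theorem card_k_dvd (i0 : Fin m) {K : Subgroup G} (ht : ∀ i, ∃ k ∈ K, σ k i0 = i)
    (hcent : Subgroup.centralizer (N : Set G) = ⊥) :
    Nat.card K ∣ m.factorial * Nat.card (im (T i0) K) ^ m := by
  choose k hkK hk using ht
  let ρ : K →* Equiv.Perm (Fin m) := σ.comp K.subtype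
  have h1 : Nat.card ρ.ker ∣ Nat.card (im (T i0) K) ^ Nat.card (Fin m) := by
    let j : ρ.ker →* σ.ker :=
      { toFun := fun x => ⟨((x : K) : G), x.2⟩
        map_one' := rfl
        map_mul' := fun _ _ => rfl }
    have hmem : ∀ i (x : ρ.ker), psiG h hσ i0 (k i) (j x) ∈ im (T i0) K := by
      intro i x
      refine mem_im.2 ⟨(k i)⁻¹ * ((x : K) : G) * k i, ?_, ?_, ?_⟩
      · apply ker_le_normalizer h hσ i0
        have : ((x : K) : G) ∈ σ.ker := x.2
        have h2 := (inferInstance : σ.ker.Normal).conj_mem _ this (k i)⁻¹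
        rwa [inv_inv] at h2
      · exact mul_mem (mul_mem (inv_mem (hkK i)) (x : K).2) (hkK i)
      · ext t
        rw [im_apply, psiG_apply]
        rfl
    refine card_dvd_pow (fun i : Fin m => ((psiG h hσ i0 (k i)).comp j).codRestrict (im (T i0) K) (hmem i)) ?_
    intro x hx
    have h3 : ((x : K) : G) ∈ Subgroup.centralizer (N : Set G) := by
      apply mem_centralizer h hσ
      intro i
      have h4 : psiG h hσ i0 (k i) (j x) = 1 := congrArg Subtype.val (hx i)
      have h5 := psiG_eq_one h hσ i0 (k i) (j x) h4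
      rw [hk] at h5
      exact h5
    rw [hcent, mem_bot] at h3
    exact Subtype.ext (Subtype.ext h3)
  rw [Nat.card_fin] at h1
  have h2 : Nat.card K = Nat.card ρ.range * Nat.card ρ.ker := by
    have h3 := card_mul_index ρ.ker
    rw [index_ker] at h3
    rw [← h3, mul_comm]
  rw [h2]
  refine mul_dvd_mul ?_ h1
  have := card_subgroup_dvd_card ρ.range
  rwa [Nat.card_perm, Nat.card_fin] at this

theorem card_k_inf_dvd (i0 : Fin m) {K : Subgroup G} (ht : ∀ i, ∃ k ∈ K, σ k i0 = i) :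
    Nat.card ↥(K ⊓ N) ∣ Nat.card (tr (im (T i0) K)) ^ m := by
  choose k hkK hk using ht
  have hmem : ∀ i (x : ↥(K ⊓ N)), e (MulAut.conjNormal (H := N) (k i)⁻¹ ⟨x, x.2.2⟩) i0 ∈ tr (im (T i0) K) := by
    intro i x
    apply coord_mem_tr h hσ
    rw [MulAut.conjNormal_apply, inv_inv]
    exact mul_mem (mul_mem (inv_mem (hkK i)) x.2.1) (hkK i)
  have h1 : Nat.card ↥(K ⊓ N) ∣ Nat.card (tr (im (T i0) K)) ^ Nat.card (Fin m) := by
    let f : ∀ i : Fin m, ↥(K ⊓ N) →* tr (im (T i0) K) := fun i =>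
      { toFun := fun x => ⟨e (MulAut.conjNormal (H := N) (k i)⁻¹ ⟨x, x.2.2⟩) i0, hmem i x⟩
        map_one' := by
          apply Subtype.ext
          show e (MulAut.conjNormal (H := N) (k i)⁻¹ 1) i0 = 1
          rw [map_one, map_one]; rfl
        map_mul' := fun x y => by
          apply Subtype.ext
          show e (MulAut.conjNormal (H := N) (k i)⁻¹ (⟨x, x.2.2⟩ * ⟨y, y.2.2⟩)) i0 =
            e (MulAut.conjNormal (H := N) (k i)⁻¹ ⟨x, x.2.2⟩) i0 *
              e (MulAut.conjNormal (H := N) (k i)⁻¹ ⟨y, y.2.2⟩) i0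
          rw [map_mul, map_mul]; rfl }
    refine card_dvd_pow f ?_
    intro x hx
    have h2 : e ⟨x, x.2.2⟩ = 1 := by
      funext i
      have h3 : e (MulAut.conjNormal (H := N) (k i)⁻¹ ⟨x, x.2.2⟩) i0 = 1 := congrArg Subtype.val (hx i)
      have h4 := coord h hσ (k i) i0 (MulAut.conjNormal (H := N) (k i)⁻¹ ⟨x, x.2.2⟩)
      rw [h3, hk] at h4
      have h5 : MulAut.conjNormal (H := N) (k i) (MulAut.conjNormal (H := N) (k i)⁻¹ ⟨x, x.2.2⟩) = ⟨x, x.2.2⟩ := by
        apply Subtype.ext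
        rw [MulAut.conjNormal_apply, MulAut.conjNormal_apply]
        group
      rw [h5] at h4
      apply Subtype.ext
      rw [h4]
      simp only [_root_.OneMemClass.coe_one, _root_.mul_one, _root_.mul_inv_cancel, _root_.Pi.one_apply]
    have h3 : (⟨x, x.2.2⟩ : N) = 1 := e.injective (by rw [h2, map_one])
    exact Subtype.ext (congrArg (fun z : N => (z : G)) h3)
  rwa [Nat.card_fin] at h1

theorem fact_le {a b : ℕ} (ha : a ≠ 0) (hb : b ≠ 0) (hab : a ∣ b) (r : ℕ) : a.factorization r ≤ b.factorization r :=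
  (Nat.factorization_le_iff_dvd ha hb).2 hab r

theorem num_L (i0 : Fin m) {LA KA LB KB : Subgroup G} (hpd : PD π LA KA LB KB) (hLA : LA ≤ σ.ker)
    (hKA : ∀ i, ∃ k ∈ KA, σ k i0 = i) (hKB : ∀ i, ∃ k ∈ KB, σ k i0 = i)
    (hcent : Subgroup.centralizer (N : Set G) = ⊥) {r : ℕ} (hr : r.Prime) (hrπ : r ∈ π) :
    (Nat.card (T i0)).factorization r ≤
      (Nat.card (im (T i0) LA)).factorization r + (Nat.card (tr (im (T i0) LB))).factorization r := by
  have n1 := hpd.num_pi N hr hrπ
  have n2 : (Nat.card N).factorization r = m * (Nat.card (T i0)).factorization r := by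
    rw [card_N h hσ i0, Nat.factorization_pow, Finsupp.smul_apply, smul_eq_mul]
  have n3 := fact_le h hσ Nat.card_pos.ne' Nat.card_pos.ne' (card_la_dvd h hσ i0 hpd.ca hLA hKA hcent) r
  have n4 := fact_le h hσ Nat.card_pos.ne' Nat.card_pos.ne' (card_inf_dvd h hσ i0 hpd.cb hKB) r
  have hm : 1 ≤ m := Nat.one_le_iff_ne_zero.2 (by rintro rfl; exact i0.elim0)
  have n5 : 1 * (Nat.card (T i0)).factorization r ≤ m * (Nat.card (T i0)).factorization r :=
    Nat.mul_le_mul_right _ hm
  omega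

theorem num_K (i0 : Fin m) {LA KA LB KB : Subgroup G} (hpd : PD π LA KA LB KB)
    (hKA : ∀ i, ∃ k ∈ KA, σ k i0 = i) (hKB : ∀ i, ∃ k ∈ KB, σ k i0 = i)
    (hcent : Subgroup.centralizer (N : Set G) = ⊥) {r : ℕ} (hr : r.Prime) (hrπ : r ∉ π) :
    (Nat.card (T i0)).factorization r ≤
      (Nat.card (im (T i0) KA)).factorization r + (Nat.card (tr (im (T i0) KB))).factorization r := by
  have hF : Fact r.Prime := ⟨hr⟩
  have n1 := hpd.num_pi' N hr hrπ
  have n2 : (Nat.card N).factorization r = m * (Nat.card (T i0)).factorization r := by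
    rw [card_N h hσ i0, Nat.factorization_pow, Finsupp.smul_apply, smul_eq_mul]
  have hm : m ≠ 0 := by rintro rfl; exact i0.elim0
  have n3 := fact_le h hσ Nat.card_pos.ne'
    (Nat.mul_ne_zero (Nat.factorial_ne_zero _) (pow_ne_zero _ Nat.card_pos.ne')) (card_k_dvd h hσ i0 hKA hcent) r
  rw [Nat.factorization_mul (Nat.factorial_ne_zero _) (pow_ne_zero _ Nat.card_pos.ne'), Finsupp.add_apply,
    Nat.factorization_pow, Finsupp.smul_apply, smul_eq_mul] at n3
  have n4 := fact_le h hσ Nat.card_pos.ne' (pow_ne_zero _ Nat.card_pos.ne') (card_k_inf_dvd h hσ i0 hKB) r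
  rw [Nat.factorization_pow, Finsupp.smul_apply, smul_eq_mul] at n4
  have n5 := padicValNat_factorial_lt_of_ne_zero r hm
  rw [← Nat.factorization_def _ hr] at n5
  rw [n2] at n1
  by_contra hcon
  rw [not_le] at hcon
  set s := (Nat.card (T i0)).factorization r
  set a := (Nat.card (im (T i0) KA)).factorization r
  set b := (Nat.card (tr (im (T i0) KB))).factorization r
  have n6 : m * (a + b + 1) ≤ m * s := Nat.mul_le_mul_left _ hcon
  have n7 : m * (a + b + 1) = m * a + m * b + m := by ring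
  omega

end sys

/-- **The configuration.** -/
theorem MinCex.cfg [Finite G] {LA KA LB KB N : Subgroup G} (hm : MinCex π LA KA LB KB N) (h2 : 2 ∉ π) {m : ℕ}
    {T : Fin m → Subgroup G} {e : N ≃* ∀ i, T i} (h : Sys N T e) (i0 : Fin m)
    (hout : (Nat.card (MulAut (T i0))).factorization 2 + 1 ≤ 2 * (Nat.card (T i0)).factorization 2) :
    Cfg π (im (T i0) LA) (im (T i0) KA) (im (T i0) LB) (im (T i0) KB) := by
  have hN := hm.normal
  obtain ⟨σ, hσ⟩ := h.exists_sigma
  have hLA := la_le_ker hm h hσ h2 i0 hout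
  have hLB := lb_le_ker hm h hσ hLA
  have hKA : ∀ i, ∃ k ∈ KA, σ k i0 = i := fun i => ka_transitive hm h hσ hLB i0 i
  have hKB : ∀ i, ∃ k ∈ KB, σ k i0 = i := fun i => kb_transitive hm h hσ hLB i0 i
  have cA := card_la_dvd h hσ i0 hm.pd.ca hLA hKA hm.cent
  have cB := card_la_dvd h hσ i0 hm.pd.cb hLB hKB hm.cent
  refine ⟨h2, ?_, ?_, ?_, ?_, ?_, im_comm hm.pd.ca, im_comm hm.pd.cb, ?_, ?_, ?_, ?_, ?_, ?_⟩
  · have h3 := hm.npi'
    rw [PiN'] at h3
    push Not at h3
    obtain ⟨r, hr, hrπ, hrN⟩ := h3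
    refine ⟨r, hr, hrπ, ?_⟩
    rw [card_N h hσ i0] at hrN
    exact hr.dvd_of_dvd_pow hrN
  · intro r hr hd
    exact hm.pd.la r hr (hd.trans (card_im_dvd _ _))
  · intro r hr hd
    exact hm.pd.lb r hr (hd.trans (card_im_dvd _ _))
  · intro r hr hd hrπ
    exact hm.pd.ka r hr hrπ (hd.trans (card_im_dvd _ _))
  · intro r hr hd hrπ
    exact hm.pd.kb r hr hrπ (hd.trans (card_im_dvd _ _))
  · intro h0
    rw [h0, card_bot] at cA
    exact hm.la (card_eq_one.1 (Nat.dvd_one.1 cA))
  · intro h0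
    rw [h0, card_bot] at cB
    exact hm.lb (card_eq_one.1 (Nat.dvd_one.1 cB))
  · intro r hr hrπ
    exact num_L h hσ i0 hm.pd hLA hKA hKB hm.cent hr hrπ
  · intro r hr hrπ
    exact num_L h hσ i0 hm.pd.symm hLB hKB hKA hm.cent hr hrπ
  · intro r hr hrπ
    exact num_K h hσ i0 hm.pd hKA hKB hm.cent hr hrπ
  · intro r hr hrπ
    exact num_K h hσ i0 hm.pd.symm hKB hKA hm.cent hr hrπ

/-- the 2-part of `Aut S` -/
def OutTwo (S : Type*) [Group S] : Prop :=
  (Nat.card (MulAut S)).factorization 2 + 1 ≤ 2 * (Nat.card S).factorization 2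

/-- **S4246** from S4350, the rows and the 2-part of `Aut S`. -/
theorem main (h2 : 2 ∉ π) (hG : Gross.{u} π)
    (hRow : ∀ (S : Type u) [Group S] [Finite S] [IsSimpleGroup S], ¬ IsMulCommutative S → Row S)
    (hOut : ∀ (S : Type u) [Group S] [Finite S] [IsSimpleGroup S], ¬ IsMulCommutative S → OutTwo S) :
    ∀ n : ℕ, IH.{u} π n := by
  intro n
  induction n with
  | zero => intro X _ _ hX; omega
  | succ n ih =>
    intro X _ _ hX LA KA LB KB hpd
    have ih' : IH.{u} π (Nat.card X) := by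
      intro Y _ _ hY
      exact ih Y (by omega)
    by_contra hbad
    obtain ⟨LA, KA, LB, KB, N, hm⟩ := exists_minCex hG hpd ih' hbad
    have hN := hm.normal
    obtain ⟨m, T, e, hm0, h⟩ := exists_sys N hm.min hm.nab
    set i0 : Fin m := ⟨0, hm0⟩
    have hs := h.simple i0
    have hna : ¬ IsMulCommutative (T i0) := by
      intro hc
      obtain ⟨a, b, hab⟩ := h.nab i0
      exact hab (mul_comm' a b)
    exact hRow (T i0) hna _ _ _ _ _ (hm.cfg h2 h i0 (hOut (T i0) hna))

end Cfsg.Agent.H817.PD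
end

private theorem dce_791ab2cc45d8 : _root_.True := by
  try have : _root_.True := by simp only [_root_.Cfsg.Agent.H988.CPi.PiN'.eq_1]
  exact _root_.True.intro
end

-- part: H817/PD/Final
section
set_option linter.all false
open scoped Cfsg.Agent.FastGrp

/-!
# Products of two π-decomposable groups: the reduction of S4246 (helper817)

`S4246_of` : S4246 from S4350 (`Gross π`), the rows `Row S` and the 2-part of `Aut S` (`OutTwo S`).
-/

set_option autoImplicit false
set_option linter.dupNamespace false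
set_option linter.unusedSectionVars false
set_option linter.unusedVariables false

namespace Cfsg.Agent.H817.PD

open Subgroup Cfsg Cfsg.Agent.H988.CPi
open Cfsg.Agent.H160.PD (tr Cfg Row)
open scoped Pointwise

universe u

theorem piN'_of {π : Set ℕ} {G : Type u} [Group G] {H : Subgroup G}
    (h : Cfsg.IsPiSubgroup {p | p.Prime ∧ p ∉ π} H) : PiN' π (Nat.card H) := by
  intro p hp hpi hd
  exact (h p hp hd).2 hpi

/-- the hypotheses of S4246 -/
theorem pd_of {G : Type u} [Group G] (π : Set ℕ) (A B Aπ Aπ' Bπ Bπ' : Subgroup G)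
    (hG : (A : Set G) * (B : Set G) = Set.univ) (hA3 : Aπ ⊔ Aπ' = A)
    (hA4 : ∀ a ∈ Aπ, ∀ b ∈ Aπ', a * b = b * a) (hA5 : Cfsg.IsPiSubgroup π Aπ)
    (hA6 : Cfsg.IsPiSubgroup {p | p.Prime ∧ p ∉ π} Aπ') (hB3 : Bπ ⊔ Bπ' = B)
    (hB4 : ∀ a ∈ Bπ, ∀ b ∈ Bπ', a * b = b * a) (hB5 : Cfsg.IsPiSubgroup π Bπ)
    (hB6 : Cfsg.IsPiSubgroup {p | p.Prime ∧ p ∉ π} Bπ') : PD π Aπ Aπ' Bπ Bπ' := by
  refine ⟨hA5, piN'_of hA6, hB5, piN'_of hB6, hA4, hB4, fun g => ?_⟩
  have hg : g ∈ (A : Set G) * (B : Set G) := by rw [hG]; trivial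
  obtain ⟨a, ha, b, hb, rfl⟩ := hg
  rw [SetLike.mem_coe, ← hA3, mem_sup_comm hA4] at ha
  rw [SetLike.mem_coe, ← hB3, mem_sup_comm hB4] at hb
  obtain ⟨a1, h1, a2, h2, rfl⟩ := ha
  obtain ⟨b1, h3, b2, h4, rfl⟩ := hb
  exact ⟨a1, h1, a2, h2, b1, h3, b2, h4, rfl⟩

/-- the theorem for `PD` -/
theorem PD.good {G : Type u} [Group G] [Finite G] {π : Set ℕ} (h2 : 2 ∉ π) (hGr : Gross.{u} π)
    (hRow : ∀ (S : Type u) [Group S] [Finite S] [IsSimpleGroup S], ¬ IsMulCommutative S → Row S)
    (hOut : ∀ (S : Type u) [Group S] [Finite S] [IsSimpleGroup S], ¬ IsMulCommutative S → OutTwo S)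
    {LA KA LB KB : Subgroup G} (h : PD π LA KA LB KB) :
    ((LA ⊔ LB : Subgroup G) : Set G) = (LA : Set G) * (LB : Set G) ∧ IsPiHall π (LA ⊔ LB) := by
  have hg := main h2 hGr hRow hOut (Nat.card G + 1) G (Nat.lt_succ_self _) LA KA LB KB h
  exact ⟨h.coe_sup hg, h.hall hg⟩

/-- **S4246** from S4350, the rows and the 2-part of `Aut S` -/
theorem S4246_of
    (hGr : ∀ π : Set ℕ, 2 ∉ π → Gross.{u} π)
    (hRow : ∀ (S : Type u) [Group S] [Finite S] [IsSimpleGroup S], ¬ IsMulCommutative S → Row S)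
    (hOut : ∀ (S : Type u) [Group S] [Finite S] [IsSimpleGroup S], ¬ IsMulCommutative S → OutTwo S)
    {G : Type u} [Group G] [Finite G] (π : Set ℕ) (hπ : ∀ p ∈ π, p.Prime ∧ p ≠ 2)
    (A B Aπ Aπ' Bπ Bπ' : Subgroup G) (hG : (A : Set G) * (B : Set G) = Set.univ)
    (hA1 : Aπ ≤ A) (hA2 : Aπ' ≤ A) (hA3 : Aπ ⊔ Aπ' = A)
    (hA4 : ∀ a ∈ Aπ, ∀ b ∈ Aπ', a * b = b * a) (hA5 : Cfsg.IsPiSubgroup π Aπ)
    (hA6 : Cfsg.IsPiSubgroup {p | p.Prime ∧ p ∉ π} Aπ')
    (hB1 : Bπ ≤ B) (hB2 : Bπ' ≤ B) (hB3 : Bπ ⊔ Bπ' = B)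
    (hB4 : ∀ a ∈ Bπ, ∀ b ∈ Bπ', a * b = b * a) (hB5 : Cfsg.IsPiSubgroup π Bπ)
    (hB6 : Cfsg.IsPiSubgroup {p | p.Prime ∧ p ∉ π} Bπ') :
    ∃ H : Subgroup G, (H : Set G) = (Aπ : Set G) * (Bπ : Set G) ∧ Cfsg.IsPiHall π H := by
  have h2 : 2 ∉ π := fun h => (hπ 2 h).2 rfl
  have h := pd_of π A B Aπ Aπ' Bπ Bπ' hG hA3 hA4 hA5 hA6 hB3 hB4 hB5 hB6
  exact ⟨Aπ ⊔ Bπ, h.good h2 (hGr π h2) hRow hOut⟩

end Cfsg.Agent.H817.PD
end

-- part: H109/PD/Psl
section
prune_inst 0x1403c4408e0020000008506902000044c00059000208400dc020a440202f3200980a94004801d02102a22010001002003000050c24000000e000400000100209088d4042300010c26009f800084000000000000000000000000000000051004000000002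
set_option linter.all false
open scoped Cfsg.Agent.FastGrp

-- part: H109/PD/PslB
section
/-!
# S4246, row `PSL(2, q)`: numbers, four-groups, automorphisms fixing elements of order `r | q + 1` (helper109)
-/

set_option autoImplicit false
set_option linter.unusedSectionVars false

namespace Cfsg.Agent.H109.PD

open Matrix Subgroup
open Cfsg.Agent.ClassicalGeometry
open Cfsg.Agent.ClassicalGeometry.AutPSL.Root (pr pr_surjective)
open Cfsg.Agent.ClassicalGeometry.AutPSL.Auto
open Cfsg.Agent.Walter.FieldPSL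
open Cfsg.Agent.Lib.SL2Mat
open Cfsg.Agent.H160.PD

variable {F : Type*} [Field F] [Finite F] {p : ℕ} [Fact p.Prime] [CharP F p] {f : ℕ}

/-! ### orders -/

theorem card_eq (hF : Nat.card F = p ^ f) :
    Nat.card (P2 F) * Nat.gcd 2 (p ^ f - 1) = p ^ f * ((p ^ f) ^ 2 - 1) := by
  have := Fintype.ofFinite F
  have h := PSL2Basic.card_PSL2_gcd F
  rwa [← Nat.card_eq_fintype_card, hF] at h

theorem center_bot (h4 : 4 ≤ Nat.card F) : center (P2 F) = ⊥ := by
  have hs : IsSimpleGroup (P2 F) := Matrix.ProjectiveSpecialLinearGroup.rank_two_simple h4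
  refine center_eq_bot fun hc => ?_
  -- the group would have prime order
  have := Fintype.ofFinite F
  let _ : CommGroup (P2 F) := { (inferInstance : Group (P2 F)) with mul_comm := hc.is_comm.comm }
  have hpr : (Nat.card (P2 F)).Prime := IsSimpleGroup.prime_card
  have h := PSL2Basic.card_PSL2_gcd F
  have h1 : Nat.gcd 2 (Fintype.card F - 1) ∣ 2 := Nat.gcd_dvd_left _ _
  rw [Nat.card_eq_fintype_card (α := F)] at h4
  obtain ⟨q, hq⟩ : ∃ q, q = Fintype.card F := ⟨_, rfl⟩
  rw [← hq] at h h1 h4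
  have h3 : q ^ 2 - 1 = (q - 1) * (q + 1) := by
    obtain ⟨k, rfl⟩ : ∃ k, q = k + 1 := ⟨q - 1, by omega⟩
    rw [Nat.add_sub_cancel]
    have : (k + 1) ^ 2 = k * (k + 1 + 1) + 1 := by ring
    omega
  have h5 : Nat.card (P2 F) ∣ q * ((q - 1) * (q + 1)) := by rw [← h3, ← h]; exact dvd_mul_right _ _
  have h6 : Nat.card (P2 F) ≤ q + 1 := by
    rcases hpr.dvd_mul.1 h5 with h7 | h7
    · have := Nat.le_of_dvd (by omega) h7
      omega
    · rcases hpr.dvd_mul.1 h7 with h8 | h8
      · have := Nat.le_of_dvd (by omega) h8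
        omega
      · exact Nat.le_of_dvd (by omega) h8
  have h7 : Nat.gcd 2 (q - 1) ≤ 2 := Nat.le_of_dvd (by norm_num) h1
  have h8 : q * ((q - 1) * (q + 1)) ≤ (q + 1) * 2 := by
    rw [← h3, ← h]
    exact Nat.mul_le_mul h6 h7
  have h9 : q * (q - 1) ≤ 2 := by
    have : (q + 1) * (q * (q - 1)) ≤ (q + 1) * 2 := by
      calc _ = q * ((q - 1) * (q + 1)) := by ring
        _ ≤ _ := h8
    exact Nat.le_of_mul_le_mul_left this (by omega)
  have h10 : 4 * 3 ≤ q * (q - 1) := Nat.mul_le_mul h4 (by omega)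
  omega

theorem gcd_char (hf : f ≠ 0) : ¬ p ∣ Nat.gcd 2 (p ^ f - 1) := by
  intro h
  have hp : p.Prime := Fact.out
  have h1 : p ∣ p ^ f - 1 := h.trans (Nat.gcd_dvd_right _ _)
  have h2 : p ∣ p ^ f := dvd_pow_self _ hf
  have h3 : 1 ≤ p ^ f := Nat.one_le_pow _ _ hp.pos
  have h4 : p ∣ p ^ f - (p ^ f - 1) := Nat.dvd_sub h2 h1
  rw [Nat.sub_sub_self h3] at h4
  exact hp.one_lt.ne' (Nat.dvd_one.1 h4)

theorem v_card (hF : Nat.card F = p ^ f) (hf : f ≠ 0) : v p (P2 F) = f := by
  have hp : p.Prime := Fact.out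
  have h := card_eq hF
  have h1 : 1 < p ^ f := Nat.one_lt_pow hf hp.one_lt
  have h2 : (p ^ f) ^ 2 - 1 ≠ 0 := by
    have := Nat.one_lt_pow two_ne_zero h1
    omega
  have hg : Nat.gcd 2 (p ^ f - 1) ≠ 0 := Nat.gcd_ne_zero_left two_ne_zero
  have h3 := congrArg (fun n : ℕ => n.factorization p) h
  rw [Nat.factorization_mul Nat.card_pos.ne' hg, Nat.factorization_mul (by omega) h2, Finsupp.add_apply,
    Finsupp.add_apply, Nat.factorization_eq_zero_of_not_dvd (gcd_char hf), hp.factorization_pow,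
    Finsupp.single_eq_same] at h3
  have h4 : ¬ p ∣ (p ^ f) ^ 2 - 1 := by
    intro h5
    have h6 : p ∣ (p ^ f) ^ 2 := dvd_pow (dvd_pow_self _ hf) two_ne_zero
    have h7 : p ∣ (p ^ f) ^ 2 - ((p ^ f) ^ 2 - 1) := Nat.dvd_sub h6 h5
    rw [Nat.sub_sub_self (Nat.one_le_pow _ _ (by omega))] at h7
    exact hp.one_lt.ne' (Nat.dvd_one.1 h7)
  rw [Nat.factorization_eq_zero_of_not_dvd h4] at h3
  exact h3

theorem out_eq (hF : Nat.card F = p ^ f) (h4 : 4 ≤ Nat.card F) (hf : f ≠ 0) :
    out (P2 F) = f * Nat.gcd 2 (p ^ f - 1) := by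
  have := Fintype.ofFinite F
  have h1 := ClassicalGeometry.AutPSL.Main.card_two (F := F) p
  have h2 : Nat.card (F ≃+* F) = f := Lib.FieldAutCard.card_ringAut (Nat.one_le_iff_ne_zero.2 hf)
    (by rw [← Nat.card_eq_fintype_card]; exact hF)
  have h3 : Nat.card (Matrix.ProjGenLinGroup (Fin 2) F) = p ^ f * ((p ^ f) ^ 2 - 1) := by
    have := PSL2Basic.card_PGL2 F
    rwa [← Nat.card_eq_fintype_card, hF] at this
  have h5 : Nat.card (MulAut.conj : P2 F →* MulAut (P2 F)).range = Nat.card (P2 F) :=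
    Nat.card_congr (MonoidHom.ofInjective (_root_.Cfsg.Agent.H160.PD.conj_injective (center_bot h4))).symm.toEquiv
  have h6 := (MulAut.conj : P2 F →* MulAut (P2 F)).range.card_mul_index
  rw [h5, h1, h2, h3, ← card_eq hF] at h6
  have h7 : 0 < Nat.card (P2 F) := Nat.card_pos
  apply Nat.eq_of_mul_eq_mul_left h7
  change Nat.card (P2 F) * (MulAut.conj : P2 F →* MulAut (P2 F)).range.index = _
  rw [h6]
  ring

/-- the `p`-part of `|Out|` -/
theorem v_out (hF : Nat.card F = p ^ f) (h4 : 4 ≤ Nat.card F) (hf : f ≠ 0) :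
    (out (P2 F)).factorization p = f.factorization p := by
  rw [out_eq hF h4 hf, Nat.factorization_mul hf (Nat.gcd_ne_zero_left two_ne_zero), Finsupp.add_apply,
    Nat.factorization_eq_zero_of_not_dvd (gcd_char hf), add_zero]

/-- `2 ^ (a + 1) ∣ x ^ (2 ^ a) - 1` -/
theorem two_pow_dvd {x : ℕ} (hx : x % 2 = 1) (a : ℕ) : 2 ^ (a + 1) ∣ x ^ 2 ^ a - 1 := by
  induction a with
  | zero => simpa only [_root_.zero_add, _root_.pow_one, _root_.pow_zero] using (Nat.dvd_of_mod_eq_zero (by omega) : 2 ∣ x - 1)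
  | succ a ih =>
    have h1 : 1 ≤ x ^ 2 ^ a := Nat.one_le_pow _ _ (by omega)
    have h2 : x ^ 2 ^ (a + 1) - 1 = (x ^ 2 ^ a - 1) * (x ^ 2 ^ a + 1) := by
      obtain ⟨k, hk⟩ : ∃ k, x ^ 2 ^ a = k + 1 := ⟨x ^ 2 ^ a - 1, by omega⟩
      rw [pow_succ 2 a, pow_mul, hk, Nat.add_sub_cancel]
      have : (k + 1) ^ 2 = k * (k + 1 + 1) + 1 := by ring
      omega
    have h3 : 2 ∣ x ^ 2 ^ a + 1 := by
      have : (x ^ 2 ^ a) % 2 = 1 := by rw [Nat.pow_mod, hx]; simp
      omega
    rw [h2, pow_succ]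
    exact mul_dvd_mul ih h3

/-- the `2`-part of `|Out|` is smaller than the `2`-part of the order -/
theorem two_out (hF : Nat.card F = p ^ f) (h4 : 4 ≤ Nat.card F) (hf : f ≠ 0) (hp2 : p ≠ 2) :
    (out (P2 F)).factorization 2 < v 2 (P2 F) := by
  have hp : p.Prime := Fact.out
  have hodd : p % 2 = 1 := Nat.odd_iff.1 (hp.odd_of_ne_two hp2)
  have hqo : (p ^ f) % 2 = 1 := by rw [Nat.pow_mod, hodd]; simp
  have hg : Nat.gcd 2 (p ^ f - 1) = 2 := Nat.gcd_eq_left (by omega)
  have h1 := card_eq hF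
  rw [out_eq hF h4 hf]
  rw [hg] at h1 ⊢
  -- `2 ^ (v₂ f + 3) ∣ q ^ 2 - 1`
  obtain ⟨a, ha⟩ : ∃ a, a = f.factorization 2 := ⟨_, rfl⟩
  obtain ⟨m, hm⟩ : 2 ^ a ∣ f := by rw [ha]; exact Nat.ordProj_dvd f 2
  have h2 : 2 ^ (a + 1) ∣ p ^ f - 1 := by
    rw [hm, mul_comm, pow_mul]
    exact two_pow_dvd (by rw [Nat.pow_mod, hodd]; simp) a
  have h3 : 2 ^ (a + 3) ∣ (p ^ f) ^ 2 - 1 := by
    have e1 : (p ^ f) ^ 2 - 1 = (p ^ f - 1) * (p ^ f + 1) := by
      obtain ⟨k, hk⟩ : ∃ k, p ^ f = k + 1 := ⟨p ^ f - 1, by have := Nat.one_le_pow f p hp.pos; omega⟩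
      rw [hk, Nat.add_sub_cancel]
      have : (k + 1) ^ 2 = k * (k + 1 + 1) + 1 := by ring
      omega
    -- `x = p ^ m`, `x ^ 2 = 1 mod 8`
    have e2 : p ^ f = (p ^ m) ^ 2 ^ a := by rw [hm, mul_comm, pow_mul]
    have hx : (p ^ m) % 2 = 1 := by rw [Nat.pow_mod, hodd]; simp
    obtain ⟨x, hxm⟩ : ∃ x, x = p ^ m := ⟨_, rfl⟩
    rw [e2, ← hxm]
    rw [← hxm] at hx
    clear e1 e2 hxm h1 hF h4 ha hm h2 hg
    induction a with
    | zero =>
      rw [pow_zero, pow_one]
      obtain ⟨k, hk⟩ : ∃ k, x = 2 * k + 1 := ⟨x / 2, by omega⟩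
      have e3 : x ^ 2 - 1 = 4 * (k * (k + 1)) := by
        rw [hk]
        have : (2 * k + 1) ^ 2 = 4 * (k * (k + 1)) + 1 := by ring
        omega
      have e4 : 2 ∣ k * (k + 1) := even_iff_two_dvd.1 (Nat.even_mul_succ_self k)
      rw [e3]
      exact mul_dvd_mul (by norm_num : (4 : ℕ) ∣ 4) e4
    | succ a ih =>
      have e5 : 1 ≤ x ^ 2 ^ a := Nat.one_le_pow _ _ (by omega)
      have e6 : (x ^ 2 ^ (a + 1)) ^ 2 - 1 = ((x ^ 2 ^ a) ^ 2 - 1) * ((x ^ 2 ^ a) ^ 2 + 1) := by
        obtain ⟨k, hk⟩ : ∃ k, (x ^ 2 ^ a) ^ 2 = k + 1 := ⟨(x ^ 2 ^ a) ^ 2 - 1, by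
          have := Nat.one_le_pow 2 _ e5; omega⟩
        rw [pow_succ 2 a, pow_mul, hk, Nat.add_sub_cancel]
        have : (k + 1) ^ 2 = k * (k + 1 + 1) + 1 := by ring
        omega
      have e7 : 2 ∣ (x ^ 2 ^ a) ^ 2 + 1 := by
        have : ((x ^ 2 ^ a) ^ 2) % 2 = 1 := by rw [← pow_mul, Nat.pow_mod, hx]; simp
        omega
      rw [e6, show a + 1 + 3 = (a + 3) + 1 by ring, pow_succ]
      exact mul_dvd_mul ih e7
  have h5 : 2 ^ (a + 3) ∣ Nat.card (P2 F) * 2 := by rw [h1]; exact h3.trans (dvd_mul_left _ _)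
  have h6 : 2 ^ (a + 2) ∣ Nat.card (P2 F) := by
    rw [show a + 3 = (a + 2) + 1 by ring, pow_succ] at h5
    exact Nat.dvd_of_mul_dvd_mul_right (by norm_num) h5
  have h7 : a + 2 ≤ v 2 (P2 F) := (Nat.prime_two.pow_dvd_iff_le_factorization Nat.card_pos.ne').1 h6
  rw [Nat.factorization_mul hf two_ne_zero, Finsupp.add_apply, ← ha, Nat.prime_two.factorization_self]
  omega

end Cfsg.Agent.H109.PD
end

-- part: H109/PD/PslC
section
/-!
# S4246, row `PSL(2, q)`: four-groups, automorphisms fixing elements of order `r`, odd order subgroups (helper109)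

* `two_inv` : a subgroup with the full `2`-part contains two different involutions;
* `inner_of_fix` : an automorphism of odd prime order fixing an element of order `r` (a primitive prime divisor of
  `p ^ (2 f) - 1`) is inner;
* `no_both` : no subgroup of odd order has order divisible by `p` and `r`.
-/

set_option autoImplicit false
set_option linter.unusedSectionVars false

namespace Cfsg.Agent.H109.PD

open Matrix Subgroup
open Cfsg.Agent.ClassicalGeometry
open Cfsg.Agent.ClassicalGeometry.AutPSL.Root (pr pr_surjective)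
open Cfsg.Agent.ClassicalGeometry.AutPSL.Auto
open Cfsg.Agent.Walter.FieldPSL
open Cfsg.Agent.Lib.SL2Mat
open Cfsg.Agent.H160.PD
open Cfsg.Agent.ClassicalGeometry.KleinCount (CommInv)
open scoped commutatorElement

variable {F : Type*} [Field F] [Finite F] {p : ℕ} [Fact p.Prime] [CharP F p] {f : ℕ}

/-- two commuting involutions -/
theorem exists_commInv (h2 : (2 : F) ≠ 0) : ∃ a b : P2 F, CommInv a b := by
  obtain ⟨a, b, h⟩ := Lib.PSL2Torus.exists_sum_sq h2 (-1)
  exact ⟨pr I, pr (_root_.Cfsg.Agent.Walter.FieldPSL.J a b h), ⟨CpAutRee.PslThree.pr_I_ne, CpAutRee.PslThree.pr_J_ne h2 h,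
    CpAutRee.PslThree.pr_IJ_ne h2 h, pr_I_sq, pr_J_sq h, pr_IJ h⟩⟩

/-- **A subgroup with the full `2`-part contains two different involutions.** -/
theorem two_inv (h2 : (2 : F) ≠ 0) (H : Subgroup (P2 F)) (hH : v 2 (P2 F) ≤ v 2 H) :
    ∃ a ∈ H, ∃ b ∈ H, a ≠ 1 ∧ a * a = 1 ∧ b ≠ 1 ∧ b * b = 1 ∧ a ≠ b := by
  have : Fact (Nat.Prime 2) := ⟨Nat.prime_two⟩
  obtain ⟨x, y, hxy⟩ := exists_commInv h2
  have hV : IsPGroup 2 hxy.four := IsPGroup.of_card (n := 2) (by rw [hxy.isKleinFour_four.card_four]; norm_num)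
  obtain ⟨Q, hQ⟩ := hV.exists_le_sylow
  obtain ⟨R⟩ : Nonempty (Sylow 2 H) := inferInstance
  have hRc : Nat.card (((R : Subgroup H).map H.subtype :)) = 2 ^ v 2 H := by
    rw [← show Nat.card R = 2 ^ v 2 H from R.card_eq_multiplicity]
    exact Nat.card_congr (((R : Subgroup H).equivMapOfInjective _ (subtype_injective _)).symm.toEquiv :)
  have hle : v 2 H = v 2 (P2 F) := by
    apply le_antisymm _ hH
    exact (Nat.factorization_le_iff_dvd Nat.card_pos.ne' Nat.card_pos.ne').2 (card_subgroup_dvd_card H) 2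
  let T : Sylow 2 (P2 F) := Sylow.ofCard ((R : Subgroup H).map H.subtype) (by rw [hRc, hle])
  obtain ⟨g, hg⟩ := MulAction.exists_smul_eq (P2 F) Q T
  have key : ∀ z ∈ hxy.four, g * z * g⁻¹ ∈ H := by
    intro z hz
    have h1 : g * z * g⁻¹ ∈ T := by
      rw [← hg, Lib.AutSL2.mem_smul_sylow]
      have : g⁻¹ * (g * z * g⁻¹) * g = z := by group
      rw [this]
      exact hQ hz
    have h3 : g * z * g⁻¹ ∈ ((R : Subgroup H).map H.subtype :) := h1
    obtain ⟨w, -, hw⟩ := h3
    rw [← hw]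
    exact w.2
  have hne : ∀ z : P2 F, z ≠ 1 → g * z * g⁻¹ ≠ 1 := by
    intro z hz h
    rw [mul_inv_eq_one, mul_eq_left] at h
    exact hz h
  have hsq : ∀ z : P2 F, z * z = 1 → (g * z * g⁻¹) * (g * z * g⁻¹) = 1 := by
    intro z hz
    calc (g * z * g⁻¹) * (g * z * g⁻¹) = g * (z * z) * g⁻¹ := by group
      _ = 1 := by rw [hz]; group
  refine ⟨g * x * g⁻¹, key x ?_, g * y * g⁻¹, key y ?_, hne x hxy.hx, hsq x hxy.xx, hne y hxy.hy, hsq y hxy.yy, ?_⟩
  · exact hxy.mem_four.2 (Or.inr (Or.inl rfl))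
  · exact hxy.mem_four.2 (Or.inr (Or.inr (Or.inl rfl)))
  · intro h
    exact hxy.hxy (mul_left_cancel (mul_right_cancel h))

/-! ### automorphisms fixing elements of order `r` -/

omit [Finite F] in
theorem exists_pow (A : GL (Fin 2) F) (σ : F ≃+* F) (n : ℕ) :
    ∃ B : GL (Fin 2) F, (cj A * fld σ : MulAut (Matrix.SpecialLinearGroup (Fin 2) F)) ^ n = cj B * fld (σ ^ n) := by
  induction n with
  | zero => exact ⟨1, by rw [pow_zero, pow_zero, map_one, map_one, mul_one]⟩
  | succ n ih =>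
    obtain ⟨B, hB⟩ := ih
    refine ⟨B * CpAutRee.PslThree.gm (σ ^ n) A, ?_⟩
    rw [pow_succ, hB, map_mul, pow_succ σ, map_mul]
    have h1 := CpAutRee.PslThree.fld_mul_cj (σ ^ n) A
    rw [mul_assoc (cj B), ← mul_assoc (fld (σ ^ n)), h1]
    simp only [mul_assoc]

omit [Finite F] in
theorem sigma_pow {A : GL (Fin 2) F} {σ : F ≃+* F} {n : ℕ} (h : lift (cj A * fld σ) ^ n = 1) : σ ^ n = 1 := by
  obtain ⟨B, hB⟩ := exists_pow A σ n
  rw [← map_pow, hB] at h
  exact (ClassicalGeometry.AutPSL.Main.injective_aux (τ := 1) (by rw [h, map_one, map_one])).2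

theorem inner_of_fix (h2 : (2 : F) ≠ 0) (hF : Nat.card F = p ^ f) (hf : f ≠ 0) {r : ℕ} (hr : r.Prime) (hr2 : r ≠ 2)
    (hrp : r ≠ p) (hprim : ∀ m, r ∣ p ^ m - 1 ↔ 2 * f ∣ m) {t : ℕ} (ht : t.Prime) (ht2 : t ≠ 2) {b : MulAut (P2 F)}
    (hb : b ^ t = 1) {x : P2 F} (hx : orderOf x = r) (hbx : b x = x) : ∃ g, b = MulAut.conj g := by
  have hp : p.Prime := Fact.out
  have := Fintype.ofFinite F
  obtain ⟨A, σ, rfl⟩ := ClassicalGeometry.AutPSL.Main.surj_two p b
  have hσt := sigma_pow hb
  have hxr : x ^ r = 1 := by rw [← hx]; exact pow_orderOf_eq_one x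
  obtain ⟨X, rfl, hX⟩ := BpRee.PslOdd.exists_lift (hr.odd_of_ne_two hr2) hxr
  have hX1 : X ≠ 1 := by
    rintro rfl
    rw [map_one, orderOf_one] at hx
    exact hr.one_lt.ne hx
  rw [lift_pr, MulAut.mul_apply, pr_eq_iff] at hbx
  have h3 : cj A (fld σ X) = X := by
    rcases hbx with h | h
    · exact h
    · exfalso
      have h4 : (cj A (fld σ X)) ^ r = 1 := by rw [← map_pow, ← map_pow, hX, map_one, map_one]
      rw [h, (hr.odd_of_ne_two hr2).neg_pow, hX] at h4
      have h5 := congrFun (congrFun (congrArg Subtype.val h4) 0) 0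
      rw [Matrix.SpecialLinearGroup.coe_neg, Matrix.neg_apply] at h5
      simp only [Matrix.SpecialLinearGroup.coe_one, Matrix.one_apply_eq] at h5
      apply h2
      linear_combination -h5
  have h4 := cj_eq_iff.1 h3
  have hσ : σ = 1 := by
    refine H568.FieldFix.sigma_eq_one (l := r) (r := p) (f := f) (E := 2 * f) (A := A) (X := X.1) hr ?_ ht hσt hp hF
      ?_ ?_ h4 ?_ ?_
    · rw [hF]
      intro h
      exact hrp ((Nat.prime_dvd_prime_iff_eq hr hp).1 (hr.dvd_of_dvd_pow h))
    · intro m hm h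
      exact Nat.le_of_dvd (Nat.pos_of_ne_zero hm) ((hprim m).1 h)
    · rw [Fintype.card_fin]
      have := ht.two_le
      have h5 : 3 ≤ t := by omega
      nlinarith only [h5, Nat.pos_of_ne_zero hf]
    · rw [← Matrix.SpecialLinearGroup.coe_pow, hX, Matrix.SpecialLinearGroup.coe_one]
    · intro h
      exact hX1 (Subtype.ext h)
  subst hσ
  obtain ⟨k, hk⟩ := ht.odd_of_ne_two ht2
  have h5 : lift (cj A * fld (1 : F ≃+* F)) = lift (cj (A ^ (k + 1) * A ^ (k + 1))) := by
    have e1 : lift (cj A * fld (1 : F ≃+* F)) = lift (cj A) := by rw [map_one fld, mul_one]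
    rw [e1] at hb ⊢
    rw [← pow_add, map_pow, map_pow, show k + 1 + (k + 1) = t + 1 by omega, pow_succ, hb, one_mul]
  rw [h5]
  refine CpAutRee.PslThree.lift_cj_inner (c := ((A ^ (k + 1) : GL (Fin 2) F) : Matrix (Fin 2) (Fin 2) F).det) ?_
  rw [Units.val_mul, Matrix.det_mul, sq]

/-! ### subgroups of odd order -/

omit [Finite F] in
/-- commuting matrices of `SL(2, F)` with the same trace -/
theorem eq_or_inv {A B : Matrix.SpecialLinearGroup (Fin 2) F} (h2 : (2 : F) ≠ 0) (hAB : A.1 * B.1 = B.1 * A.1)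
    (htr : A.1.trace = B.1.trace) (h4 : A.1.trace ^ 2 ≠ 4) : B = A ∨ B = A⁻¹ := by
  have dA := A.2
  have dB := B.2
  rw [det_fin_two] at dA dB
  rw [trace_fin_two, trace_fin_two] at htr
  rw [trace_fin_two] at h4
  have e00 := congrFun (congrFun hAB 0) 0
  have e01 := congrFun (congrFun hAB 0) 1
  have e10 := congrFun (congrFun hAB 1) 0
  simp only [mul_apply, Fin.sum_univ_two] at e00 e01 e10
  obtain ⟨q, hq⟩ : ∃ q, q = (A.1 0 0 - A.1 1 1) ^ 2 + 4 * (A.1 0 1 * A.1 1 0) := ⟨_, rfl⟩
  obtain ⟨m, hm⟩ : ∃ m, m = (A.1 0 0 - A.1 1 1) * (B.1 0 0 - B.1 1 1) + 2 * (A.1 0 1 * B.1 1 0 + B.1 0 1 * A.1 1 0) :=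
    ⟨_, rfl⟩
  have q1 : q = (A.1 0 0 + A.1 1 1) ^ 2 - 4 := by rw [hq]; linear_combination -4 * dA
  have q2 : q = (B.1 0 0 - B.1 1 1) ^ 2 + 4 * (B.1 0 1 * B.1 1 0) := by
    rw [q1, htr]; linear_combination 4 * dB
  have q0 : q ≠ 0 := by
    intro h
    rw [q1] at h
    exact h4 (sub_eq_zero.1 h)
  have f1 : A.1 0 1 * B.1 1 0 = B.1 0 1 * A.1 1 0 := by linear_combination e00
  have f2 : (A.1 0 0 - A.1 1 1) * B.1 0 1 = A.1 0 1 * (B.1 0 0 - B.1 1 1) := by linear_combination e01
  have f3 : (A.1 0 0 - A.1 1 1) * B.1 1 0 = A.1 1 0 * (B.1 0 0 - B.1 1 1) := by linear_combination -e10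
  have g1 : q * (B.1 0 0 - B.1 1 1) = m * (A.1 0 0 - A.1 1 1) := by
    rw [hq, hm]; linear_combination -2 * A.1 0 1 * f3 - 2 * A.1 1 0 * f2
  have g2 : q * B.1 0 1 = m * A.1 0 1 := by
    rw [hq, hm]; linear_combination (A.1 0 0 - A.1 1 1) * f2 - 2 * A.1 0 1 * f1
  have g3 : q * B.1 1 0 = m * A.1 1 0 := by
    rw [hq, hm]; linear_combination (A.1 0 0 - A.1 1 1) * f3 + 2 * A.1 1 0 * f1
  have g4 : q * q = m * m := by
    apply mul_right_cancel₀ q0
    have : q * q * q = q * q * ((B.1 0 0 - B.1 1 1) ^ 2 + 4 * (B.1 0 1 * B.1 1 0)) := by rw [← q2]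
    rw [this]
    have h5 : m * m * q = m * m * ((A.1 0 0 - A.1 1 1) ^ 2 + 4 * (A.1 0 1 * A.1 1 0)) := by rw [← hq]
    rw [h5]
    linear_combination (q * (B.1 0 0 - B.1 1 1) + m * (A.1 0 0 - A.1 1 1)) * g1 + 4 * (q * B.1 1 0) * g2 +
      4 * (m * A.1 0 1) * g3
  rcases mul_self_eq_mul_self_iff.1 g4 with h | h
  · left
    rw [← h] at g1 g2 g3
    have k1 := mul_left_cancel₀ q0 g1
    have k2 := mul_left_cancel₀ q0 g2
    have k3 := mul_left_cancel₀ q0 g3
    refine ext_ent ?_ k2 k3 ?_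
    · change B.1 0 0 = A.1 0 0
      apply mul_left_cancel₀ h2
      linear_combination k1 - htr
    · change B.1 1 1 = A.1 1 1
      apply mul_left_cancel₀ h2
      linear_combination -k1 - htr
  · right
    have hm' : m = -q := by rw [h, neg_neg]
    rw [hm'] at g1 g2 g3
    have k1 : B.1 0 0 - B.1 1 1 = -(A.1 0 0 - A.1 1 1) := mul_left_cancel₀ q0 (by linear_combination g1)
    have k2 : B.1 0 1 = -(A.1 0 1) := mul_left_cancel₀ q0 (by linear_combination g2)
    have k3 : B.1 1 0 = -(A.1 1 0) := mul_left_cancel₀ q0 (by linear_combination g3)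
    rw [ent_inv]
    refine ext_ent ?_ k2 k3 ?_
    · change B.1 0 0 = A.1 1 1
      apply mul_left_cancel₀ h2
      linear_combination k1 - htr
    · change B.1 1 1 = A.1 0 0
      apply mul_left_cancel₀ h2
      linear_combination -k1 - htr

omit [Finite F] in
/-- an element whose conjugate of odd order commutes -/
theorem comm_of_conj (h2 : (2 : F) ≠ 0) {a y : P2 F} {n : ℕ} (hn : Odd n) (ha : a ^ n = 1) (hap : a ^ p ≠ 1)
    (hc : (y * a * y⁻¹) * a = a * (y * a * y⁻¹)) : y * a * y⁻¹ = a ∨ y * a * y⁻¹ = a⁻¹ := by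
  obtain ⟨A, rfl, hA⟩ := BpRee.PslOdd.exists_lift hn ha
  obtain ⟨Y, rfl⟩ := pr_surjective y
  obtain ⟨B, hB⟩ : ∃ B, B = Y * A * Y⁻¹ := ⟨_, rfl⟩
  have e : pr Y * pr A * (pr Y)⁻¹ = pr B := by rw [hB, map_mul, map_mul, map_inv]
  rw [e] at hc ⊢
  have hcom : B * A = A * B := by
    rw [← map_mul, ← map_mul, pr_eq_iff] at hc
    rcases hc with h | h
    · exact h
    · exfalso
      have h1 : B * A * B⁻¹ = -A := by rw [h, neg_mul, mul_inv_cancel_right]
      have h3 : (B * A * B⁻¹) ^ n = 1 := by rw [conj_pow, hA, mul_one, mul_inv_cancel]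
      rw [h1, hn.neg_pow, hA] at h3
      have h4 := congrFun (congrFun (congrArg Subtype.val h3) 0) 0
      rw [Matrix.SpecialLinearGroup.coe_neg, Matrix.neg_apply] at h4
      simp only [Matrix.SpecialLinearGroup.coe_one, Matrix.one_apply_eq] at h4
      apply h2
      linear_combination -h4
  have htr : A.1.trace = B.1.trace := by
    rw [hB, Matrix.SpecialLinearGroup.coe_mul, Matrix.trace_mul_comm, ← Matrix.SpecialLinearGroup.coe_mul,
      ← mul_assoc, inv_mul_cancel, one_mul]
  have h4 : A.1.trace ^ 2 ≠ 4 := by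
    intro h
    apply hap
    rw [← map_pow, ← map_one pr, pr_eq_iff]
    rcases H160.PSLTwo.pow_of_sq_eq_four p A.2 h with h5 | h5
    · left
      apply Subtype.ext
      rw [Matrix.SpecialLinearGroup.coe_pow, h5, Matrix.SpecialLinearGroup.coe_one]
    · right
      apply Subtype.ext
      rw [Matrix.SpecialLinearGroup.coe_pow, h5, Matrix.SpecialLinearGroup.coe_neg, Matrix.SpecialLinearGroup.coe_one]
  rcases eq_or_inv h2 (congrArg Subtype.val hcom).symm htr h4 with h | h
  · left; rw [h]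
  · right; rw [h, map_inv]

/-- a nontrivial abelian normal subgroup of a solvable group -/
theorem exists_abelian_normal {H : Type*} [Group H] [Nontrivial H] (hs : Group.IsSolvable H) :
    ∃ A : Subgroup H, A.Normal ∧ A ≠ ⊥ ∧ ∀ a ∈ A, ∀ b ∈ A, a * b = b * a := by
  classical
  have hex : ∃ n, derivedSeries H n = ⊥ := hs.solvable
  obtain ⟨m, hm, hmin⟩ : ∃ m, derivedSeries H m = ⊥ ∧ ∀ k < m, derivedSeries H k ≠ ⊥ :=
    ⟨Nat.find hex, Nat.find_spec hex, fun k hk => Nat.find_min hex hk⟩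
  have hm0 : m ≠ 0 := by
    rintro rfl
    rw [derivedSeries_zero] at hm
    exact top_ne_bot hm
  obtain ⟨k, rfl⟩ := Nat.exists_eq_succ_of_ne_zero hm0
  refine ⟨derivedSeries H k, inferInstance, hmin k (by omega), ?_⟩
  intro a ha b hb
  have h1 : ⁅a, b⁆ ∈ derivedSeries H (k + 1) := by
    rw [derivedSeries_succ]
    exact commutator_mem_commutator ha hb
  rw [hm, mem_bot, commutatorElement_eq_one_iff_mul_comm] at h1
  exact h1

/-- **No subgroup of odd order has order divisible by `p` and `r`.** -/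
theorem no_both (h2 : (2 : F) ≠ 0) (hp2 : p ≠ 2) (hF : Nat.card F = p ^ f) (hf : f ≠ 0) {r : ℕ} (hr : r.Prime)
    (hrp : r ≠ p) (hprim : ∀ m, r ∣ p ^ m - 1 ↔ 2 * f ∣ m) {H : Subgroup (P2 F)} (hH : Odd (Nat.card H))
    (hpH : p ∣ Nat.card H) (hrH : r ∣ Nat.card H) : False := by
  classical
  have hp : p.Prime := Fact.out
  have : Fact r.Prime := ⟨hr⟩
  have hs : Group.IsSolvable H := S0205.result hH
  obtain ⟨y, hyo⟩ := exists_prime_orderOf_dvd_card' p hpH
  obtain ⟨x, hxo⟩ := exists_prime_orderOf_dvd_card' r hrH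
  have hy1 : y ≠ 1 := fun h => by rw [h, orderOf_one] at hyo; exact hp.one_lt.ne hyo
  have hyp : y ^ p = 1 := by rw [← hyo]; exact pow_orderOf_eq_one y
  have hxr : x ^ r = 1 := by rw [← hxo]; exact pow_orderOf_eq_one x
  have : Nontrivial H := ⟨y, 1, hy1⟩
  obtain ⟨A, hAn, hA1, hAc⟩ := exists_abelian_normal hs
  -- an element commuting with an element of order `p`
  have hcent : ∀ a b : H, a ^ p = 1 → a ≠ 1 → b * a = a * b → b ^ p = 1 := by
    intro a b ha ha1 hab
    have := pow_char_of_comm (F := F) (p := p) (x := a.1) (y := b.1) (by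
      rw [← Subgroup.coe_pow, ha, Subgroup.coe_one]) (fun h => ha1 (Subtype.ext h)) (congrArg Subtype.val hab)
    exact Subtype.ext this
  by_cases hpA : p ∣ Nat.card A
  · -- `x` acts without fixed points on the `p`-part of `A`
    let E : Subgroup H :=
      { carrier := {a | a ∈ A ∧ a ^ p = 1}
        mul_mem' := by
          rintro a b ⟨ha, hap⟩ ⟨hb, hbp⟩
          refine ⟨mul_mem ha hb, ?_⟩
          rw [(show Commute a b from hAc a ha b hb).mul_pow, hap, hbp, one_mul]
        one_mem' := ⟨one_mem _, one_pow _⟩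
        inv_mem' := by
          rintro a ⟨ha, hap⟩
          exact ⟨inv_mem ha, by rw [inv_pow, hap, inv_one]⟩ }
    have hEn : ∀ g : H, ∀ a ∈ E, g * a * g⁻¹ ∈ E := by
      rintro g a ⟨ha, hap⟩
      exact ⟨hAn.conj_mem a ha g, by rw [conj_pow, hap, mul_one, mul_inv_cancel]⟩
    have hEp : IsPGroup p E := by
      rintro ⟨a, ha, hap⟩
      exact ⟨1, Subtype.ext (by rw [pow_one]; exact hap)⟩
    obtain ⟨m, hm⟩ := IsPGroup.iff_card.1 hEp
    have hm0 : m ≠ 0 := by
      rintro rfl
      rw [pow_zero] at hm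
      obtain ⟨⟨a, haA⟩, hao⟩ := exists_prime_orderOf_dvd_card' p hpA
      have hap : a ^ p = 1 := by
        have := pow_orderOf_eq_one (⟨a, haA⟩ : A)
        rw [hao] at this
        exact congrArg Subtype.val this
      have haE : a ∈ E := ⟨haA, hap⟩
      rw [Subgroup.card_eq_one.1 hm, mem_bot] at haE
      subst haE
      have h3 : orderOf (1 : A) = p := hao
      rw [orderOf_one] at h3
      exact hp.one_lt.ne h3
    have hmf : m ≤ f := by
      rw [← v_card (F := F) hF hf]
      apply (hp.pow_dvd_iff_le_factorization Nat.card_pos.ne').1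
      rw [← hm]
      exact (card_subgroup_dvd_card E).trans (card_subgroup_dvd_card H)
    -- the permutation
    let φ : Equiv.Perm E :=
      { toFun := fun a => ⟨x * a.1 * x⁻¹, hEn x a.1 a.2⟩
        invFun := fun a => ⟨x⁻¹ * a.1 * x, by
          have := hEn x⁻¹ a.1 a.2
          rwa [inv_inv] at this⟩
        left_inv := fun a => Subtype.ext (by
          change x⁻¹ * (x * a.1 * x⁻¹) * x = a.1
          group)
        right_inv := fun a => Subtype.ext (by
          change x * (x⁻¹ * a.1 * x) * x⁻¹ = a.1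
          group) }
    have hφn : ∀ (n : ℕ) (a : E), ((φ ^ n) a).1 = x ^ n * a.1 * (x ^ n)⁻¹ := by
      intro n
      induction n with
      | zero =>
        intro a
        simp
      | succ n ih =>
        intro a
        rw [pow_succ, Equiv.Perm.mul_apply, ih]
        change x ^ n * (x * a.1 * x⁻¹) * (x ^ n)⁻¹ = _
        rw [pow_succ]
        group
    have hφr : φ ^ r ^ 1 = 1 := by
      rw [pow_one]
      ext a
      rw [hφn, hxr]
      simp only [_root_.one_mul, _root_.inv_one, _root_.mul_one, _root_.Equiv.Perm.coe_one, _root_.id_eq]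
    have hfin := Fintype.ofFinite E
    have hcard := Equiv.Perm.card_compl_support_modEq hφr
    have hone : φ.supportᶜ.card = 1 := by
      rw [Finset.card_eq_one]
      refine ⟨1, ?_⟩
      ext a
      rw [Finset.mem_compl, Equiv.Perm.mem_support, not_not, Finset.mem_singleton]
      constructor
      swap
      · rintro rfl
        apply Subtype.ext
        change x * 1 * x⁻¹ = 1
        group
      · intro ha'
        have h3 : x * a.1 * x⁻¹ = a.1 := congrArg Subtype.val ha'
        apply Subtype.ext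
        change a.1 = 1
        by_contra ha1
        have h4 := hcent a.1 x a.2.2 ha1 (by
          rw [mul_inv_eq_iff_eq_mul] at h3
          exact h3)
        have h5 : r ∣ p := by rw [← hxo]; exact orderOf_dvd_of_pow_eq_one h4
        exact hrp ((Nat.prime_dvd_prime_iff_eq hr hp).1 h5)
    rw [hone, ← Nat.card_eq_fintype_card, hm] at hcard
    have h6 : r ∣ p ^ m - 1 := (Nat.modEq_iff_dvd' (Nat.one_le_pow _ _ hp.pos)).1 hcard
    have h7 := Nat.le_of_dvd (Nat.pos_of_ne_zero hm0) ((hprim m).1 h6)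
    omega
  · -- `y` inverts or centralises
    obtain ⟨a, haA, ha1⟩ := (Subgroup.ne_bot_iff_exists_ne_one).1 hA1 |>.elim fun a ha =>
      (⟨a.1, a.2, fun h => ha (Subtype.ext h)⟩ : ∃ a : H, a ∈ A ∧ a ≠ 1)
    have hoA : orderOf a ∣ Nat.card A := by
      have := _root_.orderOf_dvd_natCard (⟨a, haA⟩ : A)
      rwa [Subgroup.orderOf_mk] at this
    have hodd : Odd (orderOf a) := Odd.of_dvd_nat hH (_root_.orderOf_dvd_natCard a)
    have hap : a ^ p ≠ 1 := by
      intro h
      rcases (Nat.dvd_prime hp).1 (orderOf_dvd_of_pow_eq_one h) with h3 | h3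
      · exact ha1 (orderOf_eq_one_iff.1 h3)
      · exact hpA (h3 ▸ hoA)
    have hc : (y * a * y⁻¹) * a = a * (y * a * y⁻¹) := hAc _ (hAn.conj_mem a haA y) _ haA
    have h3 := comm_of_conj (F := F) (p := p) (a := a.1) (y := y.1) (n := orderOf a) h2 hodd (by
      rw [← Subgroup.coe_pow, pow_orderOf_eq_one, Subgroup.coe_one]) (fun h => hap (Subtype.ext h))
      (congrArg Subtype.val hc)
    have h4 : y * a * y⁻¹ = a ∨ y * a * y⁻¹ = a⁻¹ := by
      rcases h3 with h | h
      · exact Or.inl (Subtype.ext h)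
      · exact Or.inr (Subtype.ext h)
    -- `y ^ 2` commutes with `a`
    have h5 : y ^ 2 * a * (y ^ 2)⁻¹ = a := by
      have e1 : y ^ 2 * a * (y ^ 2)⁻¹ = y * (y * a * y⁻¹) * y⁻¹ := by rw [pow_two]; group
      rw [e1]
      rcases h4 with h | h
      · rw [h, h]
      · rw [h]
        have e2 : y * a⁻¹ * y⁻¹ = (y * a * y⁻¹)⁻¹ := by group
        rw [e2, h, inv_inv]
    have h6 : Commute (y ^ 2) a := mul_inv_eq_iff_eq_mul.1 h5
    obtain ⟨k, hk⟩ := hp.odd_of_ne_two hp2
    have h7 : y = (y ^ 2) ^ (k + 1) := by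
      rw [← pow_mul, show 2 * (k + 1) = p + 1 by omega, pow_succ, hyp, one_mul]
    have h8 : Commute y a := by
      rw [h7]
      exact h6.pow_left _
    exact hap (hcent y a hyp hy1 h8.symm)

end Cfsg.Agent.H109.PD
end

-- part: H109/PD/Psl
section
/-!
# S4246, row `PSL(2, q)` (helper109)
-/

set_option autoImplicit false
set_option linter.unusedSectionVars false

namespace Cfsg.Agent.H109.PD

open Subgroup
open Cfsg.Agent.H160.PD

theorem lt_three_pow (a : ℕ) : 2 * a < 3 ^ a := by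
  induction a with
  | zero => norm_num
  | succ a ih =>
    rw [pow_succ]
    have : 1 ≤ 3 ^ a := Nat.one_le_pow _ _ (by norm_num)
    omega

theorem fac_lt {p f : ℕ} (hp : p.Prime) (hf : f ≠ 0) : f.factorization p < f := by
  have h1 := Nat.le_of_dvd (Nat.pos_of_ne_zero hf) (Nat.ordProj_dvd f p)
  exact lt_of_lt_of_le (Nat.lt_pow_self hp.one_lt) h1

theorem num_one {p f t A : ℕ} (hp : p.Prime) (ht : t.Prime) (ht2 : t ≠ 2) (htp : t ≠ p) (hf : f ≠ 0)
    (h : A = 0 ∨ ∃ f₀, f = f₀ * t ∧ A ≤ f₀) : A = 0 ∨ (3 * A ≤ f ∧ 3 * f.factorization p < f) := by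
  rcases h with h | ⟨f₀, h1, h2⟩
  · exact Or.inl h
  right
  have h3 : 3 ≤ t := by have := ht.two_le; omega
  have hf₀ : f₀ ≠ 0 := by rintro rfl; rw [zero_mul] at h1; exact hf h1
  have h4 : f.factorization p = f₀.factorization p := by
    rw [h1, Nat.factorization_mul hf₀ ht.ne_zero, Finsupp.add_apply,
      Nat.factorization_eq_zero_of_not_dvd (fun h => htp ((Nat.prime_dvd_prime_iff_eq hp ht).1 h).symm), add_zero]
  have h5 := fac_lt hp hf₀
  rw [h4]
  constructor
  · nlinarith only [h1, h2, h3]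
  · nlinarith only [h1, h3, h5]

variable {F : Type*} [Field F] [Finite F] {p : ℕ} [Fact p.Prime] [CharP F p] {f : ℕ}
  {π : Set ℕ} {L K L' K' : Subgroup (MulAut (P2 F))}

/-- `p ∈ π` -/
theorem char_mem (hF : Nat.card F = p ^ f) (h4 : 4 ≤ Nat.card F) (hf : f ≠ 0) (h : Cfg π L K L' K') : p ∈ π := by
  have hp : p.Prime := Fact.out
  have hZ := center_bot h4
  by_contra hpπ
  obtain ⟨b, hb, t, ht, htπ, ht2, hbo⟩ := h.exists_prime
  obtain ⟨b', hb', t', ht', htπ', ht2', hbo'⟩ := h.symm.exists_prime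
  have n1 := num_one hp ht ht2 (fun h0 => hpπ (h0 ▸ htπ)) hf (fix_char hF ht (fun h0 => hpπ (h0 ▸ htπ)) hbo)
  have n2 := num_one hp ht' ht2' (fun h0 => hpπ (h0 ▸ htπ')) hf (fix_char hF ht' (fun h0 => hpπ (h0 ▸ htπ')) hbo')
  have e1 := v_mono (h.trK_le hZ hb) p
  have e2 := v_mono (h.symm.trK_le hZ hb') p
  have e3 := v_le hZ K p
  have e4 := h.numK p hp hpπ
  have e5 := v_card (F := F) hF hf
  have e6 := v_out hF h4 hf
  have e7 := fac_lt hp hf
  rw [e6] at e3
  simp only [v] at *
  omega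

/-- `p` divides the order of `tr L` -/
theorem key (hF : Nat.card F = p ^ f) (h4 : 4 ≤ Nat.card F) (hf : f ≠ 0) (h : Cfg π L K L' K')
    (hL : p ∣ Nat.card (tr L)) : False := by
  classical
  have hp : p.Prime := Fact.out
  have hZ := center_bot h4
  have hpπ := char_mem hF h4 hf h
  have hp2 : p ≠ 2 := fun h0 => h.two (h0 ▸ hpπ)
  have h2 : (2 : F) ≠ 0 := by
    intro h0
    have : (2 : F) = ((2 : ℕ) : F) := by norm_num
    rw [this, CharP.cast_eq_zero_iff F p] at h0
    exact hp2 ((Nat.prime_dvd_prime_iff_eq hp Nat.prime_two).1 h0)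
  obtain ⟨u, hu, huo⟩ := Cfg.exists_mem hp hL
  have hup : u ^ p = 1 := by rw [← huo]; exact pow_orderOf_eq_one u
  have hu1 : u ≠ 1 := fun h0 => by rw [h0, orderOf_one] at huo; exact hp.one_lt.ne huo
  -- `tr K = 1`
  have hK : tr K = ⊥ := by
    rw [eq_bot_iff]
    intro y hy
    rw [mem_bot]
    by_contra hy1
    have h3 := pow_char_of_comm (F := F) hup hu1 (h.tr_comm hZ hu hy).symm
    have h5 : orderOf y = p := orderOf_eq_prime h3 hy1
    have h6 : p ∣ Nat.card (tr K) := by
      rw [← h5]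
      exact (Subgroup.orderOf_mk y hy) ▸ _root_.orderOf_dvd_natCard (⟨y, hy⟩ : tr K)
    exact h.not_mem_pi_of_dvd hZ hp h6 hpπ
  have hK2 : v 2 K < v 2 (P2 F) := by
    have e1 := v_le hZ K 2
    have e2 := two_out hF h4 hf hp2
    have e3 : v 2 (tr K) = 0 := by rw [hK]; simp only [v, _root_.Subgroup.mem_bot, _root_.Nat.card_eq_fintype_card, _root_.Fintype.card_unique, _root_.Nat.factorization_one, _root_.Finsupp.coe_zero, _root_.Pi.zero_apply]
    omega
  -- an involution in `tr K'`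
  have e2 := h.numK 2 Nat.prime_two h.two
  have hs : 2 ∣ Nat.card (tr K') := by
    rw [← v_pos Nat.prime_two]
    simp only [v] at *
    omega
  obtain ⟨s, hs, hso⟩ := Cfg.exists_mem Nat.prime_two hs
  have hL' : v p (tr L') = 0 := by
    apply v_eq_zero
    intro hd
    obtain ⟨w, hw, hwo⟩ := Cfg.exists_mem hp hd
    have hwp : w ^ p = 1 := by rw [← hwo]; exact pow_orderOf_eq_one w
    have hw1 : w ≠ 1 := fun h0 => by rw [h0, orderOf_one] at hwo; exact hp.one_lt.ne hwo
    have h3 := pow_char_of_comm (F := F) hwp hw1 (h.symm.tr_comm hZ hw hs).symm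
    have h5 : 2 ∣ p := by rw [← hso]; exact orderOf_dvd_of_pow_eq_one h3
    exact hp2 ((Nat.prime_dvd_prime_iff_eq Nat.prime_two hp).1 h5).symm
  -- `K = 1`
  have hK1 : K = ⊥ := by
    by_contra hne
    have h1 : Nat.card K ≠ 1 := fun h0 => hne (eq_bot_of_card_eq _ h0)
    obtain ⟨l, hl, hld⟩ := Nat.exists_prime_and_dvd h1
    have := Fact.mk hl
    obtain ⟨⟨k, hk⟩, hko⟩ := exists_prime_orderOf_dvd_card' l hld
    have hko' : orderOf k = l := by rw [← hko]; exact (Subgroup.orderOf_mk k hk).symm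
    have hlp : l ≠ p := fun h0 => h.piK l hl hld (h0 ▸ hpπ)
    have e3 : tr L ≤ Fx k := fun x hx => h.fixK hZ hk hx
    have e4 := v_mono e3 p
    have e5 := v_le hZ L p
    have e6 := h.numL p hp hpπ
    have e7 := v_card (F := F) hF hf
    have e8 := v_out hF h4 hf
    have e9 : 2 * v p (Fx k) ≤ f := by
      rcases fix_char hF hl hlp hko' with h0 | ⟨f₀, h0, h00⟩
      · omega
      · have := hl.two_le
        nlinarith only [h0, h00, this]
    have e10 : 2 * f.factorization p < f := by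
      have h3 := Nat.le_of_dvd (Nat.pos_of_ne_zero hf) (Nat.ordProj_dvd f p)
      have h5 := lt_three_pow (f.factorization p)
      have h6 : 3 ≤ p := by have := hp.two_le; (clear * - hp2 this; omega)
      have h7 : 3 ^ f.factorization p ≤ p ^ f.factorization p := Nat.pow_le_pow_left h6 _
      omega
    rw [e8] at e5
    simp only [v] at *
    omega
  have hKc : ∀ r, v r K = 0 := fun r => by rw [hK1]; simp only [v, _root_.Subgroup.mem_bot, _root_.Nat.card_eq_fintype_card, _root_.Fintype.card_unique, _root_.Nat.factorization_one, _root_.Finsupp.coe_zero, _root_.Pi.zero_apply]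
  -- two involutions in `tr K'`
  obtain ⟨a, ha, b, hb, ha1, haa, hb1, hbb, hab⟩ := two_inv h2 (tr K') (by
    have := hKc 2
    simp only [v] at *
    omega)
  have hodd' : Odd (Nat.card (tr L')) := h.symm.odd hZ
  have hLt : tr L' = ⊥ := by
    rw [eq_bot_iff]
    intro z hz
    rw [mem_bot]
    by_contra hz1
    have hzo : Odd (orderOf z) := by
      refine Odd.of_dvd_nat hodd' ?_
      exact (Subgroup.orderOf_mk z hz) ▸ _root_.orderOf_dvd_natCard (⟨z, hz⟩ : tr L')
    exact hab (Lib.PSL2Odd.eq_of_comm h2 ha1 haa hb1 hbb (h.symm.tr_comm hZ hz ha) (h.symm.tr_comm hZ hz hb) hz1 hzo)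
  obtain ⟨c, hc, t, ht, htπ, ht2, hco⟩ := h.symm.exists_prime
  have hct : c ^ t = 1 := by rw [← hco]; exact pow_orderOf_eq_one c
  have hcin : ¬ ∃ g, c = MulAut.conj g := by
    rintro ⟨g, rfl⟩
    have h3 : g ∈ tr L' := hc
    rw [hLt, mem_bot] at h3
    rw [h3, map_one, orderOf_one] at hco
    exact ht.one_lt.ne hco
  have hg2 : Nat.gcd 2 (p ^ f - 1) = 2 := by
    apply Nat.gcd_eq_left
    have : (p ^ f) % 2 = 1 := by rw [Nat.pow_mod, Nat.odd_iff.1 (hp.odd_of_ne_two hp2)]; simp
    omega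
  have hout : out (P2 F) = f * 2 := by rw [out_eq hF h4 hf, hg2]
  have htf : t ∣ f := by
    have h3 := card_dvd hZ L'
    rw [hLt, Subgroup.card_bot, one_mul, hout] at h3
    have h5 : t ∣ Nat.card L' := by
      rw [← hco]
      exact (Subgroup.orderOf_mk c hc) ▸ _root_.orderOf_dvd_natCard (⟨c, hc⟩ : L')
    rcases ht.dvd_mul.1 (h5.trans h3) with h6 | h6
    · exact h6
    · exact absurd ((Nat.prime_dvd_prime_iff_eq ht Nat.prime_two).1 h6) ht2
  have hf3 : 3 ≤ f := by
    have h3 := Nat.le_of_dvd (Nat.pos_of_ne_zero hf) htf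
    have := ht.two_le
    omega
  obtain ⟨r, hr, hprim, hr1, hrp⟩ := Lib.Zsigmondy.exists_primitive (a := p) (n := 2 * f) hp.two_le (by omega)
    (fun h0 => by omega) (fun h0 => hp2 h0.1)
  have hrf : 2 * f + 1 ≤ r := by
    have := Nat.le_of_dvd (by have := hr.two_le; omega) hr1
    omega
  have hrp' : r ≠ p := by rintro rfl; exact hrp dvd_rfl
  have hr2 : r ≠ 2 := by omega
  have hrS : 0 < v r (P2 F) := by
    rw [v_pos hr]
    have h3 := card_eq (F := F) hF
    rw [hg2] at h3
    have h5 : r ∣ Nat.card (P2 F) * 2 := by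
      rw [h3]
      refine Dvd.dvd.mul_left ?_ _
      rw [← pow_mul, mul_comm f 2]
      exact (hprim _).2 dvd_rfl
    rcases hr.dvd_mul.1 h5 with h6 | h6
    · exact h6
    · exact absurd ((Nat.prime_dvd_prime_iff_eq hr Nat.prime_two).1 h6) hr2
  have hrout : (out (P2 F)).factorization r = 0 := by
    apply Nat.factorization_eq_zero_of_not_dvd
    rw [hout]
    intro h3
    have := Nat.le_of_dvd (by omega) h3
    omega
  by_cases hrπ : r ∈ π
  · have e3 := h.numL r hr hrπ
    have e4 := v_le hZ L r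
    have e5 : v r (tr L') = 0 := by rw [hLt]; simp only [v, _root_.Subgroup.mem_bot, _root_.Nat.card_eq_fintype_card, _root_.Fintype.card_unique, _root_.Nat.factorization_one, _root_.Finsupp.coe_zero, _root_.Pi.zero_apply]
    have e6 : r ∣ Nat.card (tr L) := by
      rw [← v_pos hr]
      simp only [v] at *
      omega
    exact no_both h2 hp2 hF hf hr hrp' hprim (h.odd hZ) hL e6
  · have e3 := h.numK r hr hrπ
    have e4 : r ∣ Nat.card (tr K') := by
      rw [← v_pos hr]
      have := hKc r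
      simp only [v] at *
      omega
    obtain ⟨x, hx, hxo⟩ := Cfg.exists_mem hr e4
    exact hcin (inner_of_fix h2 hF hf hr hr2 hrp' hprim ht ht2 hct hxo (h.symm.fix hZ hc hx))

/-- **The row `PSL(2, q)`.** -/
theorem row_psl2 (F : Type*) [Field F] [Finite F] (h4 : 4 ≤ Nat.card F) :
    Row (Matrix.ProjectiveSpecialLinearGroup (Fin 2) F) := by
  change Row (P2 F)
  have := Fintype.ofFinite F
  obtain ⟨p, hch⟩ := CharP.exists F
  obtain ⟨n, hp, hn⟩ := FiniteField.card F p
  have : Fact p.Prime := ⟨hp⟩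
  obtain ⟨f, hfn⟩ : ∃ f : ℕ, f = n := ⟨_, rfl⟩
  have hf : f ≠ 0 := by rw [hfn]; exact n.2.ne'
  have hF : Nat.card F = p ^ f := by rw [Nat.card_eq_fintype_card, hn, hfn]
  intro π L K L' K' h
  have hpπ := char_mem hF h4 hf h
  have hZ := center_bot h4
  have h1 := h.numL p hp hpπ
  have h2 := v_le hZ L p
  have h3 := v_out hF h4 hf
  have h5 := v_card (F := F) hF hf
  have h6 := fac_lt hp hf
  by_cases hL : p ∣ Nat.card (tr L)
  · exact key hF h4 hf h hL
  · by_cases hL' : p ∣ Nat.card (tr L')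
    · exact key hF h4 hf h.symm hL'
    · have h7 : v p (tr L) = 0 := v_eq_zero hL
      have h8 : v p (tr L') = 0 := v_eq_zero hL'
      rw [h3] at h2
      simp only [v] at *
      omega

end Cfsg.Agent.H109.PD
end
end

-- part: H715/PDU/Bound
section
prune_inst 0x31507d042c62020000000516802000202000040000408400240201060801c0208980a0410a001110102800810001002003000000c04000000400040000050000108082002140000022009e000000000000000000000000000000000000010004000000002
set_option linter.all false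
open scoped Cfsg.Agent.FastGrp

-- part: H715/PDU/Root
section
/-!
# Row PSU of S4246: large `p`-subgroups of `SU n F q` in the defining characteristic

`sg hF u hu` is the root group (the Siegel transformations) of the isotropic vector `u`; a `p`-subgroup `Q` of small
index in a Sylow subgroup meets some root group in a subgroup of small index, hence fixes only one line.
-/

set_option autoImplicit false

namespace Cfsg.Agent.H715.PDU

open Cfsg Module Matrix Subgroup
open Cfsg.Agent.LieClassical.HermBasic Cfsg.Agent.LieClassical.HermSiegel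
open Cfsg.Agent.ClassicalGeometry.HermOrtho
open Cfsg.Agent.GpUn
open Cfsg.Agent.H173.RU

variable {F : Type*} [Field F] [Fintype F] {q n : ℕ}

/-- the root group of the isotropic vector `u` -/
def sg (hF : Fintype.card F = q ^ 2) (u : Fin n → F) (hu : hermForm n F q u u = 0) : Subgroup (SU n F q) where
  carrier := {g | ∃ (w : Fin n → F) (μ : F) (h : IsSiegel q u w μ), g = siegel hF u w μ h}
  mul_mem' := by
    rintro _ _ ⟨w, μ, h, rfl⟩ ⟨w', μ', h', rfl⟩
    exact ⟨_, _, h.mul hF h', siegel_mul hF h h'⟩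
  one_mem' := ⟨0, 0, IsSiegel.zero hF hu, (siegel_zero hF _).symm⟩
  inv_mem' := by
    rintro _ ⟨w, μ, h, rfl⟩
    exact ⟨_, _, h.inv hF, siegel_inv hF h⟩

theorem mem_sg (hF : Fintype.card F = q ^ 2) {u : Fin n → F} (hu : hermForm n F q u u = 0) {g : SU n F q} :
    g ∈ sg hF u hu ↔ ∃ (w : Fin n → F) (μ : F) (h : IsSiegel q u w μ), g = siegel hF u w μ h := Iff.rfl

/-- unipotent elements have `p`-power order -/
theorem pow_card_eq_one (hF : Fintype.card F = q ^ 2) {g : SU n F q}
    (h : (mat g - 1) * (mat g - 1) * (mat g - 1) = 0) : g ^ Fintype.card F = 1 := by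
  obtain ⟨p, hp⟩ := CharP.exists F
  obtain ⟨k, hprime, hcard⟩ := FiniteField.card F p
  have := Fact.mk hprime
  rcases Nat.eq_zero_or_pos n with rfl | hn
  · exact ext_act fun v => Subsingleton.elim _ _
  have : Nonempty (Fin n) := ⟨⟨0, hn⟩⟩
  have h3 : 3 ≤ Fintype.card F := by have := two_le hF; rw [hF]; nlinarith only [this]
  have hc : (mat g - 1) ^ Fintype.card F = mat g ^ Fintype.card F - 1 := by
    rw [hcard]
    have := sub_pow_char_pow_of_commute (R := Matrix (Fin n) (Fin n) F) (p := p) (n := (k : ℕ))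
      (Commute.one_right (mat g))
    rw [this, one_pow]
  have h0 : (mat g - 1) ^ Fintype.card F = 0 := by
    obtain ⟨m, hm⟩ := Nat.exists_eq_add_of_le h3
    rw [hm, pow_add, pow_succ, pow_two, h, zero_mul]
  rw [h0] at hc
  have h1 : mat g ^ Fintype.card F = 1 := (sub_eq_zero.1 hc.symm)
  have h6 : ∀ (g : SU n F q) (k : ℕ), mat (g ^ k) = mat g ^ k := by
    intro g k
    induction k with
    | zero => rw [pow_zero, pow_zero]; rfl
    | succ k ih => rw [pow_succ, pow_succ, ← ih]; rfl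
  apply mat_injective
  rw [h6, h1, mat_one]

theorem card_eq_pow {p : ℕ} [Fact p.Prime] [CharP F p] : ∃ k : ℕ, Fintype.card F = p ^ k := by
  obtain ⟨k, -, hcard⟩ := FiniteField.card F p
  exact ⟨k, hcard⟩

theorem siegel_pow (hF : Fintype.card F = q ^ 2) {u w : Fin n → F} {μ : F} (h : IsSiegel q u w μ) :
    siegel hF u w μ h ^ Fintype.card F = 1 := by
  apply pow_card_eq_one hF
  apply Matrix.ext_of_mulVec_single
  intro i
  set e : Fin n → F := Pi.single i 1
  have key : ∀ v : Fin n → F, (mat (siegel hF u w μ h) - 1) *ᵥ v =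
      hermForm n F q v u • w + (μ * hermForm n F q v u - hermForm n F q v w) • u := by
    intro v
    rw [Matrix.sub_mulVec, ← act_def, act_siegel, Matrix.one_mulVec]
    abel
  rw [Matrix.zero_mulVec, ← Matrix.mulVec_mulVec, ← Matrix.mulVec_mulVec, key e, key, key]
  simp only [herm_add_left, herm_smul_left, h.iso, h.orth, h.orth' hF, mul_zero, add_zero,
    zero_sub, zero_smul, zero_add, sub_self]

theorem sg_isPGroup (hF : Fintype.card F = q ^ 2) {p : ℕ} [hp : Fact p.Prime] [CharP F p] {u : Fin n → F}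
    (hu : hermForm n F q u u = 0) : IsPGroup p ↥(sg hF u hu) := by
  rintro ⟨g, w, μ, h, rfl⟩
  obtain ⟨k, hk⟩ := card_eq_pow (F := F) (p := p)
  refine ⟨k, Subtype.ext ?_⟩
  have := siegel_pow hF h
  rw [hk] at this
  exact this

/-- **Root groups meeting a `p`-subgroup in a large subgroup.** -/
theorem exists_root (hF : Fintype.card F = q ^ 2) (hn : 2 ≤ n) {p : ℕ} [hp : Fact p.Prime] [CharP F p]
    (Q : Subgroup (SU n F q)) (hQ : IsPGroup p Q) :
    ∃ (u : Fin n → F) (hu : hermForm n F q u u = 0), u ≠ 0 ∧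
      Q.relIndex (sg hF u hu) * Nat.card Q ≤ p ^ (Nat.card (SU n F q)).factorization p := by
  obtain ⟨u₀, u', a, b, ha, hu₀, -, h1, h2, h3⟩ := Cfsg.Agent.LieClassical.HermGen.exists_hyp_pair (F := F) (q := q)
    hF (i := (⟨0, by omega⟩ : Fin n)) (j := ⟨1, by omega⟩) (by simp)
  have hu00 : u₀ ≠ 0 := by
    rintro h0
    rw [h0, herm_zero_left] at h3
    exact zero_ne_one h3
  obtain ⟨P₀, hP₀⟩ := (sg_isPGroup hF (p := p) h1).exists_le_sylow
  obtain ⟨P₁, hP₁⟩ := hQ.exists_le_sylow
  obtain ⟨g, hg⟩ := MulAction.exists_smul_eq (SU n F q) P₀ P₁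
  have hgu : hermForm n F q (act g u₀) (act g u₀) = 0 := by rw [herm_act, h1]
  have hle : sg hF (act g u₀) hgu ≤ (P₁ : Subgroup (SU n F q)) := by
    rintro _ ⟨w, μ, h, rfl⟩
    have h4 : IsSiegel q u₀ (act g⁻¹ w) μ := by
      have h5 := h.map g⁻¹
      rwa [act_inv_act] at h5
    have h5 : siegel hF (act g u₀) w μ h = g * siegel hF u₀ (act g⁻¹ w) μ h4 * g⁻¹ := by
      rw [conj_siegel]
      exact siegel_congr hF _ _ rfl (act_act_inv g w).symm rfl
    have h6 : siegel hF u₀ (act g⁻¹ w) μ h4 ∈ (P₀ : Subgroup (SU n F q)) := hP₀ ⟨_, _, h4, rfl⟩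
    rw [h5, ← hg]
    exact Subgroup.smul_mem_pointwise_smul _ (MulAut.conj g) _ h6
  refine ⟨act g u₀, hgu, fun h0 => hu00 ((act_eq_zero g).1 h0), ?_⟩
  have h4 : Q.relIndex (P₁ : Subgroup (SU n F q)) * Nat.card Q = Nat.card (P₁ : Subgroup (SU n F q)) := by
    rw [mul_comm, ← Nat.card_congr (Subgroup.subgroupOfEquivOfLe hP₁).toEquiv]
    exact Subgroup.card_mul_index _
  have h5 : Q.relIndex (sg hF (act g u₀) hgu) ≤ Q.relIndex (P₁ : Subgroup (SU n F q)) := by
    apply relIndex_le_of_le_right hle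
    intro h0
    rw [h0, zero_mul] at h4
    exact Nat.card_pos.ne h4
  rw [← P₁.card_eq_multiplicity]
  calc Q.relIndex (sg hF (act g u₀) hgu) * Nat.card Q
      ≤ Q.relIndex (P₁ : Subgroup (SU n F q)) * Nat.card Q := Nat.mul_le_mul_right _ h5
    _ = _ := h4

/-- linear functionals are products with vectors -/
theorem exists_herm_rep (hF : Fintype.card F = q ^ 2) (L : (Fin n → F) →ₗ[F] F) :
    ∃ w : Fin n → F, ∀ v, hermForm n F q v w = L v := by
  refine ⟨fun i => (L (Pi.single i 1)) ^ q, fun v => ?_⟩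
  rw [herm_def]
  have h1 : v = ∑ i, v i • (Pi.single i 1 : Fin n → F) := by
    funext j
    rw [Finset.sum_apply, Finset.sum_eq_single j]
    · simp
    · intro b _ hb
      simp [hb.symm]
    · simp only [_root_.Finset.mem_univ, _root_.not_true_eq_false, _root_.Pi.smul_apply, _root_.Pi.single_eq_same, _root_.smul_eq_mul, _root_.mul_one, _root_.IsEmpty.forall_iff]
  conv_rhs => rw [h1]
  rw [map_sum]
  refine Finset.sum_congr rfl fun i _ => ?_
  rw [map_smul, pow_q_pow_q hF, smul_eq_mul]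

omit [Fintype F] in
/-- functionals with given values on an independent family -/
theorem exists_functional {V : Type*} [AddCommGroup V] [Module F V] {ι : Type*} {x : ι → V}
    (hli : LinearIndependent F x) (c : ι → F) : ∃ L : V →ₗ[F] F, ∀ i, L (x i) = c i := by
  obtain ⟨L, hL⟩ := LinearMap.exists_extend ((Finsupp.linearCombination F c).comp hli.repr)
  refine ⟨L, fun i => ?_⟩
  have h1 := LinearMap.congr_fun hL ⟨x i, Submodule.subset_span ⟨i, rfl⟩⟩
  rw [LinearMap.comp_apply, Submodule.subtype_apply] at h1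
  have h2 := hli.repr_eq_single i ⟨x i, Submodule.subset_span ⟨i, rfl⟩⟩ rfl
  refine h1.trans ?_
  rw [LinearMap.comp_apply, h2, Finsupp.linearCombination_single, smul_eq_mul, one_mul]

/-- **The index of the stabiliser of an independent family in the root group.** -/
theorem le_relIndex (hF : Fintype.card F = q ^ 2) {d : ℕ} (x : Fin (d + 1) → (Fin n → F))
    (hu : hermForm n F q (x 0) (x 0) = 0) (hx : ∀ i, hermForm n F q (x i) (x 0) = 0)
    (hli : LinearIndependent F x) (Q : Subgroup (SU n F q))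
    (hQ : ∀ g ∈ Q ⊓ sg hF (x 0) hu, ∀ i, act g (x i) = x i) :
    (q ^ 2) ^ d ≤ Q.relIndex (sg hF (x 0) hu) := by
  classical
  have key : ∀ c : Fin d → F, ∃ g ∈ sg hF (x 0) hu, ∀ i : Fin d, act g (x i.succ) = x i.succ - c i • x 0 := by
    intro c
    obtain ⟨L, hL⟩ := exists_functional hli (Fin.cons 0 c : Fin (d + 1) → F)
    obtain ⟨w, hw⟩ := exists_herm_rep hF L
    have hw0 : hermForm n F q w (x 0) = 0 := by
      apply herm_eq_zero_swap hF
      rw [hw, hL, Fin.cons_zero]
    obtain ⟨μ, hμ⟩ := exists_trace_eq hF (c := -hermForm n F q w w) (by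
      rw [neg_pow_q hF, herm_self_pow hF])
    have hs : IsSiegel q (x 0) w μ := ⟨hu, hw0, by rw [hμ]; ring⟩
    refine ⟨siegel hF (x 0) w μ hs, ⟨_, _, hs, rfl⟩, fun i => ?_⟩
    rw [act_siegel, hx, hw, hL, Fin.cons_succ, zero_smul, mul_zero, zero_sub, add_zero, neg_smul, sub_eq_add_neg]
  choose g hg hgx using key
  have h1 : Nat.card (Fin d → F) = (q ^ 2) ^ d := by
    rw [Nat.card_eq_fintype_card, Fintype.card_fun, Fintype.card_fin, hF]
  rw [← h1]
  have hx0 : x 0 ≠ 0 := hli.ne_zero 0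
  refine Nat.card_le_card_of_injective
    (β := ↥(sg hF (x 0) hu) ⧸ (Q.subgroupOf (sg hF (x 0) hu)))
    (fun c => QuotientGroup.mk (⟨g c, hg c⟩ : ↥(sg hF (x 0) hu))) ?_
  intro c c' hcc
  have h2 := QuotientGroup.eq.1 hcc
  rw [mem_subgroupOf] at h2
  have h3 : (g c)⁻¹ * g c' ∈ Q ⊓ sg hF (x 0) hu := ⟨h2, Subgroup.mul_mem _ (Subgroup.inv_mem _ (hg c)) (hg c')⟩
  funext i
  have h4 := hQ _ h3 i.succ
  rw [act_mul] at h4
  have h5 := congrArg (act (g c)) h4
  rw [act_act_inv, hgx, hgx] at h5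
  have h6 : (c i - c' i) • x 0 = 0 := by
    rw [sub_smul]
    have : x i.succ - c' i • x 0 - (x i.succ - c i • x 0) = 0 := by rw [h5, sub_self]
    rw [← this]
    abel
  rcases smul_eq_zero.1 h6 with h7 | h7
  · exact sub_eq_zero.1 h7
  · exact absurd h7 hx0

omit [Fintype F] in
/-- families in a subspace, independent modulo a vector -/
theorem exists_family {V : Type*} [AddCommGroup V] [Module F V] [FiniteDimensional F V] {u : V} (hu : u ≠ 0)
    (Z : Submodule F V) : ∀ d : ℕ, d + 1 ≤ finrank F Z →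
      ∃ x : Fin (d + 1) → V, x 0 = u ∧ (∀ i, i ≠ 0 → x i ∈ Z) ∧ LinearIndependent F x := by
  intro d
  induction d with
  | zero =>
    intro _
    have : Subsingleton (Fin (0 + 1)) := Fin.subsingleton_one
    refine ⟨fun _ => u, rfl, fun i hi => absurd (Subsingleton.elim i 0) hi, ?_⟩
    exact LinearIndependent.of_subsingleton 0 hu
  | succ d ih =>
    intro hd
    obtain ⟨x, hx0, hxZ, hli⟩ := ih (by omega)
    have h1 : ¬ Z ≤ Submodule.span F (Set.range x) := by
      intro hle
      have h2 := Submodule.finrank_mono hle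
      have h3 := finrank_span_eq_card hli
      rw [Fintype.card_fin] at h3
      omega
    obtain ⟨z, hz, hzs⟩ := SetLike.not_le_iff_exists.1 h1
    refine ⟨Fin.snoc x z, ?_, ?_, ?_⟩
    · rw [← hx0]
      exact Fin.snoc_castSucc (α := fun _ => V) z x 0
    · intro i hi
      refine Fin.lastCases ?_ ?_ i (motive := fun i => i ≠ 0 → (Fin.snoc x z : Fin (d + 1 + 1) → V) i ∈ Z) hi
      · intro _
        rw [Fin.snoc_last]
        exact hz
      · intro j hj
        rw [Fin.snoc_castSucc]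
        apply hxZ
        rintro rfl
        exact hj rfl
    · rw [linearIndependent_finSnoc]
      exact ⟨hli, hzs⟩

/-- the vectors fixed by a subgroup -/
def FxV (Q : Subgroup (SU n F q)) : Submodule F (Fin n → F) where
  carrier := {v | ∀ g ∈ Q, act g v = v}
  add_mem' := fun {u v} hu hv g hg => by rw [act_add, hu g hg, hv g hg]
  zero_mem' := fun g _ => act_zero g
  smul_mem' := fun c v hv g hg => by rw [act_smul, hv g hg]

omit [Fintype F] in
theorem mem_FxV {Q : Subgroup (SU n F q)} {v : Fin n → F} : v ∈ FxV Q ↔ ∀ g ∈ Q, act g v = v := Iff.rfl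

omit [Fintype F] in
theorem FxV_anti {Q Q' : Subgroup (SU n F q)} (h : Q ≤ Q') : FxV Q' ≤ FxV Q := fun _ hv g hg => hv g (h hg)

/-- the vectors orthogonal to `u` -/
def pp (q : ℕ) (u : Fin n → F) : Submodule F (Fin n → F) := hermPerp q {u}

omit [Fintype F] in
theorem mem_pp {u v : Fin n → F} : v ∈ pp q u ↔ hermForm n F q v u = 0 := by
  rw [pp, mem_hermPerp]
  simp

theorem finrank_pp (hF : Fintype.card F = q ^ 2) {u : Fin n → F} (hu : u ≠ 0) : finrank F (pp q u) + 1 = n := by
  obtain ⟨v, hv⟩ := exists_herm_ne_zero hF hu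
  have h1 : pp q u = LinearMap.ker (hermLeft q u) := by
    ext w
    rw [mem_pp, LinearMap.mem_ker]
    rfl
  have h2 := LinearMap.finrank_range_add_finrank_ker (hermLeft (n := n) q u)
  have h3 : finrank F (LinearMap.range (hermLeft (n := n) q u)) = 1 := by
    have h4 : hermLeft (n := n) q u ≠ 0 := by
      intro h0
      have h5 := LinearMap.congr_fun h0 v
      apply hv
      first
        | exact h5
        | exact herm_eq_zero_swap hF h5
    rw [LinearMap.range_eq_top.2 (LinearMap.surjective h4), finrank_top, finrank_self]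
  rw [h1, finrank_fin_fun] at *
  omega

/-- **The fixed vectors of a large subgroup of a root group are orthogonal to the centre of the root group.** -/
theorem orth_of_fix (hF : Fintype.card F = q ^ 2) {u : Fin n → F} (hn : 2 ≤ n)
    (hu : hermForm n F q u u = 0) (hu0 : u ≠ 0) (Q : Subgroup (SU n F q))
    (hQ : Q.relIndex (sg hF u hu) < (q ^ 2) ^ (n - 2)) {x : Fin n → F} (hx : x ∈ FxV (Q ⊓ sg hF u hu)) :
    hermForm n F q x u = 0 := by
  by_contra h0
  have h1 : ∀ g ∈ Q ⊓ sg hF u hu, ∀ y : Fin n → F, hermForm n F q y u = 0 → act g y = y := by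
    intro g hg y hy
    obtain ⟨w, μ, h, rfl⟩ := (mem_sg hF hu).1 hg.2
    have h2 := hx _ hg
    rw [act_siegel, add_assoc, add_eq_left] at h2
    have h3 : w = -((hermForm n F q x u)⁻¹ * (μ * hermForm n F q x u - hermForm n F q x w)) • u := by
      have h4 := congrArg (fun v => (hermForm n F q x u)⁻¹ • v) h2
      simp only [smul_add, smul_smul, inv_mul_cancel₀ h0, one_smul, smul_zero] at h4
      rw [neg_smul]
      exact eq_neg_of_add_eq_zero_left h4
    rw [act_siegel, hy, h3, herm_smul_right, hy]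
    simp only [_root_.neg_smul, _root_.smul_neg, _root_.zero_smul, _root_.neg_zero, _root_.add_zero, _root_.MulZeroClass.mul_zero, _root_.sub_self]
  have hfin := finrank_pp hF hu0
  obtain ⟨y, hy0, hyZ, hli⟩ := exists_family hu0 (pp q u) (n - 2) (by omega)
  subst hy0
  have hy : ∀ i, hermForm n F q (y i) (y 0) = 0 := by
    intro i
    by_cases hi : i = 0
    · rw [hi, hu]
    · exact mem_pp.1 (hyZ i hi)
  have := le_relIndex hF y hu hy hli Q (fun g hg i => h1 g hg _ (hy i))
  omega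

/-- **The dimension of the fixed space of a large `p`-subgroup.** -/
theorem card_le_of_finrank (hF : Fintype.card F = q ^ 2) {p : ℕ} [hp : Fact p.Prime] [CharP F p]
    (Q : Subgroup (SU n F q)) (hQ : IsPGroup p Q) {d : ℕ} (hd : d + 2 ≤ n) (hdim : d + 1 ≤ finrank F (FxV Q)) :
    (q ^ 2) ^ d * Nat.card Q ≤ p ^ (Nat.card (SU n F q)).factorization p := by
  obtain ⟨u, hu, hu0, hle⟩ := exists_root hF (by omega) Q hQ
  refine (Nat.mul_le_mul_right _ ?_).trans hle
  by_cases h1 : Q.relIndex (sg hF u hu) < (q ^ 2) ^ (n - 2)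
  · have h2 : ∀ x ∈ FxV Q, hermForm n F q x u = 0 := fun x hx =>
      orth_of_fix hF (by omega) hu hu0 Q h1 (FxV_anti inf_le_left hx)
    obtain ⟨y, hy0, hyZ, hli⟩ := exists_family hu0 (FxV Q) d hdim
    subst hy0
    have hy : ∀ i, hermForm n F q (y i) (y 0) = 0 := by
      intro i
      by_cases hi : i = 0
      · rw [hi, hu]
      · exact h2 _ (hyZ i hi)
    refine le_relIndex hF y hu hy hli Q (fun g hg i => ?_)
    by_cases hi : i = 0
    · rw [hi]
      obtain ⟨w, μ, h, rfl⟩ := (mem_sg hF hu).1 hg.2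
      exact act_siegel_self hF h
    · exact hyZ i hi g hg.1
  · refine le_trans ?_ (not_lt.1 h1)
    exact Nat.pow_le_pow_right (pow_pos (q_pos hF) _) (by omega)

end Cfsg.Agent.H715.PDU
end

-- part: H715/PDU/Semi
section
/-!
# Row PSU of S4246: the `p`-part of the centralisers of semisimple elements

`card_le_of_semisimple` : a `p`-subgroup of `SU n F q` centralised by a non-scalar `A` in `GU n F q` with
`toAut A 1 ^ j = 1`, `j` prime to `p`, has index at least `q ^ 2` in a Sylow `p`-subgroup.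
-/

set_option autoImplicit false

namespace Cfsg.Agent.H715.PDU

open Cfsg Module Matrix Subgroup
open Cfsg.Agent.LieClassical.HermBasic Cfsg.Agent.LieClassical.HermSiegel
open Cfsg.Agent.ClassicalGeometry.HermOrtho
open Cfsg.Agent.ClassicalGeometry.PSUAutBasic (pr pr_surjective pr_eq_one_iff exists_center_mul)
open Cfsg.Agent.ClassicalGeometry.PSUAutCount (gm gm_mul gm_one gm_mul_inv gm_inv_mul gm_inj herm_gm gm_inv_mulVec
  gm_mulVec_inv semiConj toAut toAut_pr act_semiConj eq_of_toAut_eq sc gm_sc_mul toAut_sc_mul)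
open Cfsg.Agent.CpAutU.Desc (toAut_mul toAut_one)
open Cfsg.Agent.GpUn
open Cfsg.Agent.H173.RU

variable {F : Type*} [Field F] [Fintype F] {q n : ℕ}

/-- **The fixed vectors of a very large subgroup of a root group.** -/
theorem FxV_eq_span (hF : Fintype.card F = q ^ 2) {u : Fin n → F} (hn : 3 ≤ n)
    (hu : hermForm n F q u u = 0) (hu0 : u ≠ 0) (Q : Subgroup (SU n F q))
    (hQ : Q.relIndex (sg hF u hu) < q ^ 2) {x : Fin n → F} (hx : x ∈ FxV (Q ⊓ sg hF u hu)) :
    ∃ c : F, x = c • u := by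
  have hq2 : 0 < q ^ 2 := pow_pos (q_pos hF) _
  have h1 : Q.relIndex (sg hF u hu) < (q ^ 2) ^ (n - 2) := by
    refine lt_of_lt_of_le hQ ?_
    calc q ^ 2 = (q ^ 2) ^ 1 := (pow_one _).symm
      _ ≤ (q ^ 2) ^ (n - 2) := Nat.pow_le_pow_right hq2 (by omega)
  have h2 := orth_of_fix hF (by omega) hu hu0 Q h1 hx
  by_contra hcon
  have hli : LinearIndependent F ![u, x] := by
    rw [LinearIndependent.pair_iff' hu0]
    intro a ha
    exact hcon ⟨a, ha.symm⟩
  have h3 := le_relIndex hF (d := 1) ![u, x] hu (by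
    intro i
    fin_cases i
    · exact hu
    · exact h2) hli Q (by
    intro g hg i
    fin_cases i
    · obtain ⟨w, μ, h, rfl⟩ := (mem_sg hF hu).1 hg.2
      exact act_siegel_self hF h
    · exact hx g hg)
  rw [pow_one] at h3
  exact absurd hQ (not_lt.2 h3)

omit [Fintype F] in
theorem toAut_pow (A : GU n F q) (j : ℕ) : toAut (A ^ j) 1 = toAut A 1 ^ j := by
  induction j with
  | zero => rw [pow_zero, pow_zero, toAut_one]
  | succ j ih =>
    rw [pow_succ, pow_succ, ← ih, toAut_mul]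
    rfl

/-- **Large `p`-subgroups are not centralised by semisimple elements.** -/
theorem card_le_of_semisimple (hF : Fintype.card F = q ^ 2) (hn : 3 ≤ n) {p : ℕ} [hp : Fact p.Prime] [CharP F p]
    {A : GU n F q} {j : ℕ} (hj : j.Coprime p) (hA : toAut A 1 ^ j = 1) (hA1 : toAut A 1 ≠ 1)
    (Q : Subgroup (SU n F q)) (hQ : IsPGroup p Q) (hcom : ∀ g ∈ Q, Com A g) :
    q ^ 2 * Nat.card Q ≤ p ^ (Nat.card (SU n F q)).factorization p := by
  obtain ⟨u, hu, hu0, hle⟩ := exists_root hF (by omega) Q hQ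
  refine (Nat.mul_le_mul_right _ ?_).trans hle
  by_contra hcon
  push Not at hcon
  have hspan : ∀ x ∈ FxV (Q ⊓ sg hF u hu), ∃ c : F, x = c • u := fun x hx =>
    FxV_eq_span hF hn hu hu0 Q hcon hx
  apply hA1
  -- `u` is fixed by `Q`
  have huQ : u ∈ FxV Q := by
    obtain ⟨v, -, hv0, hv⟩ := exists_fixed hF Q hQ ⊤ (fun _ _ _ _ => Submodule.mem_top) (by
      intro h0
      have h1 : u ∈ (⊤ : Submodule F (Fin n → F)) := Submodule.mem_top
      rw [h0, Submodule.mem_bot] at h1
      exact hu0 h1)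
    obtain ⟨c, hc⟩ := hspan v (fun g hg => hv g hg.1)
    have hc0 : c ≠ 0 := by
      rintro rfl
      rw [zero_smul] at hc
      exact hv0 hc
    have h1 : u = c⁻¹ • v := by rw [hc, smul_smul, inv_mul_cancel₀ hc0, one_smul]
    rw [h1]
    exact Submodule.smul_mem _ _ hv
  -- `A u = μ u`
  obtain ⟨μ, hμ⟩ : ∃ μ : F, gm A *ᵥ u = μ • u := by
    apply hspan
    intro g hg
    rw [← hcom g hg.1, huQ g hg.1]
  -- on the orthogonal space
  have hperp : ∀ x : Fin n → F, hermForm n F q x u = 0 → ∃ c : F, gm A *ᵥ x = μ • x + c • u := by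
    intro x hx
    obtain ⟨c, hc⟩ := hspan (gm A *ᵥ x - μ • x) (by
      intro g hg
      have h1 := hcom g hg.1 x
      obtain ⟨w, ν, h, rfl⟩ := (mem_sg hF hu).1 hg.2
      have h2 : act (siegel hF u w ν h) x = x - hermForm n F q x w • u := by
        rw [act_siegel, hx, zero_smul, mul_zero, zero_sub, add_zero, neg_smul, sub_eq_add_neg]
      rw [h2, mulVec_sub, mulVec_smul, hμ] at h1
      rw [act_sub, act_smul, ← h1, h2, smul_sub, smul_smul, smul_smul, mul_comm μ]
      abel)
    exact ⟨c, by rw [← hc]; abel⟩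
  have hμq : μ * μ ^ q = 1 := by
    obtain ⟨y, hy0, hyZ, hli⟩ := exists_family hu0 (pp q u) 1 (by have := finrank_pp hF hu0; omega)
    have hy1 : hermForm n F q (y 1) u = 0 := mem_pp.1 (hyZ 1 (by simp))
    have hnf : y 1 ∉ FxV (Q ⊓ sg hF u hu) := by
      intro hf
      obtain ⟨c, hc⟩ := hspan _ hf
      rw [← hy0] at hc
      have h1 : c = 1 ∧ False := by
        have h2 := LinearIndependent.pair_iff.1 (show LinearIndependent F ![y 0, y 1] by
          have : ![y 0, y 1] = y := by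
            funext i
            fin_cases i <;> rfl
          rw [this]
          exact hli) c (-1) (by rw [hc]; simp)
        exact absurd h2.2 (by simp)
      exact h1.2
    rw [mem_FxV] at hnf
    push Not at hnf
    obtain ⟨g, hg, hgy⟩ := hnf
    obtain ⟨w, ν, h, rfl⟩ := (mem_sg hF hu).1 hg.2
    have h2 : hermForm n F q (y 1) w ≠ 0 := by
      intro h3
      exact hgy (act_siegel_of_orth hF h hy1 h3)
    obtain ⟨c, hc⟩ := hperp (y 1) hy1
    obtain ⟨c', hc'⟩ := hperp w h.orth
    have h3 := herm_gm A (y 1) w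
    rw [hc, hc'] at h3
    simp only [herm_add_left, herm_add_right hF, herm_smul_left, herm_smul_right, hu, hy1, h.orth' hF, mul_zero,
      add_zero] at h3
    have h4 : (μ * μ ^ q - 1) * hermForm n F q (y 1) w = 0 := by linear_combination h3
    rcases mul_eq_zero.1 h4 with h5 | h5
    · exact sub_eq_zero.1 h5
    · exact absurd h5 h2
  have hμ0 : μ ≠ 0 := by
    rintro rfl
    rw [zero_mul] at hμq
    exact zero_ne_one hμq
  have hall : ∀ v : Fin n → F, hermForm n F q (gm A *ᵥ v - μ • v) u = 0 := by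
    intro v
    have h1 := herm_gm A v u
    rw [hμ, herm_smul_right] at h1
    rw [herm_sub_left, herm_smul_left, ← h1]
    linear_combination (hermForm n F q (gm A *ᵥ v) u) * (-hμq)
  -- `A - μ` is nilpotent
  have key : ∀ v : Fin n → F, (gm A - μ • (1 : Matrix (Fin n) (Fin n) F)) *ᵥ v = gm A *ᵥ v - μ • v := by
    intro v
    rw [sub_mulVec, smul_mulVec, one_mulVec]
  have hnil : (gm A - μ • (1 : Matrix (Fin n) (Fin n) F)) ^ 3 = 0 := by
    apply Matrix.ext_of_mulVec_single
    intro i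
    rw [pow_succ, pow_two, zero_mulVec, ← mulVec_mulVec, ← mulVec_mulVec, key (Pi.single i 1)]
    obtain ⟨c, hc⟩ := hperp _ (hall (Pi.single i 1))
    rw [key (gm A *ᵥ Pi.single i 1 - μ • Pi.single i 1), hc, add_sub_cancel_left, key, mulVec_smul, hμ, smul_comm,
      sub_self]
  obtain ⟨k, -, hcard⟩ := FiniteField.card F p
  have h3 : 3 ≤ Fintype.card F := by have := two_le hF; rw [hF]; nlinarith only [this]
  have hne : Nonempty (Fin n) := ⟨⟨0, by omega⟩⟩
  have hpow : (gm A) ^ Fintype.card F = μ • (1 : Matrix (Fin n) (Fin n) F) := by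
    have h4 : (gm A - μ • (1 : Matrix (Fin n) (Fin n) F)) ^ Fintype.card F =
        gm A ^ Fintype.card F - (μ • (1 : Matrix (Fin n) (Fin n) F)) ^ Fintype.card F := by
      rw [hcard]
      exact sub_pow_char_pow_of_commute (R := Matrix (Fin n) (Fin n) F) (p := p) (n := (k : ℕ))
        ((Commute.one_right (gm A)).smul_right μ)
    obtain ⟨m, hm⟩ := Nat.exists_eq_add_of_le h3
    have h5 : (gm A - μ • (1 : Matrix (Fin n) (Fin n) F)) ^ Fintype.card F = 0 := by
      rw [hm, pow_add, hnil, zero_mul]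
    rw [h5] at h4
    rw [sub_eq_zero.1 h4.symm, smul_pow, one_pow, FiniteField.pow_card]
  have h4 : toAut A 1 ^ Fintype.card F = 1 := by
    rw [← toAut_pow]
    apply toAut_eq_one_of_scalar hn (c := μ)
    intro v
    rw [gm_pow, hpow, smul_mulVec, one_mulVec]
  have h5 : orderOf (toAut A 1) ∣ Nat.gcd j (Fintype.card F) :=
    Nat.dvd_gcd (orderOf_dvd_of_pow_eq_one hA) (orderOf_dvd_of_pow_eq_one h4)
  rw [hcard, (hj.pow_right _), Nat.dvd_one, orderOf_eq_one_iff] at h5
  exact h5

end Cfsg.Agent.H715.PDU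
end

-- part: H715/PDU/Bound
section
/-!
# Row PSU of S4246: orders, `|Out|`, and the `p`-part of the fixed points of automorphisms
-/

set_option autoImplicit false

namespace Cfsg.Agent.H715.PDU

open Cfsg Module Matrix Subgroup
open Cfsg.Agent.LieClassical.HermBasic Cfsg.Agent.LieClassical.HermSiegel
open Cfsg.Agent.ClassicalGeometry.HermOrtho
open Cfsg.Agent.ClassicalGeometry.PSUAutBasic (pr pr_surjective pr_eq_one_iff exists_center_mul)
open Cfsg.Agent.ClassicalGeometry.PSUAutCount (gm gm_mul gm_one gm_mul_inv gm_inv_mul gm_inj herm_gm gm_inv_mulVec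
  gm_mulVec_inv semiConj toAut toAut_pr act_semiConj eq_of_toAut_eq sc gm_sc_mul toAut_sc_mul)
open Cfsg.Agent.CpAutU.Desc (toAut_mul toAut_one)
open Cfsg.Agent.CpAut.Psl (fixf)
open Cfsg.Agent.GpUn
open Cfsg.Agent.H173.RU
open Cfsg.Agent.H160.PD

variable {F : Type*} [Field F] [Fintype F] {q n : ℕ}

/-! ### orders -/

theorem v_SU (hF : Fintype.card F = q ^ 2) (hn : 1 ≤ n) {p f : ℕ} (hp : p.Prime) (hf : f ≠ 0) (hq : q = p ^ f) :
    v p (SU n F q) = f * (n * (n - 1) / 2) := by
  have hq2 := two_le hF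
  have h := Cfsg.Agent.S0278.result hF n hn
  have hpq : p ∣ q := by rw [hq]; exact dvd_pow_self p hf
  have h0 : ∀ i, ¬ p ∣ (if Even i then q ^ (i + 1) + 1 else q ^ (i + 1) - 1) := by
    intro i hi
    have h1 : p ∣ q ^ (i + 1) := dvd_pow hpq (by omega)
    by_cases he : Even i
    · rw [if_pos he] at hi
      exact hp.one_lt.ne' (Nat.dvd_one.1 ((Nat.dvd_add_right h1).1 hi))
    · rw [if_neg he] at hi
      have h2 : 1 ≤ q ^ (i + 1) := Nat.one_le_pow _ _ (by omega)
      have h3 := (Nat.dvd_sub_iff_right h2 h1).1 hi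
      exact hp.one_lt.ne' (Nat.dvd_one.1 h3)
  have hprod : ¬ p ∣ ∏ i ∈ Finset.range n, (if Even i then q ^ (i + 1) + 1 else q ^ (i + 1) - 1) := by
    intro h1
    obtain ⟨i, -, hi⟩ := (Prime.dvd_finsetProd_iff hp.prime _).1 h1
    exact h0 i hi
  have hq1 : ¬ p ∣ q + 1 := fun h1 => hp.one_lt.ne' (Nat.dvd_one.1 ((Nat.dvd_add_right hpq).1 h1))
  have hp0 : ∏ i ∈ Finset.range n, (if Even i then q ^ (i + 1) + 1 else q ^ (i + 1) - 1) ≠ 0 := by
    intro h1
    exact hprod (h1 ▸ dvd_zero p)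
  have h1 := congrArg (fun m => Nat.factorization m p) h
  beta_reduce at h1
  rw [Nat.factorization_mul (by omega) Nat.card_pos.ne', Nat.factorization_mul (pow_ne_zero _ (by omega)) hp0,
    Finsupp.add_apply, Finsupp.add_apply, Nat.factorization_eq_zero_of_not_dvd hq1,
    Nat.factorization_eq_zero_of_not_dvd hprod, hq, ← pow_mul, hp.factorization_pow, Finsupp.single_eq_same] at h1
  rw [v, hq]
  omega

theorem card_SU_eq (hF : Fintype.card F = q ^ 2) (hn : 3 ≤ n) :
    Nat.card (SU n F q) = Nat.card (PSU n F q) * Nat.gcd n (q + 1) := by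
  rw [← Cfsg.Agent.S0279.result hF n hn]
  exact Subgroup.card_eq_card_quotient_mul_card_subgroup _

theorem v_add (hF : Fintype.card F = q ^ 2) (hn : 3 ≤ n) (t : ℕ) :
    v t (SU n F q) = v t (PSU n F q) + (Nat.gcd n (q + 1)).factorization t := by
  have h1 : Nat.gcd n (q + 1) ≠ 0 := (Nat.gcd_pos_of_pos_left _ (by omega)).ne'
  rw [v, card_SU_eq hF hn, Nat.factorization_mul Nat.card_pos.ne' h1, Finsupp.add_apply]

theorem gcd_fact_p {p f : ℕ} (hp : p.Prime) (hf : f ≠ 0) (hq : q = p ^ f) :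
    (Nat.gcd n (q + 1)).factorization p = 0 := by
  apply Nat.factorization_eq_zero_of_not_dvd
  intro h
  have hpq : p ∣ q := by rw [hq]; exact dvd_pow_self p hf
  exact hp.one_lt.ne' (Nat.dvd_one.1 ((Nat.dvd_add_right hpq).1 (h.trans (Nat.gcd_dvd_right _ _))))

theorem v_PSU (hF : Fintype.card F = q ^ 2) (hn : 3 ≤ n) {p f : ℕ} (hp : p.Prime) (hf : f ≠ 0) (hq : q = p ^ f) :
    v p (PSU n F q) = f * (n * (n - 1) / 2) := by
  have h1 := v_add hF hn p
  rw [v_SU hF (by omega) hp hf hq, gcd_fact_p hp hf hq] at h1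
  omega

theorem center_PSU (hF : Fintype.card F = q ^ 2) (hn : 3 ≤ n) (h32 : ¬ (n = 3 ∧ q = 2)) :
    center (PSU n F q) = ⊥ := by
  have hs := Cfsg.Agent.S0283.result hF n hn h32
  exact center_eq_bot (Cfsg.Agent.CpAut.Fix.not_comm_quot (H := SU n F q))

/-- **`|Out PSU|`** -/
theorem out_PSU (hF : Fintype.card F = q ^ 2) (hn : 3 ≤ n) (h32 : ¬ (n = 3 ∧ q = 2)) {p f : ℕ} (hp : p.Prime)
    (hf : f ≠ 0) (hq : q = p ^ f) : out (PSU n F q) = Nat.gcd n (q + 1) * (2 * f) := by
  have := Fact.mk hp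
  have h1 := Cfsg.Agent.S0815.result p f (by omega) hq hF n hn h32
  have h2 : Nat.card (MulAut.conj : PSU n F q →* MulAut (PSU n F q)).range = Nat.card (PSU n F q) :=
    (Nat.card_congr (MonoidHom.ofInjective (_root_.Cfsg.Agent.H160.PD.conj_injective (center_PSU hF hn h32))).toEquiv).symm
  have h3 := Subgroup.card_mul_index (MulAut.conj : PSU n F q →* MulAut (PSU n F q)).range
  rw [h2, h1, mul_comm] at h3
  exact Nat.eq_of_mul_eq_mul_right Nat.card_pos h3

theorem out_fact (hF : Fintype.card F = q ^ 2) (hn : 3 ≤ n) (h32 : ¬ (n = 3 ∧ q = 2)) {p f : ℕ} (hp : p.Prime)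
    (hf : f ≠ 0) (hq : q = p ^ f) (t : ℕ) :
    (out (PSU n F q)).factorization t = (Nat.gcd n (q + 1)).factorization t + (2 * f).factorization t := by
  rw [out_PSU hF hn h32 hp hf hq, Nat.factorization_mul (Nat.gcd_pos_of_pos_left _ (by omega)).ne' (by omega),
    Finsupp.add_apply]

theorem out_fact_p (hF : Fintype.card F = q ^ 2) (hn : 3 ≤ n) (h32 : ¬ (n = 3 ∧ q = 2)) {p f : ℕ} (hp : p.Prime)
    (hf : f ≠ 0) (hq : q = p ^ f) : (out (PSU n F q)).factorization p < 2 * f := by
  rw [out_fact hF hn h32 hp hf hq, gcd_fact_p hp hf hq, zero_add]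
  exact Nat.factorization_lt _ (by omega)

/-! ### lifts of `p`-subgroups -/

/-- the order of a lift -/
theorem card_le_lift {P : Subgroup (SU n F q)} {Q : Subgroup (PSU n F q)} (h : P.map (pr n F q) = Q) :
    Nat.card Q ≤ Nat.card P := by
  rw [← h]
  exact Nat.card_le_card_of_surjective _ ((pr n F q).subgroupMap_surjective P)

theorem le_of_pow_card {p : ℕ} (hp : p.Prime) {X : Type*} [Group X] [Finite X] {a b : ℕ}
    {Q : Subgroup X} (hQ : Nat.card Q = p ^ b) {N : ℕ} (h : p ^ a * Nat.card Q ≤ p ^ N) : a + b ≤ N := by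
  rw [hQ, ← pow_add] at h
  exact (Nat.pow_le_pow_iff_right hp.one_lt).1 h

/-- a `p`-subgroup of full order -/
theorem exists_sylow_sub {X : Type*} [Group X] [Finite X] {p : ℕ} (hp : p.Prime) (H : Subgroup X) :
    ∃ Q : Subgroup X, Q ≤ H ∧ IsPGroup p Q ∧ Nat.card Q = p ^ v p H := by
  have := Fact.mk hp
  obtain ⟨P⟩ : Nonempty (Sylow p ↥H) := inferInstance
  refine ⟨(P : Subgroup ↥H).map H.subtype, map_subtype_le _, P.isPGroup'.map _, ?_⟩
  rw [card_map_subtype, P.card_eq_multiplicity]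

theorem pow_two_f {p f : ℕ} (hq : q = p ^ f) : q ^ 2 = p ^ (2 * f) := by rw [hq, ← pow_mul, mul_comm]

theorem coprime_pow_succ {p f : ℕ} (hp : p.Prime) (hf : f ≠ 0) (hq : q = p ^ f) (k : ℕ) :
    (p ^ k).Coprime (q + 1) := by
  apply Nat.Coprime.pow_left
  rw [Nat.Prime.coprime_iff_not_dvd hp]
  intro h
  have hpq : p ∣ q := by rw [hq]; exact dvd_pow_self p hf
  exact hp.one_lt.ne' (Nat.dvd_one.1 ((Nat.dvd_add_right hpq).1 h))

/-- a `p`-subgroup of the fixed points of a linear automorphism lifts to a `p`-group commuting with the matrix -/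
theorem exists_lift_com (hF : Fintype.card F = q ^ 2) (hn : 3 ≤ n) {p f : ℕ} [hp : Fact p.Prime]
    (hf : f ≠ 0) (hq : q = p ^ f) {A : GU n F q} {Q : Subgroup (PSU n F q)} (hQ : IsPGroup p Q)
    (hfix : ∀ z ∈ Q, toAut A 1 z = z) :
    ∃ P : Subgroup (SU n F q), IsPGroup p P ∧ P.map (pr n F q) = Q ∧ ∀ g ∈ P, Com A g := by
  obtain ⟨P, hP, hPQ, -⟩ := exists_lift_pgroup (pr n F q) pr_surjective ker_pr hQ
  refine ⟨P, hP, hPQ, fun g hg => ?_⟩
  obtain ⟨k, hk⟩ := hP ⟨g, hg⟩
  have hk' : g ^ p ^ k = 1 := congrArg Subtype.val hk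
  exact comm_of_fix hF hn (coprime_pow_succ hp.1 hf hq k) hk' (hfix _ (by rw [← hPQ]; exact ⟨g, hg, rfl⟩))

/-- **The fixed points of linear automorphisms of order prime to `p`.** -/
theorem lin_bound (hF : Fintype.card F = q ^ 2) (hn : 3 ≤ n) {p f : ℕ} [hp : Fact p.Prime] [CharP F p]
    (hf : f ≠ 0) (hq : q = p ^ f) {A : GU n F q} {j : ℕ} (hj : j.Coprime p) (hA : toAut A 1 ^ j = 1)
    (hA1 : toAut A 1 ≠ 1) : v p (Fx (toAut A 1)) + 2 * f ≤ v p (PSU n F q) := by
  obtain ⟨Q, hQle, hQ, hQc⟩ := exists_sylow_sub hp.1 (Fx (toAut A 1))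
  obtain ⟨P, hP, hPQ, hcom⟩ := exists_lift_com hF hn hf hq hQ (fun z hz => hQle hz)
  have h1 := card_le_of_semisimple hF hn hj hA hA1 P hP hcom
  have h2 := (Nat.mul_le_mul_left (q ^ 2) (card_le_lift hPQ)).trans h1
  have h3 : v p (PSU n F q) = v p (SU n F q) := by
    rw [v_PSU hF hn hp.1 hf hq, v_SU hF (by omega) hp.1 hf hq]
  rw [h3]
  rw [pow_two_f hq] at h2
  have h4 : 2 * f + v p (Fx (toAut A 1)) ≤ v p (SU n F q) := le_of_pow_card hp.1 hQc h2
  omega

/-! ### field automorphisms -/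

/-- conjugate automorphisms -/
theorem v_Fx_conj {S : Type*} [Group S] (m b : MulAut S) (p : ℕ) : v p (Fx (m * b * m⁻¹)) = v p (Fx b) := by
  have h1 : Nat.card (Fx (m * b * m⁻¹)) = Nat.card (Fx b) := by
    refine Nat.card_congr ⟨fun x => ⟨m⁻¹ x, ?_⟩, fun x => ⟨m x, ?_⟩, fun x => ?_, fun x => ?_⟩
    · have h2 : (m * b * m⁻¹) (x : S) = x := x.2
      rw [mem_Fx]
      have h3 := congrArg (m⁻¹ : MulAut S) h2
      rwa [MulAut.mul_apply, MulAut.mul_apply, MulAut.inv_apply_self] at h3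
    · rw [mem_Fx, MulAut.mul_apply, MulAut.mul_apply, MulAut.inv_apply_self, mem_Fx.1 x.2]
    · apply Subtype.ext
      exact MulEquiv.apply_symm_apply m (x : S)
    · apply Subtype.ext
      exact MulEquiv.symm_apply_apply m (x : S)
  rw [v, h1]

/-- **The fixed points of the automorphisms which are not linear.** -/
theorem fld_bound (hF : Fintype.card F = q ^ 2) (hn : 3 ≤ n) {p f : ℕ} [hp : Fact p.Prime] [CharP F p]
    (hf : f ≠ 0) (hq : q = p ^ f) {A : GU n F q} {ρ : F ≃+* F} {t : ℕ} (ht : t.Prime) (ht2 : t ≠ 2)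
    (hA : toAut A ρ ^ t = 1) (hρ : ρ ≠ 1) : 3 * v p (Fx (toAut A ρ)) ≤ v p (PSU n F q) := by
  have hodd := ht.odd_of_ne_two ht2
  obtain ⟨hord2, M, hM⟩ := Cfsg.Agent.CpAutU.Desc.exists_conj hF hn ht ht2 hA hρ
  rw [hM, v_Fx_conj]
  obtain ⟨s, hs2, hs, hqs⟩ := Cfsg.Agent.CpAutU.Fld.exists_s' hF hord2 hodd
  have hpow : ∀ a ∈ fixf ρ, a ^ q = a ^ s := fun a ha => Cfsg.Agent.CpAutU.Fld.pow_q hodd hs hqs ha
  obtain ⟨g', hg', hsg⟩ : ∃ g', g' ≤ f ∧ s = p ^ g' := by
    apply (Nat.dvd_prime_pow hp.1).1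
    rw [← hq, hqs]
    exact dvd_pow_self s ht.ne_zero
  have hfg : f = g' * t := by
    apply Nat.pow_right_injective hp.1.two_le
    show p ^ f = p ^ (g' * t)
    rw [← hq, hqs, hsg, pow_mul]
  have hg0 : g' ≠ 0 := by
    rintro rfl
    rw [pow_zero] at hsg
    omega
  have := Fintype.ofFinite ↥(fixf ρ)
  have hF₀ : Fintype.card ↥(fixf ρ) = s ^ 2 := by rw [← Nat.card_eq_fintype_card, hs]
  obtain ⟨Q, hQle, hQ, hQc⟩ := exists_sylow_sub hp.1 (Fx (toAut (1 : GU n F q) ρ))
  obtain ⟨P, hP, hPQ, -⟩ := exists_lift_pgroup (pr n F q) pr_surjective ker_pr hQ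
  have hPfix : ∀ g ∈ P, semiConj 1 ρ g = g := by
    intro g hg
    obtain ⟨k, hk⟩ := hP ⟨g, hg⟩
    have hk' : g ^ p ^ k = 1 := congrArg Subtype.val hk
    have h1 : pr n F q (semiConj 1 ρ g) = pr n F q g := hQle (by rw [← hPQ]; exact ⟨g, hg, rfl⟩)
    refine eq_of_pr_eq hF hn (coprime_pow_succ hp.1 hf hq k) ?_ hk' h1
    rw [← map_pow, hk', map_one]
  have hle : P ≤ (Cfsg.Agent.CpAutU.Fixed.embSU (n := n) hF hpow).range := by
    intro g hg
    exact Cfsg.Agent.CpAutU.Fixed.exists_embSU hF hpow (hPfix g hg)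
  have hcr : Nat.card (Cfsg.Agent.CpAutU.Fixed.embSU (n := n) hF hpow).range = Nat.card (SU n ↥(fixf ρ) s) :=
    (Nat.card_congr (MonoidHom.ofInjective (Cfsg.Agent.CpAutU.Fixed.embSU_injective hF hpow)).toEquiv).symm
  have h1 : v p P ≤ v p (SU n ↥(fixf ρ) s) := by
    rw [v, v, ← hcr]
    exact v_mono hle p
  rw [v_SU hF₀ (by omega) hp.1 hg0 hsg] at h1
  have h2 : v p (Fx (toAut (1 : GU n F q) ρ)) ≤ v p P := by
    obtain ⟨k, hk⟩ := IsPGroup.iff_card.1 hP
    have h3 := card_le_lift hPQ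
    rw [hQc, hk] at h3
    have h4 := (Nat.pow_le_pow_iff_right hp.1.one_lt).1 h3
    have h5 : v p P = k := by rw [v, hk, hp.1.factorization_pow, Finsupp.single_eq_same]
    rw [h5]
    exact h4
  rw [v_PSU hF hn hp.1 hf hq, hfg]
  have ht3 : 3 ≤ t := by have := ht.two_le; omega
  calc 3 * v p (Fx (toAut (1 : GU n F q) ρ)) ≤ t * (g' * (n * (n - 1) / 2)) := Nat.mul_le_mul ht3 (h2.trans h1)
    _ = g' * t * (n * (n - 1) / 2) := by ring

end Cfsg.Agent.H715.PDU
end

private theorem dce_a34c3df58169 : _root_.True := by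
  try have : _root_.True := by simp only [_root_.Cfsg.Agent.H715.PDU.sg.congr_simp]
  try have : _root_.True := by simp only [_root_.Cfsg.Agent.H715.PDU.pp.eq_1]
  try have : _root_.True := by simp only [_root_.Cfsg.Agent.H160.PD.v.eq_1]
  exact _root_.True.intro
end

-- part: H715/PDU/Cent
section
prune_inst 0x21507c0448e202000000050492203c62d6000490004b840084020b4207882c4080808e6088200112002080050031006002100000c040000004000400011c00801080860020400008000018800000000000000000000000000000000000010000000000002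
set_option linter.all false
open scoped Cfsg.Agent.FastGrp

-- part: H715/PDU/EigGen
section
/-!
# Row PSU of S4246: matrices with `n` distinct eigenvalues
-/

set_option autoImplicit false

namespace Cfsg.Agent.H715.PDU

open Module Matrix

variable {K : Type*} [Field K] {n : ℕ}

/-- `n` distinct eigenvalues -/
structure Eig (Y : Matrix (Fin n) (Fin n) K) (μ : Fin n → K) (b : Fin n → (Fin n → K)) : Prop where
  ne : ∀ i, b i ≠ 0
  eig : ∀ i, Y *ᵥ b i = μ i • b i
  inj : Function.Injective μ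

variable {Y G : Matrix (Fin n) (Fin n) K} {μ : Fin n → K} {b : Fin n → (Fin n → K)}

theorem Eig.li (h : Eig Y μ b) : LinearIndependent K b := by
  refine Module.End.eigenvectors_linearIndependent' (Matrix.toLin' Y) μ h.inj b fun i => ?_
  rw [Module.End.hasEigenvector_iff, Module.End.mem_eigenspace_iff, Matrix.toLin'_apply]
  exact ⟨h.eig i, h.ne i⟩

theorem Eig.top_le (h : Eig Y μ b) : ⊤ ≤ Submodule.span K (Set.range b) := by
  rw [h.li.span_eq_top_of_card_eq_finrank' (by rw [Fintype.card_fin, finrank_fin_fun])]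

theorem Eig.exists_sum (h : Eig Y μ b) (v : Fin n → K) : ∃ c : Fin n → K, v = ∑ i, c i • b i := by
  have h1 : v ∈ Submodule.span K (Set.range b) := h.top_le Submodule.mem_top
  rw [Submodule.mem_span_range_iff_exists_fun] at h1
  obtain ⟨c, hc⟩ := h1
  exact ⟨c, hc.symm⟩

theorem Eig.comb (h : Eig Y μ b) (c : Fin n → K) : Y *ᵥ (∑ i, c i • b i) = ∑ i, (μ i * c i) • b i := by
  rw [Matrix.mulVec_sum]
  refine Finset.sum_congr rfl fun i _ => ?_
  rw [mulVec_smul, h.eig, smul_smul, mul_comm]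

/-- every eigenvalue is in the list, and the eigenspaces are lines -/
theorem Eig.exists_eigenvalue (h : Eig Y μ b) {v : Fin n → K} (hv : v ≠ 0) {a : K} (ha : Y *ᵥ v = a • v) :
    ∃ i, a = μ i ∧ ∃ c : K, v = c • b i := by
  obtain ⟨c, hc⟩ := h.exists_sum v
  have h1 : ∑ i, ((μ i - a) * c i) • b i = 0 := by
    have h2 : Y *ᵥ v - a • v = 0 := sub_eq_zero.2 ha
    rw [hc, h.comb, Finset.smul_sum, ← Finset.sum_sub_distrib] at h2
    rw [← h2]
    refine Finset.sum_congr rfl fun i _ => ?_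
    rw [smul_smul, ← sub_smul, sub_mul]
  have h2 := (Fintype.linearIndependent_iff.1 h.li) _ h1
  obtain ⟨i, hi⟩ : ∃ i, c i ≠ 0 := by
    by_contra hcon
    push Not at hcon
    apply hv
    rw [hc]
    exact Finset.sum_eq_zero fun i _ => by rw [hcon i, zero_smul]
  have h3 : μ i = a := by
    rcases mul_eq_zero.1 (h2 i) with h3 | h3
    · exact sub_eq_zero.1 h3
    · exact absurd h3 hi
  refine ⟨i, h3.symm, c i, ?_⟩
  rw [hc]
  refine Finset.sum_eq_single i (fun j _ hj => ?_) (fun hi => absurd (Finset.mem_univ i) hi)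
  rcases mul_eq_zero.1 (h2 j) with h4 | h4
  · exact absurd (h.inj ((sub_eq_zero.1 h4).trans h3.symm)) hj
  · rw [h4, zero_smul]

theorem Eig.comm (h : Eig Y μ b) (hG : G * Y = Y * G) (i : Fin n) : ∃ c : K, G *ᵥ b i = c • b i := by
  by_cases h0 : G *ᵥ b i = 0
  · exact ⟨0, by rw [h0, zero_smul]⟩
  · have h1 : Y *ᵥ (G *ᵥ b i) = μ i • (G *ᵥ b i) := by
      rw [mulVec_mulVec, ← hG, ← mulVec_mulVec, h.eig, mulVec_smul]
    obtain ⟨j, hj, c, hc⟩ := h.exists_eigenvalue h0 h1
    rw [← h.inj hj] at hc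
    exact ⟨c, hc⟩

theorem Eig.ext (h : Eig Y μ b) {G' : Matrix (Fin n) (Fin n) K} (hG : ∀ i, G *ᵥ b i = G' *ᵥ b i) : G = G' := by
  apply Matrix.ext_of_mulVec_single
  intro i
  obtain ⟨c, hc⟩ := h.exists_sum (Pi.single i 1)
  rw [hc, Matrix.mulVec_sum, Matrix.mulVec_sum]
  refine Finset.sum_congr rfl fun j _ => ?_
  rw [mulVec_smul, mulVec_smul, hG]

theorem Eig.det_eq (h : Eig Y μ b) {χ : Fin n → K} (hG : ∀ i, G *ᵥ b i = χ i • b i) : G.det = ∏ i, χ i := by
  have h1 : G * (Matrix.of b)ᵀ = (Matrix.of b)ᵀ * diagonal χ := by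
    ext i j
    have h2 := congrFun (hG j) i
    rw [Matrix.mul_diagonal, Matrix.transpose_apply, Matrix.of_apply, mul_comm]
    exact h2
  have h2 : IsUnit (Matrix.of b)ᵀ := by
    rw [Matrix.isUnit_transpose, ← Matrix.linearIndependent_rows_iff_isUnit]
    exact h.li
  have h3 := congrArg Matrix.det h1
  rw [det_mul, det_mul, det_diagonal, mul_comm] at h3
  exact mul_left_cancel₀ ((Matrix.isUnit_iff_isUnit_det _).1 h2).ne_zero h3

theorem Eig.exists_dot (h : Eig Y μ b) {f : Fin n → K} (hf : f ≠ 0) : ∃ i, f ⬝ᵥ b i ≠ 0 := by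
  by_contra hcon
  push Not at hcon
  apply hf
  apply dotProduct_eq_zero
  intro w
  obtain ⟨c, hc⟩ := h.exists_sum w
  rw [hc, dotProduct_sum]
  refine Finset.sum_eq_zero fun i _ => ?_
  rw [dotProduct_smul, hcon, smul_zero]

/-- an eigenvalue different from `1` of a matrix of finite order -/
theorem exists_eig_ne_one [IsAlgClosed K] {l : ℕ} (hl : (l : K) ≠ 0) (hY : Y ^ l = 1) (hY1 : Y ≠ 1) :
    ∃ θ : K, θ ≠ 1 ∧ θ ^ l = 1 ∧ ∃ e : Fin n → K, e ≠ 0 ∧ Y *ᵥ e = θ • e := by
  set T : Matrix (Fin n) (Fin n) K := ∑ i ∈ Finset.range l, Y ^ i with hT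
  have hTY : T * (Y - 1) = 0 := by
    rw [hT, geom_sum_mul, hY, sub_self]
  have hcom : T * Y = Y * T := by
    rw [hT, Finset.sum_mul, Finset.mul_sum]
    exact Finset.sum_congr rfl fun i _ => by rw [← pow_succ, ← pow_succ']
  obtain ⟨i, hi⟩ : ∃ i, (Y - 1) *ᵥ (Pi.single i 1 : Fin n → K) ≠ 0 := by
    by_contra hcon
    push Not at hcon
    apply hY1
    rw [← sub_eq_zero]
    apply Matrix.ext_of_mulVec_single
    intro i
    rw [hcon i, zero_mulVec]
  set w := (Y - 1) *ᵥ (Pi.single i 1 : Fin n → K) with hw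
  have hTw : T *ᵥ w = 0 := by rw [hw, mulVec_mulVec, hTY, zero_mulVec]
  let X : Submodule K (Fin n → K) := LinearMap.ker (Matrix.toLin' T)
  have hwX : w ∈ X := by
    rw [LinearMap.mem_ker, Matrix.toLin'_apply]
    exact hTw
  have hX : ∀ u ∈ X, Matrix.toLin' Y u ∈ X := by
    intro u hu
    rw [LinearMap.mem_ker, Matrix.toLin'_apply] at hu ⊢
    rw [Matrix.toLin'_apply, mulVec_mulVec, hcom, ← mulVec_mulVec, hu, mulVec_zero]
  have hnt : Nontrivial X := ⟨⟨w, hwX⟩, 0, fun h0 => hi (congrArg Subtype.val h0)⟩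
  obtain ⟨θ, hθ⟩ := Module.End.exists_eigenvalue ((Matrix.toLin' Y).restrict hX)
  obtain ⟨⟨e, heX⟩, he⟩ := hθ.exists_hasEigenvector
  rw [Module.End.hasEigenvector_iff, Module.End.mem_eigenspace_iff] at he
  have he1 : Y *ᵥ e = θ • e := by
    have h1 := congrArg Subtype.val he.1
    rwa [LinearMap.coe_restrict_apply, Matrix.toLin'_apply] at h1
  have he0 : e ≠ 0 := fun h0 => he.2 (Subtype.ext h0)
  have hpow : ∀ i : ℕ, Y ^ i *ᵥ e = θ ^ i • e := by
    intro i
    induction i with
    | zero => rw [pow_zero, pow_zero, one_mulVec, one_smul]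
    | succ i ih => rw [pow_succ, ← mulVec_mulVec, he1, mulVec_smul, ih, smul_smul, pow_succ']
  refine ⟨θ, ?_, ?_, e, he0, he1⟩
  · rintro rfl
    have h1 : T *ᵥ e = 0 := by
      rw [LinearMap.mem_ker, Matrix.toLin'_apply] at heX
      exact heX
    rw [hT, Matrix.sum_mulVec] at h1
    simp only [hpow, one_pow, one_smul] at h1
    rw [Finset.sum_const, Finset.card_range, ← Nat.cast_smul_eq_nsmul K] at h1
    rcases smul_eq_zero.1 h1 with h2 | h2
    · exact hl h2
    · exact he0 h2
  · have h1 := hpow l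
    rw [hY, one_mulVec] at h1
    have h2 : (1 - θ ^ l) • e = 0 := by rw [sub_smul, one_smul, ← h1, sub_self]
    rcases smul_eq_zero.1 h2 with h3 | h3
    · exact (sub_eq_zero.1 h3).symm
    · exact absurd h3 he0

end Cfsg.Agent.H715.PDU
end

-- part: H715/PDU/Cent
section
/-!
# Row PSU of S4246: centralisers and normalisers of the elements of type `n` and `n - 1`

The eigenvalues of `y` over the algebraic closure are `θ ^ ((-q) ^ i)`, `i < k` (and `1`).
-/

set_option autoImplicit false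

namespace Cfsg.Agent.H715.PDU

open Cfsg Module Matrix Subgroup
open Cfsg.Agent.LieClassical.HermBasic Cfsg.Agent.LieClassical.HermSiegel
open Cfsg.Agent.ClassicalGeometry.HermOrtho
open Cfsg.Agent.GpUn
open Cfsg.Agent.H173.RU

variable {F : Type*} [Field F] {q n l k : ℕ}

/-- the matrix over the algebraic closure -/
noncomputable def Mk (g : SU n F q) : Matrix (Fin n) (Fin n) (AlgebraicClosure F) :=
  (mat g).map (algebraMap F (AlgebraicClosure F))

theorem Mk_def (g : SU n F q) : Mk g = (mat g).map (algebraMap F (AlgebraicClosure F)) := rfl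

theorem Mk_mul (g h : SU n F q) : Mk (g * h) = Mk g * Mk h := by
  rw [Mk_def, mat_mul, Matrix.map_mul]
  rfl

theorem Mk_one : Mk (1 : SU n F q) = 1 := by
  rw [Mk_def, mat_one]
  exact Matrix.map_one _ (map_zero _) (map_one _)

theorem Mk_pow (g : SU n F q) (j : ℕ) : Mk (g ^ j) = Mk g ^ j := by
  induction j with
  | zero => rw [pow_zero, pow_zero, Mk_one]
  | succ j ih => rw [pow_succ, pow_succ, Mk_mul, ih]

theorem Mk_injective : Function.Injective (Mk : SU n F q → _) := by
  intro g h hgh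
  exact mat_injective (Matrix.map_injective (algebraMap F (AlgebraicClosure F)).injective hgh)

theorem Mk_det (g : SU n F q) : (Mk g).det = 1 := by
  have h1 := RingHom.map_det (algebraMap F (AlgebraicClosure F)) (mat g)
  rw [det_mat, map_one] at h1
  exact h1.symm

theorem Mk_mulVec (g : SU n F q) (v : Fin n → F) :
    Mk g *ᵥ (fun i => algebraMap F (AlgebraicClosure F) (v i)) =
      fun i => algebraMap F (AlgebraicClosure F) (act g v i) := by
  funext i
  exact (RingHom.map_mulVec (algebraMap F (AlgebraicClosure F)) (mat g) v i).symm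

theorem Mk_inv_mulVec (g : SU n F q) (e : Fin n → AlgebraicClosure F) : Mk g⁻¹ *ᵥ (Mk g *ᵥ e) = e := by
  rw [mulVec_mulVec, ← Mk_mul, inv_mul_cancel, Mk_one, one_mulVec]

theorem eig_ne_zero {g : SU n F q} {e : Fin n → AlgebraicClosure F} (he : e ≠ 0) {c : AlgebraicClosure F}
    (h : Mk g *ᵥ e = c • e) : c ≠ 0 := by
  rintro rfl
  rw [zero_smul] at h
  apply he
  rw [← Mk_inv_mulVec g e, h, mulVec_zero]

variable [Fintype F]

theorem exists_frob (hF : Fintype.card F = q ^ 2) :
    ∃ Fr : AlgebraicClosure F →+* AlgebraicClosure F, ∀ x, Fr x = x ^ q := by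
  obtain ⟨p, f, hp, hch, hq, -⟩ := exists_prime_pow hF
  have := Fact.mk hp
  have : CharP (AlgebraicClosure F) p := charP_of_injective_algebraMap (algebraMap F _).injective p
  refine ⟨iterateFrobenius (AlgebraicClosure F) p f, fun x => ?_⟩
  rw [iterateFrobenius_def, hq]

/-- **Duality.** -/
theorem dual (hF : Fintype.card F = q ^ 2) {g : SU n F q} {e : Fin n → AlgebraicClosure F}
    {c : AlgebraicClosure F} (hc : c ≠ 0) (h : Mk g *ᵥ e = c • e) :
    (Mk g)ᵀ *ᵥ (fun i => e i ^ q) = (c ^ q)⁻¹ • fun i => e i ^ q := by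
  obtain ⟨Fr, hFr⟩ := exists_frob hF
  have h1 : (Mk g)ᵀ * (Mk g).map Fr = 1 := by
    have h2 := (Cfsg.Agent.LieClassical.GUOrder.mul_map_eq_one_iff hF (mat g)).1 (herm_act g)
    have h3 := congrArg (fun M => M.map (algebraMap F (AlgebraicClosure F))) h2
    beta_reduce at h3
    rw [Matrix.map_mul, Matrix.map_one _ (map_zero _) (map_one _)] at h3
    rw [← h3, Mk_def]
    congr 1
    ext i j
    rw [Matrix.map_apply, Matrix.map_apply, Matrix.map_apply, Matrix.map_apply, hFr, ← map_pow]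
    rfl
  have h2 : (Mk g).map Fr *ᵥ (fun i => e i ^ q) = c ^ q • fun i => e i ^ q := by
    funext i
    have h3 := RingHom.map_mulVec Fr (Mk g) e i
    rw [h, Pi.smul_apply, smul_eq_mul, map_mul, hFr, hFr] at h3
    have h4 : (Fr ∘ e) = fun i => e i ^ q := by
      funext i
      exact hFr _
    rw [h4] at h3
    exact h3.symm
  have h3 : (Mk g)ᵀ *ᵥ ((Mk g).map Fr *ᵥ (fun i => e i ^ q)) = fun i => e i ^ q := by
    rw [mulVec_mulVec, h1, one_mulVec]
  rw [h2, mulVec_smul] at h3
  have hcq : c ^ q ≠ 0 := pow_ne_zero _ hc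
  have h4 := congrArg (fun v => (c ^ q)⁻¹ • v) h3
  beta_reduce at h4
  rw [smul_smul, inv_mul_cancel₀ hcq, one_smul] at h4
  exact h4

theorem pow_ne_zero_vec {K : Type*} [Field K] {e : Fin n → K} (he : e ≠ 0) : (fun i => e i ^ q) ≠ 0 := by
  intro h
  apply he
  funext i
  exact eq_zero_of_pow_eq_zero (congrFun h i)

/-- the eigenvalues are closed under `θ ↦ θ ^ (-q)` -/
theorem ev_step (hF : Fintype.card F = q ^ 2) {g : SU n F q} {θ : AlgebraicClosure F}
    (h : ∃ e : Fin n → AlgebraicClosure F, e ≠ 0 ∧ Mk g *ᵥ e = θ • e) :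
    ∃ e : Fin n → AlgebraicClosure F, e ≠ 0 ∧ Mk g *ᵥ e = (θ ^ q)⁻¹ • e := by
  obtain ⟨e, he, heθ⟩ := h
  have hθ := eig_ne_zero he heθ
  have h1 := dual hF hθ heθ
  have h2 : ∃ v : Fin n → AlgebraicClosure F, v ≠ 0 ∧
      ((Mk g)ᵀ - (θ ^ q)⁻¹ • (1 : Matrix (Fin n) (Fin n) (AlgebraicClosure F))) *ᵥ v = 0 := by
    refine ⟨fun i => e i ^ q, pow_ne_zero_vec he, ?_⟩
    rw [sub_mulVec, h1, smul_mulVec, one_mulVec, sub_self]
  rw [Matrix.exists_mulVec_eq_zero_iff] at h2
  have h3 : (Mk g - (θ ^ q)⁻¹ • (1 : Matrix (Fin n) (Fin n) (AlgebraicClosure F))).det = 0 := by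
    rw [← det_transpose, transpose_sub, transpose_smul, transpose_one]
    exact h2
  rw [← Matrix.exists_mulVec_eq_zero_iff] at h3
  obtain ⟨v, hv, hv1⟩ := h3
  rw [sub_mulVec, smul_mulVec, one_mulVec, sub_eq_zero] at hv1
  exact ⟨v, hv, hv1⟩

theorem zpow_step {K : Type*} [Field K] (θ : K) (m : ℕ) :
    ((θ ^ ((-(q : ℤ)) ^ m)) ^ q)⁻¹ = θ ^ ((-(q : ℤ)) ^ (m + 1)) := by
  rw [← zpow_natCast, ← _root_.zpow_mul, ← _root_.zpow_neg, pow_succ, mul_neg]

theorem ev_iter (hF : Fintype.card F = q ^ 2) {g : SU n F q} {θ : AlgebraicClosure F}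
    (h : ∃ e : Fin n → AlgebraicClosure F, e ≠ 0 ∧ Mk g *ᵥ e = θ • e) (m : ℕ) :
    ∃ e : Fin n → AlgebraicClosure F, e ≠ 0 ∧ Mk g *ᵥ e = (θ ^ ((-(q : ℤ)) ^ m)) • e := by
  induction m with
  | zero => simpa using h
  | succ m ih =>
    have h1 := ev_step hF ih
    rwa [zpow_step] at h1

/-- **The step for common eigenvectors.** -/
theorem Eig.step (hF : Fintype.card F = q ^ 2) {y : SU n F q} {μ : Fin n → AlgebraicClosure F}
    {b : Fin n → (Fin n → AlgebraicClosure F)} (h : Eig (Mk y) μ b) (j : Fin n) :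
    ∃ i, μ i = ((μ j) ^ q)⁻¹ ∧ ∀ g : SU n F q, g * y = y * g → ∀ c : AlgebraicClosure F, Mk g *ᵥ b j = c • b j →
      Mk g *ᵥ b i = (c ^ q)⁻¹ • b i := by
  have hdot : ∀ (g : SU n F q) (c : AlgebraicClosure F), Mk g *ᵥ b j = c • b j → ∀ i d, Mk g *ᵥ b i = d • b i →
      (fun t => b j t ^ q) ⬝ᵥ b i ≠ 0 → d = (c ^ q)⁻¹ := by
    intro g c hc i d hd h0
    have hc0 := eig_ne_zero (h.ne j) hc
    have h1 := dual hF hc0 hc
    have h2 : (fun t => b j t ^ q) ⬝ᵥ (Mk g *ᵥ b i) = ((Mk g)ᵀ *ᵥ (fun t => b j t ^ q)) ⬝ᵥ b i := by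
      rw [dotProduct_mulVec, ← mulVec_transpose]
    rw [hd, h1, dotProduct_smul, smul_dotProduct, smul_eq_mul, smul_eq_mul] at h2
    exact mul_right_cancel₀ h0 h2
  obtain ⟨i, hi⟩ := h.exists_dot (pow_ne_zero_vec (q := q) (h.ne j))
  refine ⟨i, hdot y _ (h.eig j) i _ (h.eig i) hi, fun g hg c hc => ?_⟩
  obtain ⟨d, hd⟩ := h.comm (G := Mk g) (by rw [← Mk_mul, hg, Mk_mul]) i
  rw [hd, hdot g c hc i d hd hi]

theorem Eig.iter (hF : Fintype.card F = q ^ 2) {y : SU n F q} {μ : Fin n → AlgebraicClosure F}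
    {b : Fin n → (Fin n → AlgebraicClosure F)} (h : Eig (Mk y) μ b) (j : Fin n) (m : ℕ) :
    ∃ i, μ i = (μ j) ^ ((-(q : ℤ)) ^ m) ∧ ∀ g : SU n F q, g * y = y * g → ∀ c : AlgebraicClosure F, Mk g *ᵥ b j = c • b j →
      Mk g *ᵥ b i = (c ^ ((-(q : ℤ)) ^ m)) • b i := by
  induction m with
  | zero => exact ⟨j, by simp, fun g _ c hc => by simpa using hc⟩
  | succ m ih =>
    obtain ⟨i, hi, hg⟩ := ih
    obtain ⟨i', hi', hg'⟩ := h.step hF i
    refine ⟨i', by rw [hi', hi, zpow_step], fun g hgy c hc => ?_⟩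
    rw [hg' g hgy _ (hg g hgy c hc), zpow_step]

/-! ### elements of type `k` -/

/-- powers of an element of order `l` -/
def IsOrd (l : ℕ) (θ : AlgebraicClosure F) : Prop := ∀ a : ℤ, θ ^ a = 1 ↔ (l : ℤ) ∣ a

omit [Fintype F] in
theorem isOrd_of {θ : AlgebraicClosure F} (hl : l.Prime) (h1 : θ ≠ 1) (h2 : θ ^ l = 1) : IsOrd l θ := by
  have hθ : θ ≠ 0 := by
    rintro rfl
    rw [zero_pow hl.ne_zero] at h2
    exact zero_ne_one h2
  have hu : orderOf (Units.mk0 θ hθ) = l := by
    have := Fact.mk hl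
    apply orderOf_eq_prime
    · ext
      simpa using h2
    · intro h
      apply h1
      simpa using congrArg Units.val h
  intro a
  rw [← hu, orderOf_dvd_iff_zpow_eq_one, Units.ext_iff]
  simp

omit [Fintype F] in
theorem IsOrd.pow_eq {θ : AlgebraicClosure F} (h : IsOrd l θ) (hθ : θ ≠ 0) (a b : ℤ) : θ ^ a = θ ^ b ↔ (a : ZMod l) = (b : ZMod l) := by
  rw [← sub_eq_zero (a := (a : ZMod l)), ← Int.cast_sub, ZMod.intCast_zmod_eq_zero_iff_dvd, ← h,
    zpow_sub₀ hθ, div_eq_one_iff_eq (zpow_ne_zero _ hθ)]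

omit [Fintype F] in
theorem IsOrd.ne_zero {θ : AlgebraicClosure F} (h : IsOrd l θ) (hl : l.Prime) : θ ≠ 0 := by
  rintro rfl
  have h1 := (h l).2 dvd_rfl
  rw [zpow_natCast, zero_pow hl.ne_zero] at h1
  exact zero_ne_one h1

omit [Fintype F] in
theorem cast_pow (q l m : ℕ) : (((-(q : ℤ)) ^ m : ℤ) : ZMod l) = (-(q : ZMod l)) ^ m := by push_cast; rfl

omit [Fintype F] in
/-- the eigenvalues `θ ^ ((-q) ^ i)`, `i < k`, are distinct -/
theorem IsOrd.inj {θ : AlgebraicClosure F} (h : IsOrd l θ) (ht : Ty q l k) {i j : ℕ} (hi : i < k) (hj : j < k)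
    (hij : θ ^ ((-(q : ℤ)) ^ i) = θ ^ ((-(q : ℤ)) ^ j)) : i = j := by
  rw [h.pow_eq (h.ne_zero ht.prime), cast_pow, cast_pow] at hij
  exact pow_injOn_Iio_orderOf (by rw [ht.ord]; exact hi) (by rw [ht.ord]; exact hj) hij

omit [Fintype F] in
theorem IsOrd.ne_one {θ : AlgebraicClosure F} (h : IsOrd l θ) (ht : Ty q l k) (i : ℕ) :
    θ ^ ((-(q : ℤ)) ^ i) ≠ 1 := by
  intro h1
  rw [h] at h1
  have := Fact.mk ht.prime
  have h2 := (ZMod.intCast_zmod_eq_zero_iff_dvd _ l).2 h1
  rw [cast_pow] at h2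
  have h3 : (-(q : ZMod l)) = 0 := eq_zero_of_pow_eq_zero h2
  have h4 := ht.ord
  rw [h3] at h4
  have h5 := pow_orderOf_eq_one (0 : ZMod l)
  rw [h4, zero_pow ht.pos.ne'] at h5
  exact zero_ne_one h5

/-- the eigenvalues -/
noncomputable def evs (q k : ℕ) (θ : AlgebraicClosure F) (n : ℕ) : Fin n → AlgebraicClosure F :=
  fun i => if i.val < k then θ ^ ((-(q : ℤ)) ^ i.val) else 1

/-- an element of type `n - 1` has a fixed vector -/
theorem fx_ne_bot (h : Ty q l k) (hF : Fintype.card F = q ^ 2) (hk : k + 1 = n) (hk3 : 3 ≤ k) {y : SU n F q}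
    (hy : y ^ l = 1) : ∃ v ∈ fx y, v ≠ 0 := by
  by_contra hcon
  push Not at hcon
  have h1 : fx y = ⊥ := by
    rw [Submodule.eq_bot_iff]
    exact hcon
  have h2 := h.dvd_two_mul hF hy ⊤ (fun _ _ => Submodule.mem_top) (by rw [h1, inf_bot_eq])
  rw [finrank_top, finrank_fin_fun, ← hk] at h2
  have h3 : k ∣ 2 := by
    have h4 : 2 * (k + 1) = k * 2 + 2 := by ring
    rw [h4] at h2
    exact (Nat.dvd_add_right (dvd_mul_right k 2)).1 h2
  have := Nat.le_of_dvd (by norm_num) h3
  omega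

/-- **The eigenvalues of an element of type `k`.** -/
theorem exists_Eig (h : Ty q l k) (hF : Fintype.card F = q ^ 2) (hk : k = n ∨ k + 1 = n) (hk3 : 3 ≤ k)
    {y : SU n F q} (hy : y ^ l = 1) (hy1 : y ≠ 1) : ∃ θ : AlgebraicClosure F, IsOrd l θ ∧
      ∃ b, Eig (Mk y) (evs q k θ n) b := by
  have hl0 : (l : AlgebraicClosure F) ≠ 0 := by
    have h1 := natCast_ne_zero (F := F) hF h.prime h.not_dvd
    intro h0
    apply h1
    apply (algebraMap F (AlgebraicClosure F)).injective
    rw [map_natCast, h0, map_zero]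
  obtain ⟨θ, hθ1, hθl, hev⟩ := exists_eig_ne_one (Y := Mk y) hl0 (by rw [← Mk_pow, hy, Mk_one])
    (fun h0 => hy1 (Mk_injective (h0.trans Mk_one.symm)))
  have hord := isOrd_of h.prime hθ1 hθl
  refine ⟨θ, hord, ?_⟩
  have key : ∀ i : Fin n, ∃ e : Fin n → AlgebraicClosure F, e ≠ 0 ∧ Mk y *ᵥ e = evs q k θ n i • e := by
    intro i
    by_cases hi : i.val < k
    · rw [evs, if_pos hi]
      exact ev_iter hF hev i.val
    · rw [evs, if_neg hi]
      have hk' : k + 1 = n := by
        rcases hk with hk | hk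
        · have := i.isLt; omega
        · exact hk
      obtain ⟨v, hv, hv0⟩ := fx_ne_bot h hF hk' hk3 hy
      refine ⟨fun i => algebraMap F (AlgebraicClosure F) (v i), ?_, ?_⟩
      · intro h0
        apply hv0
        funext i
        apply (algebraMap F (AlgebraicClosure F)).injective
        rw [congrFun h0 i]
        simp
      · rw [Mk_mulVec, mem_fx.1 hv, one_smul]
  choose b hb using key
  refine ⟨b, fun i => (hb i).1, fun i => (hb i).2, ?_⟩
  intro i j hij
  rw [evs, evs] at hij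
  apply Fin.ext
  by_cases hi : i.val < k
  · by_cases hj : j.val < k
    · rw [if_pos hi, if_pos hj] at hij
      exact hord.inj h hi hj hij
    · rw [if_pos hi, if_neg hj] at hij
      exact absurd hij (hord.ne_one h _)
  · by_cases hj : j.val < k
    · rw [if_neg hi, if_pos hj] at hij
      exact absurd hij.symm (hord.ne_one h _)
    · have := i.isLt
      have := j.isLt
      omega

omit [Fintype F] in
/-- the eigenvalues -/
theorem eval_cases {θ : AlgebraicClosure F} (i : Fin n) :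
    (∃ m, evs q k θ n i = θ ^ ((-(q : ℤ)) ^ m)) ∨ evs q k θ n i = 1 := by
  rw [evs]
  by_cases hi : i.val < k
  · rw [if_pos hi]
    exact Or.inl ⟨_, rfl⟩
  · rw [if_neg hi]
    exact Or.inr rfl

/-- **The order of the elements normalising `⟨y⟩` modulo the centraliser.** -/
theorem pow_comm_of_conj (h : Ty q l k) (hF : Fintype.card F = q ^ 2) (hk : k = n ∨ k + 1 = n) (hk3 : 3 ≤ k)
    {y g : SU n F q} (hy : y ^ l = 1) (hy1 : y ≠ 1) {a : ℕ} (hg : g * y * g⁻¹ = y ^ a) :
    g ^ k * y = y * g ^ k := by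
  obtain ⟨θ, hord, b, hE⟩ := exists_Eig h hF hk hk3 hy hy1
  have hθ := hord.ne_zero h.prime
  have hn : 0 < n := by omega
  have := Fact.mk h.prime
  have h0 : evs q k θ n ⟨0, hn⟩ = θ := by
    rw [evs, if_pos (by show 0 < k; omega)]
    simp
  have hb0 : Mk y *ᵥ b ⟨0, hn⟩ = θ • b ⟨0, hn⟩ := by rw [hE.eig, h0]
  have hpow : ∀ j : ℕ, Mk (y ^ j) *ᵥ b ⟨0, hn⟩ = θ ^ j • b ⟨0, hn⟩ := by
    intro j
    induction j with
    | zero => rw [pow_zero, Mk_one, one_mulVec, pow_zero, one_smul]
    | succ j ih => rw [pow_succ, Mk_mul, ← mulVec_mulVec, hb0, mulVec_smul, ih, smul_smul, pow_succ']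
  -- `θ ^ a` is an eigenvalue of `y`
  have h1 : Mk y *ᵥ (Mk g⁻¹ *ᵥ b ⟨0, hn⟩) = θ ^ a • (Mk g⁻¹ *ᵥ b ⟨0, hn⟩) := by
    have h2 : y * g⁻¹ = g⁻¹ * y ^ a := by rw [← hg]; group
    rw [mulVec_mulVec, ← Mk_mul, h2, Mk_mul, ← mulVec_mulVec, hpow, mulVec_smul]
  have h2 : Mk g⁻¹ *ᵥ b ⟨0, hn⟩ ≠ 0 := by
    intro h3
    apply hE.ne ⟨0, hn⟩
    have h4 := Mk_inv_mulVec g⁻¹ (b ⟨0, hn⟩)
    rw [h3, mulVec_zero] at h4
    exact h4.symm
  obtain ⟨i, hi, -⟩ := hE.exists_eigenvalue h2 h1
  have hal : ¬ l ∣ a := by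
    rintro ⟨c, hc⟩
    rw [hc, pow_mul, hy, one_pow, mul_inv_eq_one] at hg
    exact hy1 (mul_eq_left.1 hg)
  have h3 : ∃ m : ℕ, ((a : ℤ) : ZMod l) = (((-(q : ℤ)) ^ m : ℤ) : ZMod l) := by
    rcases eval_cases (q := q) (k := k) (θ := θ) i with ⟨m, hm⟩ | hm
    · refine ⟨m, ?_⟩
      rw [← hord.pow_eq hθ, zpow_natCast, hi, hm]
    · exfalso
      rw [hm, ← zpow_natCast, hord] at hi
      exact hal (Int.natCast_dvd_natCast.1 hi)
  obtain ⟨m, hm⟩ := h3
  have h4 : (a : ZMod l) ^ k = 1 := by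
    rw [cast_pow] at hm
    push_cast at hm
    rw [hm, ← pow_mul, mul_comm, pow_mul, ← h.ord, pow_orderOf_eq_one, one_pow]
  have h5 : ∀ j : ℕ, g ^ j * y * (g ^ j)⁻¹ = y ^ a ^ j := by
    intro j
    induction j with
    | zero => simp
    | succ j ih =>
      have h6 : g ^ (j + 1) * y * (g ^ (j + 1))⁻¹ = g * (g ^ j * y * (g ^ j)⁻¹) * g⁻¹ := by
        rw [pow_succ']
        group
      rw [h6, ih, pow_succ a j, mul_comm (a ^ j) a, pow_mul, ← hg, ← conj_pow]
  have h6 : y ^ a ^ k = y := by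
    have h7 : a ^ k ≡ 1 [MOD l] := by
      rw [← ZMod.natCast_eq_natCast_iff]
      push_cast
      exact h4
    calc y ^ a ^ k = y ^ 1 := pow_eq_pow_iff_modEq.2 (h7.of_dvd (orderOf_dvd_of_pow_eq_one hy))
      _ = y := pow_one y
  have h7 := h5 k
  rw [h6, mul_inv_eq_iff_eq_mul] at h7
  exact h7

/-- the order of the torus -/
def tor (q k : ℕ) : ℕ := if Even k then q ^ k - 1 else q ^ k + 1

omit [Fintype F] in
theorem mem_cent {y g : SU n F q} : g ∈ centralizer ({y} : Set (SU n F q)) ↔ g * y = y * g :=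
  mem_centralizer_singleton_iff

/-- **The centraliser of an element of type `n` or `n - 1`.** -/
theorem cent_cyclic (h : Ty q l k) (hF : Fintype.card F = q ^ 2) (hk : k = n ∨ k + 1 = n) (hk3 : 3 ≤ k)
    {y : SU n F q} (hy : y ^ l = 1) (hy1 : y ≠ 1) :
    IsCyclic (centralizer ({y} : Set (SU n F q))) ∧ Nat.card (centralizer ({y} : Set (SU n F q))) ∣ tor q k := by
  obtain ⟨θ, hord, b, hE⟩ := exists_Eig h hF hk hk3 hy hy1
  have hθ := hord.ne_zero h.prime
  have hn : 0 < n := by omega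
  have hq := two_le hF
  have := Fact.mk h.prime
  obtain ⟨i₀, hi₀⟩ : ∃ i₀ : Fin n, i₀ = ⟨0, hn⟩ := ⟨_, rfl⟩
  have h0 : evs q k θ n i₀ = θ := by
    rw [evs, hi₀, if_pos (by show 0 < k; omega)]
    simp
  have hcomm : ∀ g : centralizer ({y} : Set (SU n F q)), ∃ c : AlgebraicClosure F,
      Mk (g : SU n F q) *ᵥ b i₀ = c • b i₀ := fun g =>
    hE.comm (by rw [← Mk_mul, mem_cent.1 g.2, Mk_mul]) i₀
  choose φ hφ using hcomm
  have huniq : ∀ c d : AlgebraicClosure F, c • b i₀ = d • b i₀ → c = d := by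
    intro c d hcd
    have h1 : (c - d) • b i₀ = 0 := by rw [sub_smul, hcd, sub_self]
    rcases smul_eq_zero.1 h1 with h2 | h2
    · exact sub_eq_zero.1 h2
    · exact absurd h2 (hE.ne i₀)
  let Φ : centralizer ({y} : Set (SU n F q)) →* AlgebraicClosure F :=
    { toFun := φ
      map_one' := by
        apply huniq
        rw [← hφ, Subgroup.coe_one, Mk_one, one_mulVec, one_smul]
      map_mul' := by
        intro g g'
        apply huniq
        rw [← hφ, Subgroup.coe_mul, Mk_mul, ← mulVec_mulVec, hφ, mulVec_smul, hφ, smul_smul, mul_comm] }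
  have hΦ : ∀ g, Φ g = φ g := fun _ => rfl
  have hinj : Function.Injective Φ := by
    rw [injective_iff_map_eq_one']
    intro g
    refine ⟨fun hg => ?_, fun hg => by rw [hg, map_one]⟩
    have hg1 : ∀ i : Fin n, i.val < k → Mk (g : SU n F q) *ᵥ b i = b i := by
      intro i hi
      obtain ⟨i', hi', hgi⟩ := hE.iter hF i₀ i.val
      rw [h0] at hi'
      have h1 : evs q k θ n i = θ ^ ((-(q : ℤ)) ^ i.val) := by rw [evs, if_pos hi]
      have h2 : i' = i := hE.inj (hi'.trans h1.symm)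
      have h3 := hgi g (mem_cent.1 g.2) 1 (by rw [hφ, ← hΦ, hg])
      rw [h2, _root_.one_zpow, one_smul] at h3
      exact h3
    apply Subtype.ext
    apply Mk_injective
    rw [Subgroup.coe_one, Mk_one]
    apply hE.ext
    intro i
    rw [one_mulVec]
    rcases hk with hk | hk
    · exact hg1 i (by rw [hk]; exact i.isLt)
    · subst hk
      by_cases hi : i.val < k
      · exact hg1 i hi
      · have hil : i = Fin.last k := by
          apply Fin.ext
          have := i.isLt
          rw [Fin.val_last]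
          omega
        subst hil
        obtain ⟨c, hc⟩ := hE.comm (G := Mk (g : SU (k + 1) F q)) (by rw [← Mk_mul, mem_cent.1 g.2, Mk_mul]) (Fin.last k)
        have h1 := hE.det_eq (G := Mk (g : SU (k + 1) F q)) (χ := Fin.snoc (fun _ => 1) c) (by
          intro j
          refine Fin.lastCases ?_ ?_ j
          · rw [Fin.snoc_last, hc]
          · intro j
            rw [Fin.snoc_castSucc, one_smul]
            exact hg1 _ j.isLt)
        rw [Mk_det, Fin.prod_univ_castSucc, Fin.snoc_last] at h1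
        simp only [Fin.snoc_castSucc] at h1
        rw [Finset.prod_const_one, one_mul] at h1
        rw [hc, ← h1, one_smul]
  have hcyc : IsCyclic (centralizer ({y} : Set (SU n F q))) := isCyclic_of_injective_ringHom Φ hinj
  refine ⟨hcyc, ?_⟩
  obtain ⟨g, hg⟩ := hcyc.exists_ofOrder_eq_natCard
  rw [← hg]
  apply orderOf_dvd_of_pow_eq_one
  apply hinj
  rw [map_pow, map_one]
  have hg0 : Φ g ≠ 0 := eig_ne_zero (hE.ne i₀) (hφ g)
  obtain ⟨i', hi', hgi⟩ := hE.iter hF i₀ k
  rw [h0] at hi'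
  have h1 : θ ^ ((-(q : ℤ)) ^ k) = θ := by
    have h2 := (hord.pow_eq hθ ((-(q : ℤ)) ^ k) 1).2 (by
      rw [cast_pow, ← h.ord, pow_orderOf_eq_one, Int.cast_one])
    rw [h2, zpow_one]
  have h2 : i' = i₀ := hE.inj (hi'.trans (h1.trans h0.symm))
  have h3 := hgi g (mem_cent.1 g.2) (Φ g) (hφ g)
  rw [h2, hφ] at h3
  have h4 : Φ g = (Φ g) ^ ((-(q : ℤ)) ^ k) := huniq _ _ h3
  rw [tor]
  by_cases he : Even k
  · rw [if_pos he]
    rw [he.neg_pow] at h4
    have h5 : Φ g ^ (q ^ k) = Φ g := by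
      have h6 : ((q : ℤ) ^ k) = ((q ^ k : ℕ) : ℤ) := by push_cast; rfl
      rw [h6, zpow_natCast] at h4
      exact h4.symm
    have h7 : 1 ≤ q ^ k := Nat.one_le_pow _ _ (by omega)
    have h8 : Φ g ^ (q ^ k - 1) * Φ g = 1 * Φ g := by
      rw [← pow_succ, Nat.sub_add_cancel h7, one_mul, h5]
    exact mul_right_cancel₀ hg0 h8
  · rw [if_neg he]
    rw [(Nat.not_even_iff_odd.1 he).neg_pow] at h4
    have h6 : (-(q : ℤ) ^ k) = -((q ^ k : ℕ) : ℤ) := by push_cast; rfl
    rw [h6, _root_.zpow_neg, zpow_natCast] at h4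
    rw [pow_succ]
    nth_rewrite 2 [h4]
    exact mul_inv_cancel₀ (pow_ne_zero _ hg0)

end Cfsg.Agent.H715.PDU
end

private theorem dce_785f94029625 : _root_.True := by
  try have : _root_.True := by simp only [_root_.Cfsg.Agent.H715.PDU.evs.eq_1]
  try have : _root_.True := by simp only [_root_.Cfsg.Agent.H715.PDU.tor.eq_1]
  exact _root_.True.intro
end

-- part: H715/PDU/Psu
section
prune_inst 0x10000000000002
set_option linter.all false
open scoped Cfsg.Agent.FastGrp

/-!
# Row PSU of S4246: the elements of `PSU n F q` of type `n` and `n - 1`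
-/

set_option autoImplicit false

namespace Cfsg.Agent.H715.PDU

open Cfsg Module Matrix Subgroup
open Cfsg.Agent.LieClassical.HermBasic Cfsg.Agent.LieClassical.HermSiegel
open Cfsg.Agent.ClassicalGeometry.HermOrtho
open Cfsg.Agent.ClassicalGeometry.PSUAutBasic (pr pr_surjective pr_eq_one_iff exists_center_mul)
open Cfsg.Agent.ClassicalGeometry.PSUAutCount (gm gm_mul gm_one gm_mul_inv gm_inv_mul gm_inj herm_gm gm_inv_mulVec
  gm_mulVec_inv semiConj toAut toAut_pr act_semiConj eq_of_toAut_eq sc gm_sc_mul toAut_sc_mul)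
open Cfsg.Agent.CpAutU.Desc (toAut_mul toAut_one)
open Cfsg.Agent.GpUn
open Cfsg.Agent.H173.RU
open Cfsg.Agent.H160.PD

variable {F : Type*} [Field F] [Fintype F] {q n l k : ℕ}

/-! ### numbers -/

theorem dvd_tor (h : Ty q l k) (hq : 1 ≤ q) {m : ℕ} (hm : 1 ≤ m) : l ∣ tor q m ↔ k ∣ m := by
  have h1 := h.dvd_U hq (m - 1)
  rw [Nat.sub_add_cancel hm] at h1
  rw [← h1, tor]
  by_cases he : Even m
  · have : ¬ Even (m - 1) := by
      rw [Nat.not_even_iff_odd]
      obtain ⟨a, ha⟩ := he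
      exact ⟨a - 1, by omega⟩
    rw [if_pos he, if_neg this]
  · have : Even (m - 1) := by
      obtain ⟨a, ha⟩ := Nat.not_even_iff_odd.1 he
      exact ⟨a, by omega⟩
    rw [if_neg he, if_pos this]

theorem tor_pos (hq : 2 ≤ q) {m : ℕ} (hm : 1 ≤ m) : 0 < tor q m := by
  rw [tor]
  split_ifs
  · have : 1 < q ^ m := Nat.one_lt_pow (by omega) (by omega)
    omega
  · omega

theorem not_dvd_tor {p f : ℕ} (hp : p.Prime) (hf : f ≠ 0) (hq : q = p ^ f) {m : ℕ} (hm : 1 ≤ m) : ¬ p ∣ tor q m := by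
  have hpq : p ∣ q := by rw [hq]; exact dvd_pow_self p hf
  have h1 : p ∣ q ^ m := dvd_pow hpq (by omega)
  have hq1 : 1 ≤ q := by rw [hq]; exact Nat.one_le_pow _ _ hp.pos
  intro hi
  rw [tor] at hi
  by_cases he : Even m
  · rw [if_pos he] at hi
    have h2 : 1 ≤ q ^ m := Nat.one_le_pow _ _ hq1
    have h3 := (Nat.dvd_sub_iff_right h2 h1).1 hi
    exact hp.one_lt.ne' (Nat.dvd_one.1 h3)
  · rw [if_neg he] at hi
    exact hp.one_lt.ne' (Nat.dvd_one.1 ((Nat.dvd_add_right h1).1 hi))

/-! ### lifts -/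

/-- a lift of an element of order `l` -/
theorem exists_lift (h : Ty q l k) (hF : Fintype.card F = q ^ 2) (hn : 3 ≤ n) (hk : 2 ≤ k) {x : PSU n F q}
    (hx : orderOf x = l) : ∃ y : SU n F q, y ^ l = 1 ∧ y ≠ 1 ∧ pr n F q y = x := by
  have hq := two_le hF
  obtain ⟨y, hy, hyx⟩ := exists_lift_elt hF hn (h.coprime_succ (by omega) hk) (z := x) (by
    rw [← hx]; exact pow_orderOf_eq_one x)
  refine ⟨y, hy, ?_, hyx⟩
  rintro rfl
  rw [map_one] at hyx
  rw [← hyx, orderOf_one] at hx
  exact h.prime.one_lt.ne hx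

theorem pr_ne_one (h : Ty q l k) (hF : Fintype.card F = q ^ 2) (hn : 3 ≤ n) (hk : 2 ≤ k) {y : SU n F q}
    (hy : y ^ l = 1) (hy1 : y ≠ 1) : pr n F q y ≠ 1 := by
  have hq := two_le hF
  intro h0
  apply hy1
  exact eq_of_pr_eq hF hn (h.coprime_succ (by omega) hk) hy (one_pow _) (by rw [h0, map_one])

/-- the preimage of the centraliser -/
theorem comap_cent (h : Ty q l k) (hF : Fintype.card F = q ^ 2) (hn : 3 ≤ n) (hk : 2 ≤ k) {y : SU n F q}
    (hy : y ^ l = 1) : (centralizer ({pr n F q y} : Set (PSU n F q))).comap (pr n F q) =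
      centralizer ({y} : Set (SU n F q)) := by
  have hq := two_le hF
  ext g
  rw [mem_comap, mem_centralizer_singleton_iff, mem_cent]
  constructor
  · intro hg
    rw [← map_mul, ← map_mul] at hg
    have h1 : pr n F q (g * y * g⁻¹) = pr n F q y := by
      rw [map_mul, hg, ← map_mul, mul_inv_cancel_right]
    have h2 := eq_of_pr_eq hF hn (h.coprime_succ (by omega) hk) (y := g * y * g⁻¹) (y' := y)
      (by rw [conj_pow, hy, mul_one, mul_inv_cancel]) hy h1
    rwa [mul_inv_eq_iff_eq_mul] at h2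
  · intro hg
    rw [← map_mul, ← map_mul, hg]

theorem card_comap_pr (hF : Fintype.card F = q ^ 2) (hn : 3 ≤ n) (C : Subgroup (PSU n F q)) :
    Nat.card (C.comap (pr n F q)) = Nat.card C * Nat.gcd n (q + 1) := by
  have h1 := Subgroup.card_mul_index (C.comap (pr n F q))
  have h2 := Subgroup.card_mul_index C
  rw [index_comap_of_surjective C pr_surjective, card_SU_eq hF hn, ← h2] at h1
  have h3 : 0 < C.index := Nat.pos_of_ne_zero C.index_ne_zero_of_finite
  apply Nat.eq_of_mul_eq_mul_right h3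
  rw [h1]
  ring

variable (h : Ty q l k) (hF : Fintype.card F = q ^ 2) (hn : 3 ≤ n) (hk : k = n ∨ k + 1 = n) (hk3 : 3 ≤ k)

include h hF hn hk hk3

theorem card_cent_mul {x : PSU n F q} (hx : orderOf x = l) :
    Nat.card (centralizer ({x} : Set (PSU n F q))) * Nat.gcd n (q + 1) ∣ tor q k := by
  obtain ⟨y, hy, hy1, rfl⟩ := exists_lift h hF hn (by omega) hx
  rw [← card_comap_pr hF hn, comap_cent h hF hn (by omega) hy]
  exact (cent_cyclic h hF hk hk3 hy hy1).2

/-- the `t`-part of the centraliser -/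
theorem v_cent {x : PSU n F q} (hx : orderOf x = l) (t : ℕ) :
    v t (centralizer ({x} : Set (PSU n F q))) + (Nat.gcd n (q + 1)).factorization t ≤ (tor q k).factorization t := by
  have hq := two_le hF
  have h0 : Nat.gcd n (q + 1) ≠ 0 := (Nat.gcd_pos_of_pos_left _ (by omega)).ne'
  have h1 := (Nat.factorization_le_iff_dvd (mul_ne_zero Nat.card_pos.ne' h0) (tor_pos hq (by omega)).ne').2
    (card_cent_mul h hF hn hk hk3 hx) t
  rwa [Nat.factorization_mul Nat.card_pos.ne' h0, Finsupp.add_apply] at h1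

theorem v_cent_p {p f : ℕ} (hp : p.Prime) (hf : f ≠ 0) (hq : q = p ^ f) {x : PSU n F q} (hx : orderOf x = l) :
    v p (centralizer ({x} : Set (PSU n F q))) = 0 := by
  have h1 := v_cent h hF hn hk hk3 hx p
  rw [Nat.factorization_eq_zero_of_not_dvd (not_dvd_tor hp hf hq (by omega))] at h1
  omega

theorem cyclic_cent {x : PSU n F q} (hx : orderOf x = l) : IsCyclic ↥(centralizer ({x} : Set (PSU n F q))) := by
  obtain ⟨y, hy, hy1, rfl⟩ := exists_lift h hF hn (by omega) hx
  have h1 := (cent_cyclic h hF hk hk3 hy hy1).1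
  have h2 : (centralizer ({y} : Set (SU n F q))).map (pr n F q) = centralizer ({pr n F q y} : Set (PSU n F q)) := by
    rw [← comap_cent h hF hn (by omega) hy, map_comap_eq_self_of_surjective pr_surjective]
  rw [← h2]
  exact isCyclic_of_surjective ((pr n F q).subgroupMap _) ((pr n F q).subgroupMap_surjective _)

theorem uniq : Uniq (PSU n F q) l := uniq_of_cyclic fun _ hx => cyclic_cent h hF hn hk hk3 hx

/-- **The normaliser.** -/
theorem card_norm {x : PSU n F q} (hx : orderOf x = l) :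
    Nat.card ↥(normalizer ((zpowers x : Subgroup (PSU n F q)) : Set (PSU n F q))) ∣ tor q k * k := by
  have hq := two_le hF
  refine (card_normalizer_dvd (n := k) h.prime hx ?_).trans
    (Nat.mul_dvd_mul_right ((dvd_mul_right _ _).trans (card_cent_mul h hF hn hk hk3 hx)) k)
  intro z hz
  obtain ⟨y, hy, hy1, rfl⟩ := exists_lift h hF hn (by omega) hx
  obtain ⟨g, rfl⟩ := pr_surjective z
  have h1 : pr n F q g * pr n F q y * (pr n F q g)⁻¹ ∈ zpowers (pr n F q y) :=
    (mem_normalizer_iff.1 hz _).1 (mem_zpowers _)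
  rw [← mem_powers_iff_mem_zpowers] at h1
  obtain ⟨a, ha⟩ := h1
  have h2 : pr n F q (g * y * g⁻¹) = pr n F q (y ^ a) := by
    rw [map_mul, map_mul, map_inv, map_pow, ← ha]
  have h3 := eq_of_pr_eq hF hn (h.coprime_succ (by omega) (by omega)) (y := g * y * g⁻¹) (y' := y ^ a)
    (by rw [conj_pow, hy, mul_one, mul_inv_cancel]) (by rw [← pow_mul, mul_comm, pow_mul, hy, one_pow]) h2
  have h4 := pow_comm_of_conj h hF hk hk3 hy hy1 h3
  rw [mem_centralizer_singleton_iff, ← map_pow, ← map_mul, ← map_mul, h4]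

theorem v_norm_p {p f : ℕ} (hp : p.Prime) (hf : f ≠ 0) (hq : q = p ^ f) {x : PSU n F q} (hx : orderOf x = l) :
    v p (normalizer ((zpowers x : Subgroup (PSU n F q)) : Set (PSU n F q))) ≤ k.factorization p := by
  have hq2 := two_le hF
  have h0 := (tor_pos hq2 (m := k) (by omega)).ne'
  have h1 := (Nat.factorization_le_iff_dvd Nat.card_pos.ne' (mul_ne_zero h0 (by omega))).2
    (card_norm h hF hn hk hk3 hx) p
  rw [Nat.factorization_mul h0 (by omega), Finsupp.add_apply,
    Nat.factorization_eq_zero_of_not_dvd (not_dvd_tor hp hf hq (by omega)), zero_add] at h1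
  exact h1

theorem not_dvd_norm {r : ℕ} {k' : ℕ} (h' : Ty q r k') (hkk : ¬ k' ∣ k) (hr : n < r) {x : PSU n F q}
    (hx : orderOf x = l) : ¬ r ∣ Nat.card ↥(normalizer ((zpowers x : Subgroup (PSU n F q)) : Set (PSU n F q))) := by
  have hq2 := two_le hF
  intro hd
  rcases (Nat.Prime.dvd_mul h'.prime).1 (hd.trans (card_norm h hF hn hk hk3 hx)) with h1 | h1
  · exact hkk ((dvd_tor h' (by omega) (by omega)).1 h1)
  · have := Nat.le_of_dvd (by omega) h1
    omega

end Cfsg.Agent.H715.PDU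
end

-- part: H715/PDU/Main
section
prune_inst 0x31500d00086202000000851692201c068e00049000000400cc0209460680c0208980a860ac001002002a00050031002003000010c040000004000400011d00a0908384043140000426009f800000000000000000000000000000000000010004000000002
set_option linter.all false
open scoped Cfsg.Agent.FastGrp

-- part: H715/PDU/Num
section
/-!
# Row PSU of S4246: numbers
-/

set_option autoImplicit false

namespace Cfsg.Agent.H715.PDU

open Cfsg Module Matrix Subgroup
open Cfsg.Agent.LieClassical.HermBasic Cfsg.Agent.LieClassical.HermSiegel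
open Cfsg.Agent.ClassicalGeometry.PSUAutBasic (pr pr_surjective pr_eq_one_iff exists_center_mul)
open Cfsg.Agent.ClassicalGeometry.PSUAutCount (gm toAut)
open Cfsg.Agent.H173.RU
open Cfsg.Agent.H160.PD

theorem tor_one (q : ℕ) : tor q 1 = q + 1 := by
  rw [tor, if_neg (by decide), pow_one]

/-- the factors of `|SU|` -/
theorem v_SU_ge {F : Type*} [Field F] [Fintype F] {q n : ℕ} (hF : Fintype.card F = q ^ 2) (hn : 1 ≤ n) (t : ℕ)
    (s : Finset ℕ) (hs : s ⊆ Finset.Icc 2 n) : ∑ m ∈ s, (tor q m).factorization t ≤ v t (SU n F q) := by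
  have hq := two_le hF
  have h := Cfsg.Agent.S0278.result hF n hn
  have e1 : ∀ i, (if Even i then q ^ (i + 1) + 1 else q ^ (i + 1) - 1) = tor q (i + 1) := by
    intro i
    rw [tor]
    by_cases he : Even i
    · have : ¬ Even (i + 1) := by rw [Nat.even_add_one]; exact not_not.2 he
      rw [if_pos he, if_neg this]
    · have : Even (i + 1) := by rw [Nat.even_add_one]; exact he
      rw [if_neg he, if_pos this]
  rw [Finset.prod_congr rfl (fun i _ => e1 i)] at h
  have e2 : (Finset.range n).map (addRightEmbedding 1) = Finset.Icc 1 n := by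
    ext x
    simp only [Finset.mem_map, Finset.mem_range, addRightEmbedding_apply, Finset.mem_Icc]
    constructor
    · rintro ⟨a, ha, rfl⟩
      omega
    · rintro ⟨h1, h2⟩
      exact ⟨x - 1, by omega, by omega⟩
  have e3 : ∏ m ∈ Finset.Icc 1 n, tor q m = ∏ i ∈ Finset.range n, tor q (i + 1) := by
    rw [← e2, Finset.prod_map]
    rfl
  rw [← e3] at h
  have hne : ∀ m ∈ Finset.Icc 1 n, tor q m ≠ 0 := fun m hm =>
    (tor_pos hq (Finset.mem_Icc.1 hm).1).ne'
  have hp0 : ∏ m ∈ Finset.Icc 1 n, tor q m ≠ 0 := Finset.prod_ne_zero_iff.2 hne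
  have h1 := congrArg (fun m => Nat.factorization m t) h
  beta_reduce at h1
  rw [Nat.factorization_mul (by omega) Nat.card_pos.ne', Nat.factorization_mul (pow_ne_zero _ (by omega)) hp0,
    Finsupp.add_apply, Finsupp.add_apply, Nat.factorization_prod hne, Finsupp.finset_sum_apply] at h1
  have h2 : ∑ m ∈ Finset.Icc 1 n, (tor q m).factorization t =
      (tor q 1).factorization t + ∑ m ∈ Finset.Icc 2 n, (tor q m).factorization t := by
    have h3 : Finset.Icc 1 n = insert 1 (Finset.Icc 2 n) := by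
      ext x
      simp only [Finset.mem_insert, Finset.mem_Icc]
      omega
    rw [h3, Finset.sum_insert (by simp)]
  rw [h2, tor_one] at h1
  have h3 : ∑ m ∈ s, (tor q m).factorization t ≤ ∑ m ∈ Finset.Icc 2 n, (tor q m).factorization t :=
    Finset.sum_le_sum_of_subset hs
  show _ ≤ (Nat.card (SU n F q)).factorization t
  omega

/-- **Lifting the exponent.** -/
theorem lte {p f q m t : ℕ} (hp : p.Prime) (hf : f ≠ 0) (hq : q = p ^ f) (ht : t.Prime) (ht2 : t ≠ 2) (hm : 1 ≤ m)
    (hd : t ∣ tor q m) : (2 * f).factorization t < (tor q m).factorization t := by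
  have hq2 : 2 ≤ q := by
    rw [hq]
    calc 2 ≤ p := hp.two_le
      _ = p ^ 1 := (pow_one p).symm
      _ ≤ p ^ f := Nat.pow_le_pow_right hp.pos (by omega)
  have h1 : (2 * f).factorization t = f.factorization t := by
    rw [Nat.factorization_mul two_ne_zero hf, Finsupp.add_apply, Nat.prime_two.factorization,
      Finsupp.single_eq_of_ne (fun h => ht2 h), zero_add]
  rw [h1]
  apply (ht.pow_dvd_iff_le_factorization (tor_pos hq2 hm).ne').1
  set a := f.factorization t with ha
  obtain ⟨f', hf'⟩ : ∃ f', f = t ^ a * f' := ⟨f / t ^ a, (Nat.ordProj_mul_ordCompl_eq_self f t).symm⟩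
  have hqm : q ^ m = (p ^ (f' * m)) ^ t ^ a := by
    rw [hq, ← pow_mul, ← pow_mul]
    congr 1
    conv_lhs => rw [hf']
    ring
  have htF := Fact.mk ht
  have hodd : Odd (t ^ a) := (ht.odd_of_ne_two ht2).pow
  have h1q : 1 ≤ q ^ m := Nat.one_le_pow _ _ (by omega)
  have key : ∀ ε : ℤ, ε ^ t ^ a = ε → (t : ℤ) ∣ (q : ℤ) ^ m - ε → (t : ℤ) ^ (a + 1) ∣ (q : ℤ) ^ m - ε := by
    intro ε hε h2
    have e1 : (q : ℤ) ^ m = ((p : ℤ) ^ (f' * m)) ^ t ^ a := by
      exact_mod_cast hqm
    have h3 : (t : ℤ) ∣ (p : ℤ) ^ (f' * m) - ε := by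
      rw [← ZMod.intCast_zmod_eq_zero_iff_dvd] at h2 ⊢
      rw [e1] at h2
      push_cast at h2 ⊢
      rw [ZMod.pow_card_pow] at h2
      exact h2
    have h4 := dvd_sub_pow_of_dvd_sub h3 a
    rwa [← e1, hε] at h4
  rw [tor] at hd ⊢
  by_cases he : Even m
  · rw [if_pos he] at hd ⊢
    have h2 := key 1 (one_pow _) (by
      have h3 : ((q ^ m - 1 : ℕ) : ℤ) = (q : ℤ) ^ m - 1 := by push_cast [h1q]; ring
      rw [← h3]
      exact_mod_cast hd)
    have h3 : ((q ^ m - 1 : ℕ) : ℤ) = (q : ℤ) ^ m - 1 := by push_cast [h1q]; ring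
    rw [← h3] at h2
    exact_mod_cast h2
  · rw [if_neg he] at hd ⊢
    have h2 := key (-1) (by rw [hodd.neg_pow, one_pow]) (by
      have h3 : ((q ^ m + 1 : ℕ) : ℤ) = (q : ℤ) ^ m - (-1) := by push_cast; ring
      rw [← h3]
      exact_mod_cast hd)
    have h3 : ((q ^ m + 1 : ℕ) : ℤ) = (q : ℤ) ^ m - (-1) := by push_cast; ring
    rw [← h3] at h2
    exact_mod_cast h2

/-- the prime `2` -/
theorem lte_two {p f q : ℕ} (hp : p.Prime) (hp2 : p ≠ 2) (hf : f ≠ 0) (hq : q = p ^ f) :
    (2 * f).factorization 2 + 1 < (tor q 2).factorization 2 := by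
  have hq2 : 2 ≤ q := by
    rw [hq]
    calc 2 ≤ p := hp.two_le
      _ = p ^ 1 := (pow_one p).symm
      _ ≤ p ^ f := Nat.pow_le_pow_right hp.pos (by omega)
  have h1 : (2 * f).factorization 2 = 1 + f.factorization 2 := by
    rw [Nat.factorization_mul two_ne_zero hf, Finsupp.add_apply, Nat.prime_two.factorization,
      Finsupp.single_eq_same]
  rw [h1]
  suffices h : 2 ^ (f.factorization 2 + 3) ∣ tor q 2 by
    have := (Nat.prime_two.pow_dvd_iff_le_factorization (tor_pos hq2 (by norm_num)).ne').1 h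
    omega
  set a := f.factorization 2 with ha
  obtain ⟨f', hf'⟩ : ∃ f', f = 2 ^ a * f' := ⟨f / 2 ^ a, (Nat.ordProj_mul_ordCompl_eq_self f 2).symm⟩
  have hodd : Odd p := hp.odd_of_ne_two hp2
  have key : ∀ (x : ℕ), Odd x → ∀ b : ℕ, 2 ^ (b + 3) ∣ (x ^ 2) ^ 2 ^ b - 1 := by
    intro x hx b
    induction b with
    | zero =>
      rw [pow_zero, pow_one, zero_add]
      obtain ⟨c, rfl⟩ := hx
      have h2 : (2 * c + 1) ^ 2 - 1 = 4 * (c * (c + 1)) := by
        have : (2 * c + 1) ^ 2 = 4 * (c * (c + 1)) + 1 := by ring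
        rw [this]
        rfl
      rw [h2]
      have h3 : 2 ∣ c * (c + 1) := (Nat.even_mul_succ_self c).two_dvd
      exact Nat.mul_dvd_mul (by norm_num : 4 ∣ 4) h3
    | succ b ih =>
      have h2 : (x ^ 2) ^ 2 ^ (b + 1) - 1 = ((x ^ 2) ^ 2 ^ b - 1) * ((x ^ 2) ^ 2 ^ b + 1) := by
        rw [pow_succ 2 b, pow_mul]
        have := Nat.sq_sub_sq ((x ^ 2) ^ 2 ^ b) 1
        rw [one_pow] at this
        rw [this, mul_comm]
      rw [h2, show b + 1 + 3 = (b + 3) + 1 from rfl, pow_succ 2 (b + 3)]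
      apply Nat.mul_dvd_mul ih
      have h3 : Odd ((x ^ 2) ^ 2 ^ b) := (hx.pow).pow
      obtain ⟨c, hc⟩ := h3
      exact ⟨c + 1, by rw [hc]; ring⟩
  rw [tor, if_pos (by decide)]
  have hqm : q ^ 2 = ((p ^ f') ^ 2) ^ 2 ^ a := by
    rw [hq, ← pow_mul, ← pow_mul, ← pow_mul]
    congr 1
    conv_lhs => rw [hf']
    ring
  rw [hqm]
  exact key _ (hodd.pow) a

/-- the inequality for the subgroups of odd order -/
theorem log_ineq {p n e : ℕ} (hp : p.Prime) (hp2 : p ≠ 2) (hn : 4 ≤ n) (he : e = n ∨ e + 1 = n) (he4 : 4 ≤ e) :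
    n.factorization p + (n - 1).factorization p + 3 ≤ e := by
  have hp3 : 3 ≤ p := by have := hp.two_le; omega
  have h1 : p ^ (n.factorization p + (n - 1).factorization p) ≤ n := by
    by_cases h0 : p ∣ n
    · have h2 : ¬ p ∣ n - 1 := by
        intro h3
        have h4 : n - (n - 1) = 1 := by omega
        exact hp.one_lt.ne' (Nat.dvd_one.1 (h4 ▸ Nat.dvd_sub h0 h3))
      rw [Nat.factorization_eq_zero_of_not_dvd h2, add_zero]
      exact Nat.le_of_dvd (by omega) (Nat.ordProj_dvd n p)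
    · rw [Nat.factorization_eq_zero_of_not_dvd h0, zero_add]
      exact (Nat.le_of_dvd (by omega) (Nat.ordProj_dvd (n - 1) p)).trans (by omega)
  have h2 : ∀ j : ℕ, j + 5 < 3 ^ (j + 2) := by
    intro j
    induction j with
    | zero => norm_num
    | succ j ih =>
      rw [show j + 1 + 2 = (j + 2) + 1 from rfl, pow_succ]
      omega
  by_contra hcon
  push Not at hcon
  obtain ⟨j, hj⟩ : ∃ j, e = j + 4 := ⟨e - 4, by omega⟩
  have h3 := h2 j
  have h4 : 3 ^ (j + 2) ≤ p ^ (n.factorization p + (n - 1).factorization p) :=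
    (Nat.pow_le_pow_left hp3 _).trans (Nat.pow_le_pow_right (by omega) (by omega))
  omega

end Cfsg.Agent.H715.PDU
end

-- part: H715/PDU/RowTwo
section
/-!
# Row PSU of S4246: composite `n`, elements of type `n` and `n - 1`
-/

set_option autoImplicit false

namespace Cfsg.Agent.H715.PDU

open Cfsg Module Matrix Subgroup
open Cfsg.Agent.LieClassical.HermBasic Cfsg.Agent.LieClassical.HermSiegel
open Cfsg.Agent.ClassicalGeometry.HermOrtho
open Cfsg.Agent.ClassicalGeometry.PSUAutBasic (pr pr_surjective pr_eq_one_iff exists_center_mul)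
open Cfsg.Agent.ClassicalGeometry.PSUAutCount (gm gm_mul gm_one toAut)
open Cfsg.Agent.CpAutU.Desc (toAut_mul toAut_one)
open Cfsg.Agent.GpUn
open Cfsg.Agent.H173.RU
open Cfsg.Agent.H160.PD

variable {F : Type*} [Field F] [Fintype F] {q n l k : ℕ}

theorem three_le_N (hn : 3 ≤ n) : 3 ≤ n * (n - 1) / 2 := by
  have h1 : 3 * 2 ≤ n * (n - 1) := Nat.mul_le_mul hn (by omega)
  omega

theorem three_f_le (hF : Fintype.card F = q ^ 2) (hn : 3 ≤ n) {p f : ℕ} (hp : p.Prime) (hf : f ≠ 0)
    (hq : q = p ^ f) : 3 * f ≤ v p (PSU n F q) := by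
  rw [v_PSU hF hn hp hf hq, mul_comm]
  exact Nat.mul_le_mul_left _ (three_le_N hn)

/-- **All the automorphisms of odd prime order, not the characteristic.** -/
theorem syl_all (hF : Fintype.card F = q ^ 2) (hn : 3 ≤ n) (h32 : ¬ (n = 3 ∧ q = 2)) {p f : ℕ} [hp : Fact p.Prime]
    [CharP F p] (hf : f ≠ 0) (hq : q = p ^ f) (b : MulAut (PSU n F q)) (hb : (orderOf b).Prime)
    (hb2 : orderOf b ≠ 2) (hbp : orderOf b ≠ p) :
    v p (Fx b) + (out (PSU n F q)).factorization p < v p (PSU n F q) := by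
  have h3 := three_f_le hF hn hp.1 hf hq
  have ho := out_fact_p hF hn h32 hp.1 hf hq
  have hb1 : b ^ orderOf b = 1 := pow_orderOf_eq_one b
  obtain ⟨A, ρ, rfl⟩ := Cfsg.Agent.ClassicalGeometry.PSUAutMain.exists_toAut hF hn h32 b
  by_cases hρ : ρ = 1
  · subst hρ
    have h1 := lin_bound hF hn hf hq ((Nat.coprime_primes hb hp.1).2 hbp) hb1 (fun h0 => by
      rw [h0, orderOf_one] at hb
      exact Nat.not_prime_one hb)
    omega
  · have h1 := fld_bound hF hn hf hq hb hb2 hb1 hρ
    omega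

theorem ne_two_of_ty (h : Ty q l k) (hk : 2 ≤ k) : l ≠ 2 := by
  rintro rfl
  have h1 : ∀ z : ZMod 2, z = 0 ∨ z = 1 := by decide
  have h2 := h.ord
  rcases h1 (-(q : ZMod 2)) with h3 | h3
  · apply h.not_dvd
    rw [neg_eq_zero] at h3
    exact (ZMod.natCast_eq_zero_iff q 2).1 h3
  · rw [h3, orderOf_one] at h2
    omega

theorem ne_p_of_ty (h : Ty q l k) {p f : ℕ} (hf : f ≠ 0) (hq : q = p ^ f) : l ≠ p := by
  rintro rfl
  exact h.not_dvd (by rw [hq]; exact dvd_pow_self l hf)

/-- primes of type `≥ 2` are good -/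
theorem out_lt (h : Ty q l k) (hF : Fintype.card F = q ^ 2) (hn : 3 ≤ n) (h32 : ¬ (n = 3 ∧ q = 2)) {p f : ℕ}
    (hp : p.Prime) (hf : f ≠ 0) (hq : q = p ^ f) (hk : 2 ≤ k) (hkn : k ≤ n) (hl2 : l ≠ 2) :
    (out (PSU n F q)).factorization l < v l (PSU n F q) := by
  have hq2 := two_le hF
  have h1 := v_add hF hn l
  have h2 : (Nat.gcd n (q + 1)).factorization l = 0 := by
    apply Nat.factorization_eq_zero_of_not_dvd
    exact fun h0 => h.not_dvd_succ (by omega) hk (h0.trans (Nat.gcd_dvd_right _ _))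
  have h3 := lte hp hf hq h.prime hl2 (by omega) ((dvd_tor h (by omega) (m := k) (by omega)).2 dvd_rfl)
  have h4 := v_SU_ge hF (by omega : 1 ≤ n) l {k} (by
    intro m hm
    rw [Finset.mem_singleton] at hm
    rw [Finset.mem_Icc]
    omega)
  rw [Finset.sum_singleton] at h4
  rw [out_fact hF hn h32 hp hf hq]
  omega

theorem good (h : Ty q l k) (hF : Fintype.card F = q ^ 2) (hn : 3 ≤ n) (h32 : ¬ (n = 3 ∧ q = 2)) {p f : ℕ}
    (hp : p.Prime) (hf : f ≠ 0) (hq : q = p ^ f) (hk : 2 ≤ k) (hkn : k ≤ n) : Good (PSU n F q) l :=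
  ⟨h.prime, ne_two_of_ty h hk, out_lt h hF hn h32 hp hf hq hk hkn (ne_two_of_ty h hk)⟩

/-! ### `p`-subgroups normalised by elements of type `n`, `n - 1` -/

theorem v_norm_odd (h : Ty q l k) (hF : Fintype.card F = q ^ 2) (hn : 3 ≤ n) (hk : k = n ∨ k + 1 = n) (hk3 : 3 ≤ k)
    (hodd : Odd k) {p : ℕ} [hp : Fact p.Prime] [CharP F p] {X : Subgroup (PSU n F q)} (hX : IsPGroup p X)
    {x : PSU n F q} (hx : orderOf x = l) (hxX : x ∈ normalizer (X : Set (PSU n F q))) : v p X = 0 := by
  obtain ⟨y, hy, hy1, rfl⟩ := exists_lift h hF hn (by omega) hx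
  have h1 := h.noNorm (p := p) hF hodd (by omega) (by omega) hy hy1 X hX hxX
  rw [h1, v, Subgroup.card_bot, Nat.factorization_one, Finsupp.zero_apply]

/-- the fixed space of a `p`-group normalised by an element of even type -/
theorem finrank_FxV (h : Ty q l k) (hF : Fintype.card F = q ^ 2) (hn : 3 ≤ n) (hk : k = n ∨ k + 1 = n) (hk3 : 3 ≤ k)
    {p : ℕ} [hp : Fact p.Prime] [CharP F p] {P : Subgroup (SU n F q)} (hP : IsPGroup p P)
    {y : SU n F q} (hy : y ^ l = 1) (hy1 : y ≠ 1) (hyP : y ∈ normalizer (P : Set (SU n F q))) :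
    k ≤ 2 * finrank F (FxV P) := by
  have hinv : ∀ u ∈ FxV P, act y u ∈ FxV P := by
    intro u hu g hg
    have h1 : y⁻¹ * g * y ∈ P := by
      have h2 := (mem_normalizer_iff.1 (inv_mem hyP) g).1 hg
      rwa [inv_inv] at h2
    have h2 := hu _ h1
    have h3 : g * y = y * (y⁻¹ * g * y) := by group
    rw [← act_mul, h3, act_mul, h2]
  have hl0 := natCast_ne_zero (F := F) hF h.prime h.not_dvd
  have hnd := nd_fx hF hl0 hy
  have hle := h.le_sub hF hy hy1
  have hperp := finrank_perp hF hnd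
  have key : ∀ Z : Submodule F (Fin n → F), (∀ u ∈ Z, act y u ∈ Z) → Z ⊓ fx y = ⊥ → Z ≠ ⊥ → k ≤ 2 * finrank F Z := by
    intro Z hZ h0 hZ0
    have h1 := h.dvd_two_mul hF hy Z hZ h0
    have h2 : finrank F Z ≠ 0 := fun h3 => hZ0 (Submodule.finrank_eq_zero.1 h3)
    exact Nat.le_of_dvd (by omega) h1
  by_cases h0 : FxV P ⊓ fx y = ⊥
  · apply key _ hinv h0
    intro h1
    obtain ⟨v, -, hv0, hv⟩ := exists_fixed hF P hP ⊤ (fun _ _ _ _ => Submodule.mem_top) (by
      intro h3
      have h4 : finrank F (⊤ : Submodule F (Fin n → F)) = 0 := by rw [h3]; exact finrank_bot F _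
      rw [finrank_top, finrank_fin_fun] at h4
      omega)
    apply hv0
    have h2 : v ∈ FxV P := hv
    rwa [h1, Submodule.mem_bot] at h2
  · -- the line `fx y` is fixed by `P`
    have h1 : fx y ≤ FxV P := by
      have h2 : FxV P ⊓ fx y = fx y := by
        apply Submodule.eq_of_le_of_finrank_le inf_le_right
        have h4 : finrank F ↥(FxV P ⊓ fx y) ≠ 0 := fun h5 => h0 (Submodule.finrank_eq_zero.1 h5)
        omega
      rw [← h2]
      exact inf_le_left
    set W := hermPerp q ((fx y : Submodule F (Fin n → F)) : Set (Fin n → F)) with hW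
    have hWP : ∀ g ∈ P, ∀ u ∈ W, act g u ∈ W := by
      intro g hg u hu
      apply act_perp _ hu
      intro w hw
      rw [h1 hw g⁻¹ (inv_mem hg)]
      exact hw
    have hWy : ∀ u ∈ W, act y u ∈ W := by
      intro u hu
      apply act_perp _ hu
      intro w hw
      have h2 := act_inv_act y w
      rw [mem_fx.1 hw] at h2
      rw [h2]
      exact hw
    obtain ⟨v, hvW, hv0, hv⟩ := exists_fixed hF P hP W hWP (by
      intro h3
      have h4 : finrank F W = 0 := by rw [h3]; exact finrank_bot F _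
      omega)
    have h2 := key (FxV P ⊓ W) (fun u hu => ⟨hinv u hu.1, hWy u hu.2⟩) (by
      rw [Submodule.eq_bot_iff]
      rintro u ⟨⟨-, h4⟩, h5⟩
      exact hnd u h5 h4) (by
      intro h3
      apply hv0
      have h4 : v ∈ FxV P ⊓ W := ⟨hv, hvW⟩
      rwa [h3, Submodule.mem_bot] at h4)
    have h3 : finrank F ↥(FxV P ⊓ W) ≤ finrank F (FxV P) := Submodule.finrank_mono inf_le_left
    omega

theorem v_norm_even (h : Ty q l k) (hF : Fintype.card F = q ^ 2) (hn : 3 ≤ n) (hk : k = n ∨ k + 1 = n) (hk3 : 3 ≤ k)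
    (heven : Even k) {p f : ℕ} [hp : Fact p.Prime] [CharP F p] (hf : f ≠ 0) (hq : q = p ^ f)
    {X : Subgroup (PSU n F q)} (hX : IsPGroup p X)
    {x : PSU n F q} (hx : orderOf x = l) (hxX : x ∈ normalizer (X : Set (PSU n F q))) :
    v p X + f * (k - 2) ≤ v p (PSU n F q) := by
  obtain ⟨y, hy, hy1, rfl⟩ := exists_lift h hF hn (by omega) hx
  obtain ⟨P, hP, hPX, hPn⟩ := exists_lift_pgroup (pr n F q) pr_surjective ker_pr hX
  have h1 := finrank_FxV h hF hn hk hk3 hP hy hy1 (hPn y hxX)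
  obtain ⟨c, hc⟩ := heven
  have h2 := card_le_of_finrank hF P hP (d := c - 1) (by omega) (by omega)
  have h3 := (Nat.mul_le_mul_left ((q ^ 2) ^ (c - 1)) (card_le_lift hPX)).trans h2
  have h4 : (q ^ 2) ^ (c - 1) = p ^ (f * (k - 2)) := by
    rw [hq, ← pow_mul, ← pow_mul]
    congr 1
    have : k - 2 = 2 * (c - 1) := by omega
    rw [this]
  rw [h4] at h3
  have h5 : v p (PSU n F q) = v p (SU n F q) := by
    rw [v_PSU hF hn hp.1 hf hq, v_SU hF (by omega) hp.1 hf hq]
  obtain ⟨j, hj⟩ := IsPGroup.iff_card.1 hX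
  have h6 : v p X = j := by rw [v, hj, hp.1.factorization_pow, Finsupp.single_eq_same]
  have h7 : f * (k - 2) + j ≤ v p (SU n F q) := le_of_pow_card hp.1 hj h3
  omega

/-- **The subgroups of odd order.** -/
theorem odd_of (h : Ty q l k) (hF : Fintype.card F = q ^ 2) (hn : 3 ≤ n) (hk : k = n ∨ k + 1 = n) (hk3 : 3 ≤ k)
    {p f : ℕ} [hp : Fact p.Prime] [CharP F p] (hf : f ≠ 0) (hq : q = p ^ f)
    (H : Subgroup (PSU n F q)) (hH : Odd (Nat.card H)) (hlH : l ∣ Nat.card H) :
    v p H ≤ (if Even k then v p (PSU n F q) - f * (k - 2) else 0) + k.factorization p := by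
  refine odd_bound_of_uniq hp.1 h.prime (ne_p_of_ty h hf hq).symm (uniq h hF hn hk hk3) ?_ ?_ H hH hlH
  · intro X hX x hxX hx
    by_cases he : Even k
    · rw [if_pos he]
      have := v_norm_even h hF hn hk hk3 he hf hq hX hx hxX
      omega
    · rw [if_neg he]
      exact (v_norm_odd h hF hn hk hk3 (Nat.not_even_iff_odd.1 he) hX hx hxX).le
  · intro x hx
    exact v_norm_p h hF hn hk hk3 hp.1 hf hq hx

/-! ### `Inc` -/

/-- an automorphism of odd prime order fixing an element of odd type is linear -/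
theorem linear_of_fix (h : Ty q l k) (hF : Fintype.card F = q ^ 2) (hn : 3 ≤ n) (h32 : ¬ (n = 3 ∧ q = 2))
    (hk3 : 3 ≤ k) (hnk : n ≤ k + 1) {p f : ℕ} (hp : p.Prime) (hf : f ≠ 0) (hq : q = p ^ f)
    (hord : orderOf (p : ZMod l) = 2 * f * k) (b : MulAut (PSU n F q)) (hb : (orderOf b).Prime)
    (hb2 : orderOf b ≠ 2) {x : PSU n F q} (hx : orderOf x = l) (hbx : b x = x) : ∃ A : GU n F q, b = toAut A 1 := by
  obtain ⟨A, ρ, rfl⟩ := Cfsg.Agent.ClassicalGeometry.PSUAutMain.exists_toAut hF hn h32 b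
  by_cases hρ : ρ = 1
  · exact ⟨A, by rw [hρ]⟩
  · exfalso
    have hb3 : 3 ≤ orderOf (toAut A ρ) := by
      have := hb.two_le
      omega
    have h6 : 3 * k ≤ orderOf (toAut A ρ) * k := Nat.mul_le_mul_right _ hb3
    refine h.field_free hF hn (by omega) hp (by omega) hq hord hb hb2 (by omega) (pow_orderOf_eq_one _) hρ ?_ ?_ hbx
    · rw [← hx]; exact pow_orderOf_eq_one x
    · rintro rfl
      rw [orderOf_one] at hx
      exact h.prime.one_lt.ne hx

theorem exists_com' (h : Ty q l k) (hF : Fintype.card F = q ^ 2) (hn : 3 ≤ n) (hk : 2 ≤ k) {A : GU n F q}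
    {x : PSU n F q} (hx : orderOf x = l) (hbx : toAut A 1 x = x) : ∃ y : SU n F q, y ^ l = 1 ∧ y ≠ 1 ∧ Com A y := by
  have hq := two_le hF
  refine exists_com hF hn (h.coprime_succ (by omega) hk) ?_ ?_ hbx
  · rw [← hx]; exact pow_orderOf_eq_one x
  · rintro rfl
    rw [orderOf_one] at hx
    exact h.prime.one_lt.ne hx

theorem inc_even {r₀ r₁ : ℕ} (h0 : Ty q r₀ n) (h1 : Ty q r₁ (n - 1)) (hF : Fintype.card F = q ^ 2) (hn : 4 ≤ n)
    (hodd : Odd (n - 1)) {p f : ℕ} (hp : p.Prime) (hf : f ≠ 0) (hq : q = p ^ f)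
    (hord : orderOf (p : ZMod r₁) = 2 * f * (n - 1)) : Inc (PSU n F q) r₀ r₁ := by
  intro b hb hb2 x hx hbx y hy hby
  obtain ⟨A, rfl⟩ := linear_of_fix h1 hF (by omega) (by omega) (by omega) (by omega) hp hf hq hord b hb hb2 hy hby
  obtain ⟨x', hx1, hx2, hx3⟩ := exists_com' h0 hF (by omega) (by omega) hx hbx
  obtain ⟨y', hy1, hy2, hy3⟩ := exists_com' h1 hF (by omega) (by omega) hy hby
  have h2 := scalar_of_both h1 h0 hF hn hodd hy1 hy2 hx1 hx2 hy3 hx3
  rw [h2, orderOf_one] at hb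
  exact Nat.not_prime_one hb

theorem inc_odd {r₀ r₁ : ℕ} (h0 : Ty q r₀ n) (h1 : Ty q r₁ (n - 1)) (hF : Fintype.card F = q ^ 2) (hn : 4 ≤ n)
    (hodd : Odd n) {p f : ℕ} (hp : p.Prime) (hf : f ≠ 0) (hq : q = p ^ f)
    (hord : orderOf (p : ZMod r₀) = 2 * f * n) : Inc (PSU n F q) r₀ r₁ := by
  intro b hb hb2 x hx hbx y hy hby
  obtain ⟨A, rfl⟩ := linear_of_fix h0 hF (by omega) (by omega) (by omega) (by omega) hp hf hq hord b hb hb2 hx hbx
  obtain ⟨x', hx1, hx2, hx3⟩ := exists_com' h0 hF (by omega) (by omega) hx hbx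
  obtain ⟨y', hy1, hy2, hy3⟩ := exists_com' h1 hF (by omega) (by omega) hy hby
  obtain ⟨v, hv, hv0⟩ := fx_ne_bot h1 hF (by omega) (by omega) hy1
  have hle := h1.le_sub hF hy1 hy2
  have hA := hy3.fx_inv v hv
  have h2 : finrank F (fx y') = 1 := by
    have h3 : finrank F (fx y') ≠ 0 := fun h4 => by
      rw [Submodule.finrank_eq_zero] at h4
      rw [h4, Submodule.mem_bot] at hv
      exact hv0 hv
    omega
  obtain ⟨c, hc⟩ := (finrank_eq_one_iff_of_nonzero' (⟨v, hv⟩ : fx y') (fun h4 => hv0 (congrArg Subtype.val h4))).1 h2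
    ⟨gm A *ᵥ v, hA⟩
  have hc' : gm A *ᵥ v = c • v := (congrArg Subtype.val hc).symm
  have h3 := h0.scalar_of_eigen hF (by omega) hodd hx1 hx2 hx3 hv0 hc'
  have h4 := toAut_eq_one_of_scalar (by omega) h3
  rw [h4, orderOf_one] at hb
  exact Nat.not_prime_one hb

/-! ### assembly -/

/-- the other primes -/
theorem num {r₀ r₁ : ℕ} (h0 : Ty q r₀ n) (h1 : Ty q r₁ (n - 1)) (hF : Fintype.card F = q ^ 2) (hn : 4 ≤ n)
    {p f : ℕ} (hp : p.Prime) (hf : f ≠ 0) (hq : q = p ^ f) {t : ℕ} (ht : t.Prime) (ht2 : t ≠ 2) (htp : t ≠ p)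
    (htS : t ∣ Nat.card (PSU n F q)) :
    ((out (PSU n F q)).factorization t < v t (PSU n F q) ∧ ∀ y : PSU n F q, orderOf y = t →
      v p (centralizer ({y} : Set (PSU n F q))) ≤ 0) ∨
    ∀ x y : PSU n F q, orderOf x = r₀ → orderOf y = r₁ →
      v t (centralizer ({x} : Set (PSU n F q))) + v t (centralizer ({y} : Set (PSU n F q))) +
        (out (PSU n F q)).factorization t < v t (PSU n F q) := by
  have hq2 := two_le hF
  have htq : ¬ t ∣ q := by
    intro h2
    rw [hq] at h2
    exact htp ((Nat.prime_dvd_prime_iff_eq ht hp).1 (ht.dvd_of_dvd_pow h2))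
  obtain ⟨k, hk⟩ := Ty.exists_of_not_dvd ht htq
  have hkn : k ≤ n := by
    apply hk.le_of_dvd hF (by omega)
    rw [card_SU_eq hF (by omega)]
    exact Dvd.dvd.mul_right htS _
  have hk0 := hk.pos
  by_cases hkb : k = n ∨ k + 1 = n
  · left
    refine ⟨out_lt hk hF (by omega) (by omega) hp hf hq (by omega) hkn ht2, fun y hy => ?_⟩
    rw [v_cent_p hk hF (by omega) hkb (by omega) hp hf hq hy]
  · right
    intro x y hx hy
    obtain ⟨j, hj2, hjn, hkj⟩ : ∃ j, 2 ≤ j ∧ j + 2 ≤ n ∧ k ∣ j := by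
      by_cases hk1 : k = 1
      · exact ⟨2, le_rfl, by omega, by rw [hk1]; exact one_dvd _⟩
      · exact ⟨k, by omega, by omega, dvd_rfl⟩
    have h2 := v_cent h0 hF (by omega) (Or.inl rfl) (by omega) hx t
    have h3 := v_cent h1 hF (by omega) (Or.inr (by omega)) (by omega) hy t
    have h4 := lte hp hf hq ht ht2 (by omega) ((dvd_tor hk (by omega) (m := j) (by omega)).2 hkj)
    have h5 := v_SU_ge hF (by omega : 1 ≤ n) t {j, n - 1, n} (by
      intro m hm
      simp only [Finset.mem_insert, Finset.mem_singleton] at hm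
      rw [Finset.mem_Icc]
      omega)
    rw [Finset.sum_insert (by simp only [Finset.mem_insert, Finset.mem_singleton]; omega),
      Finset.sum_insert (by simp only [Finset.mem_singleton]; omega), Finset.sum_singleton] at h5
    have h6 := v_add hF (by omega : 3 ≤ n) t
    rw [out_fact hF (by omega) (by omega) hp hf hq]
    omega

/-- **The criterion with two primes.** -/
theorem core {r₀ r₁ : ℕ} (h0 : Ty q r₀ n) (h1 : Ty q r₁ (n - 1)) (hF : Fintype.card F = q ^ 2) (hn : 4 ≤ n)
    {p f : ℕ} [hp : Fact p.Prime] [CharP F p] (hf : f ≠ 0) (hq : q = p ^ f) (hr0 : n < r₀) (hr1 : n < r₁)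
    (hinc : Inc (PSU n F q) r₀ r₁) : Row (PSU n F q) := by
  have hZ := center_PSU (n := n) hF (by omega) (by omega)
  have h3f := three_f_le hF (by omega : 3 ≤ n) hp.1 hf hq
  have ho := out_fact_p hF (by omega : 3 ≤ n) (by omega) hp.1 hf hq
  have hk0 : n = n ∨ n + 1 = n := Or.inl rfl
  have hk1 : n - 1 = n ∨ n - 1 + 1 = n := Or.inr (by omega)
  have hne : r₀ ≠ r₁ := by
    rintro rfl
    have := h0.unique h1
    omega
  have hV : f * n ≤ v p (PSU n F q) := by
    rw [v_PSU hF (by omega) hp.1 hf hq]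
    apply Nat.mul_le_mul_left
    have h2 : n * 2 ≤ n * (n - 1) := Nat.mul_le_mul_left _ (by omega)
    omega
  have hinq : p ≠ 2 → ∀ e, Even e → (e = n ∨ e + 1 = n) → 4 ≤ e →
      n.factorization p + (n - 1).factorization p + (out (PSU n F q)).factorization p < f * (e - 2) ∧
        f * (e - 2) ≤ v p (PSU n F q) := by
    intro hp2 e he hen he4
    have h2 := log_ineq hp.1 hp2 hn hen he4
    have h3 : (out (PSU n F q)).factorization p < f := by
      rw [out_fact hF (by omega) (by omega) hp.1 hf hq, gcd_fact_p hp.1 hf hq, zero_add,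
        Nat.factorization_mul two_ne_zero hf, Finsupp.add_apply, Nat.prime_two.factorization,
        Finsupp.single_eq_of_ne (fun h => hp2 h), zero_add]
      exact Nat.factorization_lt _ hf
    have h4 : f * (e - 2) = f * (e - 3) + f := by
      have : e - 2 = (e - 3) + 1 := by omega
      rw [this, mul_add, mul_one]
    have h5 : e - 3 ≤ f * (e - 3) := Nat.le_mul_of_pos_left _ (by omega)
    have h6 : f * (e - 2) ≤ f * n := Nat.mul_le_mul_left _ (by omega)
    omega
  refine Two.row hZ (p := p) (r₀ := r₀) (r₁ := r₁) (c₀ := 0) (c₁ := 0) (cE := 0)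
    (m₀ := (if Even n then v p (PSU n F q) - f * (n - 2) else 0) + n.factorization p)
    (m₁ := (if Even (n - 1) then v p (PSU n F q) - f * (n - 1 - 2) else 0) + (n - 1).factorization p) ?_
  refine
    { prime := hp.1
      good₀ := good h0 hF (by omega) (by omega) hp.1 hf hq (by omega) le_rfl
      good₁ := good h1 hF (by omega) (by omega) hp.1 hf hq (by omega) (by omega)
      cent₀ := fun x hx => (v_cent_p h0 hF (by omega) hk0 (by omega) hp.1 hf hq hx).le
      cent₁ := fun x hx => (v_cent_p h1 hF (by omega) hk1 (by omega) hp.1 hf hq hx).le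
      noOdd := ?_
      inc := hinc
      syl₀ := fun b hb hb2 hbp x _ _ => by
        have := syl_all hF (by omega) (by omega) hf hq b hb hb2 hbp
        rw [max_self, add_zero]
        exact this
      syl₁ := fun b hb hb2 hbp x _ _ => by
        have := syl_all hF (by omega) (by omega) hf hq b hb hb2 hbp
        rw [max_self, add_zero]
        exact this
      cc := by omega
      num := fun t ht ht2 htp htS _ _ => num h0 h1 hF hn hp.1 hf hq ht ht2 htp htS
      odd₀ := fun _ H hH hrH => odd_of h0 hF (by omega) hk0 (by omega) hf hq H hH hrH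
      odd₁ := fun _ H hH hrH => odd_of h1 hF (by omega) hk1 (by omega) hf hq H hH hrH
      n₀ := fun hp2 => ?_
      n₁ := fun hp2 => ?_
      n₀₁ := fun hp2 => ?_ }
  · refine noOdd_of_uniq h0.prime h1.prime hne (uniq h0 hF (by omega) hk0 (by omega))
      (uniq h1 hF (by omega) hk1 (by omega)) (fun x hx => ?_) (fun x hx => ?_)
    · exact not_dvd_norm h0 hF (by omega) hk0 (by omega) h1 (by
        intro hd
        have h2 : n - 1 ∣ 1 :=
          (Nat.dvd_add_right (dvd_refl (n - 1))).1 (by rwa [Nat.sub_add_cancel (by omega)])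
        have := Nat.le_of_dvd (by norm_num) h2
        omega) hr1 hx
    · exact not_dvd_norm h1 hF (by omega) hk1 (by omega) h0 (by
        intro hd
        have := Nat.le_of_dvd (by omega) hd
        omega) hr0 hx
  all_goals
    rcases Nat.even_or_odd n with he | he
    · have he' : ¬ Even (n - 1) := by
        rw [Nat.not_even_iff_odd]
        obtain ⟨a, ha⟩ := he
        exact ⟨a - 1, by omega⟩
      have h2 := hinq hp2 n he (Or.inl rfl) hn
      simp only [if_pos he, if_neg he']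
      omega
    · have he' : Even (n - 1) := by
        obtain ⟨a, ha⟩ := he
        exact ⟨a, by omega⟩
      have h5 : 4 ≤ n - 1 := by
        obtain ⟨a, ha⟩ := he
        omega
      have h2 := hinq hp2 (n - 1) he' (Or.inr (by omega)) h5
      simp only [if_pos he', if_neg (Nat.not_even_iff_odd.2 he)]
      omega

/-- **Composite `n`.** -/
theorem row_composite (hF : Fintype.card F = q ^ 2) (hn : 4 ≤ n) (h42 : ¬ (n = 4 ∧ q = 2)) (hnp : ¬ n.Prime) :
    Row (PSU n F q) := by
  have hq := two_le hF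
  obtain ⟨p, f, hp, hch, hqr, hf⟩ := exists_prime_pow hF
  have := Fact.mk hp
  rcases Nat.even_or_odd n with he | he
  · have hodd : Odd (n - 1) := by
      obtain ⟨a, ha⟩ := he
      exact ⟨a - 1, by omega⟩
    obtain ⟨r₁, h1, hord, hr1, -⟩ := exists_odd hp hf hqr hodd (by omega) (by omega)
    obtain ⟨r₀, h0, hr0⟩ := exists_even hp hf hqr he hn
    exact core h0 h1 hF hn (by omega) hqr hr0 (by omega) (inc_even h0 h1 hF hn hodd hp (by omega) hqr hord)
  · have heven : Even (n - 1) := by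
      obtain ⟨a, ha⟩ := he
      exact ⟨a, by omega⟩
    have h5 : 5 ≤ n := by
      obtain ⟨a, ha⟩ := he
      omega
    obtain ⟨r₀, h0, hord, hr0, -⟩ := exists_odd hp hf hqr he (by omega) (by omega)
    obtain ⟨r₁, h1, hr1⟩ := exists_even hp hf hqr heven (by omega)
    have hne : r₁ ≠ n := by
      rintro rfl
      exact hnp h1.prime
    exact core h0 h1 hF hn (by omega) hqr (by omega) (by omega) (inc_odd h0 h1 hF hn he hp (by omega) hqr hord)

end Cfsg.Agent.H715.PDU
end

-- part: H715/PDU/RowOne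
section
/-!
# Row PSU of S4246: `n` an odd prime, elements of type `n`; `PSU 4 F 2`
-/

set_option autoImplicit false

namespace Cfsg.Agent.H715.PDU

open Cfsg Module Matrix Subgroup
open Cfsg.Agent.LieClassical.HermBasic Cfsg.Agent.LieClassical.HermSiegel
open Cfsg.Agent.ClassicalGeometry.HermOrtho
open Cfsg.Agent.ClassicalGeometry.PSUAutBasic (pr pr_surjective pr_eq_one_iff exists_center_mul)
open Cfsg.Agent.ClassicalGeometry.PSUAutCount (gm gm_mul gm_one semiConj toAut toAut_pr act_semiConj)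
open Cfsg.Agent.CpAutU.Desc (toAut_mul toAut_one)
open Cfsg.Agent.GpUn
open Cfsg.Agent.H173.RU
open Cfsg.Agent.H160.PD

variable {F : Type*} [Field F] [Fintype F] {q n l k : ℕ}

/-! ### lifts of elements of order prime to `n` -/

theorem center_pow_n (hF : Fintype.card F = q ^ 2) (hn : 3 ≤ n) {z : SU n F q} (hz : z ∈ center (SU n F q)) :
    z ^ n = 1 := by
  have h1 : (⟨z, hz⟩ : center (SU n F q)) ^ Nat.gcd n (q + 1) = 1 := by
    rw [← Cfsg.Agent.S0279.result hF n hn]
    exact pow_card_eq_one'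
  have h2 : z ^ Nat.gcd n (q + 1) = 1 := congrArg Subtype.val h1
  obtain ⟨c, hc⟩ := Nat.gcd_dvd_left n (q + 1)
  have h3 : z ^ n = z ^ (Nat.gcd n (q + 1) * c) := by rw [← hc]
  rw [h3, pow_mul, h2, one_pow]

theorem eq_one_of_center' (hF : Fintype.card F = q ^ 2) (hn : 3 ≤ n) (hl : l.Coprime n)
    {z : SU n F q} (hz : z ∈ center (SU n F q)) (hzl : z ^ l = 1) : z = 1 := by
  have h3 : orderOf z ∣ Nat.gcd l n := Nat.dvd_gcd (orderOf_dvd_of_pow_eq_one hzl)
    (orderOf_dvd_of_pow_eq_one (center_pow_n hF hn hz))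
  rw [hl] at h3
  exact orderOf_eq_one_iff.1 (Nat.dvd_one.1 h3)

theorem eq_of_pr_eq' (hF : Fintype.card F = q ^ 2) (hn : 3 ≤ n) (hl : l.Coprime n) {y y' : SU n F q}
    (hy : y ^ l = 1) (hy' : y' ^ l = 1) (h : pr n F q y = pr n F q y') : y = y' := by
  obtain ⟨z, hz, hz1⟩ := exists_center_mul h
  have hzc : Commute y z := (mem_center_iff.1 hz) y
  have h1 : y' = y * z := hz1
  have h2 : z ^ l = 1 := by
    rw [h1, hzc.mul_pow, hy, one_mul] at hy'
    exact hy'
  have h3 := eq_one_of_center' hF hn hl hz h2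
  rw [h1, h3, mul_one]

/-- An element of `PSU` of order prime to `n` fixed by a linear automorphism lifts to an element commuting with the
matrix. -/
theorem exists_com_n (hF : Fintype.card F = q ^ 2) (hn : 3 ≤ n) (hl : l.Coprime n) {A : GU n F q}
    {z : PSU n F q} (hz : z ^ l = 1) (hz1 : z ≠ 1) (hfix : toAut A 1 z = z) :
    ∃ y : SU n F q, y ^ l = 1 ∧ y ≠ 1 ∧ Com A y := by
  obtain ⟨g, rfl⟩ := pr_surjective z
  have h1 : g ^ l ∈ center (SU n F q) := by
    rw [← pr_eq_one_iff, map_pow]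
    exact hz
  obtain ⟨j, hj1, hj2⟩ := Nat.chineseRemainder hl 1 0
  have hy : (g ^ j) ^ l = 1 := by
    rw [← pow_mul, mul_comm, pow_mul]
    obtain ⟨k, hk⟩ := (Nat.modEq_zero_iff_dvd.1 hj2)
    rw [hk, pow_mul, center_pow_n hF hn h1, one_pow]
  have hpr : pr n F q (g ^ j) = pr n F q g := by
    rw [map_pow]
    have h3 : pr n F q g ^ j = pr n F q g ^ 1 := by
      rw [pow_eq_pow_iff_modEq]
      exact hj1.of_dvd (orderOf_dvd_of_pow_eq_one hz)
    rw [h3, pow_one]
  refine ⟨g ^ j, hy, fun h0 => hz1 (by rw [← hpr, h0, map_one]), fun v => ?_⟩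
  have h4 : pr n F q (semiConj A 1 (g ^ j)) = pr n F q (g ^ j) := by
    have : toAut A 1 (pr n F q (g ^ j)) = pr n F q (g ^ j) := by rw [hpr, hfix]
    exact this
  have h2 : semiConj A 1 (g ^ j) = g ^ j := by
    refine eq_of_pr_eq' hF hn hl ?_ hy h4
    rw [← map_pow, hy, map_one]
  have h3 := act_semiConj A 1 (g ^ j) v
  rw [h2] at h3
  exact h3.symm

/-! ### `n` an odd prime -/

/-- the elements commuting with a non-scalar matrix which commutes with an element of type `n` -/
theorem fx_eq_bot_of_com (h : Ty q l n) (hF : Fintype.card F = q ^ 2) (hn : n.Prime) (hn3 : 3 ≤ n) {y : SU n F q}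
    (hy : y ^ l = 1) (hy1 : y ≠ 1) {A : GU n F q} (hA : Com A y) (hA1 : toAut A 1 ≠ 1) {g : SU n F q}
    (hg : Com A g) (hg1 : g ≠ 1) : fx g = ⊥ := by
  have hodd : Odd n := hn.odd_of_ne_two (by omega)
  rw [← Submodule.finrank_eq_zero (R := F)]
  by_contra h0
  have hle := Submodule.finrank_le (fx g)
  rw [finrank_fin_fun] at hle
  have hne : finrank F (fx g) ≠ n := by
    intro h1
    apply hg1
    apply eq_one_of_top
    intro w
    have h3 : fx g = ⊤ := by
      apply Submodule.eq_top_of_finrank_eq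
      rw [h1, finrank_fin_fun]
    have h4 : w ∈ fx g := by rw [h3]; trivial
    exact h4
  apply hA1
  apply h.scalar_of_inv hF hn3 hodd hy hy1 hA (fx g) hg.fx_inv
  rw [Nat.Prime.coprime_iff_not_dvd hn]
  intro hd
  have := Nat.le_of_dvd (Nat.pos_of_ne_zero h0) hd
  omega

/-- no elements of order `p` -/
theorem no_p (h : Ty q l n) (hF : Fintype.card F = q ^ 2) (hn : n.Prime) (hn3 : 3 ≤ n) {p f : ℕ} [hp : Fact p.Prime]
    [CharP F p] (hf : f ≠ 0) (hq : q = p ^ f) {A : GU n F q} (hA1 : toAut A 1 ≠ 1)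
    {x : PSU n F q} (hx : orderOf x = l) (hbx : toAut A 1 x = x) : v p (Fx (toAut A 1)) = 0 := by
  apply v_eq_zero
  intro hd
  obtain ⟨z, hz, hzo⟩ := Cfg.exists_mem hp.1 hd
  obtain ⟨y, hy, hy1, hA⟩ := exists_com' h hF hn3 (by omega) hx hbx
  have hcop : p.Coprime (q + 1) := by
    have := coprime_pow_succ hp.1 hf hq 1
    rwa [pow_one] at this
  obtain ⟨g, hg, hg1, hAg⟩ := exists_com hF hn3 hcop (z := z) (by rw [← hzo]; exact pow_orderOf_eq_one z) (by
    rintro rfl
    rw [orderOf_one] at hzo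
    exact hp.1.one_lt.ne hzo) hz
  have h1 := fx_eq_bot_of_com h hF hn hn3 hy hy1 hA hA1 hAg hg1
  obtain ⟨v, -, hv0, hv⟩ := exists_fixed hF (zpowers g) (isPGroup_zpowers (orderOf_eq_prime hg hg1)) ⊤
    (fun _ _ _ _ => Submodule.mem_top) (by
      intro h3
      have h4 : finrank F (⊤ : Submodule F (Fin n → F)) = 0 := by rw [h3]; exact finrank_bot F _
      rw [finrank_top, finrank_fin_fun] at h4
      omega)
  apply hv0
  have h2 : v ∈ fx g := hv g (mem_zpowers g)
  rwa [h1, Submodule.mem_bot] at h2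

/-- no involutions -/
theorem no_two (h : Ty q l n) (hF : Fintype.card F = q ^ 2) (hn : n.Prime) (hn3 : 3 ≤ n) (hq2 : (2 : F) ≠ 0)
    {A : GU n F q} (hA1 : toAut A 1 ≠ 1)
    {x : PSU n F q} (hx : orderOf x = l) (hbx : toAut A 1 x = x) : v 2 (Fx (toAut A 1)) = 0 := by
  have hodd : Odd n := hn.odd_of_ne_two (by omega)
  apply v_eq_zero
  intro hd
  obtain ⟨z, hz, hzo⟩ := Cfg.exists_mem Nat.prime_two hd
  obtain ⟨y, hy, hy1, hA⟩ := exists_com' h hF hn3 (by omega) hx hbx
  obtain ⟨g, hg, hg1, hAg⟩ := exists_com_n hF hn3 (Nat.coprime_two_left.2 hodd) (z := z)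
    (by rw [← hzo]; exact pow_orderOf_eq_one z) (by
    rintro rfl
    rw [orderOf_one] at hzo
    omega) hz
  have h1 := fx_eq_bot_of_com h hF hn hn3 hy hy1 hA hA1 hAg hg1
  have h2 : ∀ v, act g v = -v := by
    intro v
    have h3 : act g v + v ∈ fx g := by
      rw [mem_fx, act_add, ← act_mul, ← pow_two, hg, act_one, add_comm]
    rw [h1, Submodule.mem_bot] at h3
    exact eq_neg_of_add_eq_zero_left h3
  have h3 : mat g = -1 := by
    apply Matrix.ext_of_mulVec_single
    intro i
    rw [← act_def, h2, neg_mulVec, one_mulVec]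
  have h4 := det_mat g
  rw [h3, det_neg, det_one, mul_one, Fintype.card_fin, hodd.neg_one_pow] at h4
  apply hq2
  linear_combination -h4

/-- conjugation by an element of `PSU` -/
theorem exists_toAut_conj (hF : Fintype.card F = q ^ 2) (s : PSU n F q) :
    ∃ A : GU n F q, MulAut.conj s = toAut A 1 := by
  obtain ⟨g, rfl⟩ := pr_surjective s
  exact ⟨Cfsg.Agent.LieClassical.GUOrder.mkGU hF (mat g) (fun u v => herm_act g u v),
    (Cfsg.Agent.Schreier.PSU.f₁_eq_conj _ g rfl).symm⟩

theorem v_centralizer_eq {S : Type*} [Group S] (s : S) (p : ℕ) :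
    v p (centralizer ({s} : Set S)) = v p (Fx (MulAut.conj s)) := by
  have : centralizer ({s} : Set S) = Fx (MulAut.conj s) := by
    ext x
    rw [mem_centralizer_singleton_iff, mem_Fx, MulAut.conj_apply, mul_inv_eq_iff_eq_mul]
    exact eq_comm
  rw [this]

/-- **The involutions.** -/
theorem inv_bound (hF : Fintype.card F = q ^ 2) (hn : 3 ≤ n) (h32 : ¬ (n = 3 ∧ q = 2)) {p f : ℕ} [hp : Fact p.Prime]
    [CharP F p] (hp2 : p ≠ 2) (hf : f ≠ 0) (hq : q = p ^ f) {s : PSU n F q} (hs : orderOf s = 2) :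
    v p (centralizer ({s} : Set (PSU n F q))) + 2 * f ≤ v p (PSU n F q) := by
  rw [v_centralizer_eq]
  have hinj := conj_injective (center_PSU (n := n) hF hn h32)
  obtain ⟨A, hA⟩ := exists_toAut_conj (n := n) hF s
  rw [hA]
  refine lin_bound hF hn hf hq (j := 2) ((Nat.coprime_primes Nat.prime_two hp.1).2 (Ne.symm hp2)) ?_ ?_
  · rw [← hA, ← map_pow, ← hs, pow_orderOf_eq_one, map_one]
  · rw [← hA]
    intro h0
    have h1 : s = 1 := hinj (by rw [h0, map_one])
    rw [h1, orderOf_one] at hs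
    omega

/-- **`n` an odd prime.** -/
theorem row_prime (hF : Fintype.card F = q ^ 2) (hn : n.Prime) (hn3 : 3 ≤ n) (h32 : ¬ (n = 3 ∧ q = 2)) :
    Row (PSU n F q) := by
  have hq2 := two_le hF
  obtain ⟨p, f, hp, hch, hqr, hf1⟩ := exists_prime_pow hF
  have hpF := Fact.mk hp
  have hf : f ≠ 0 := by omega
  have hodd : Odd n := hn.odd_of_ne_two (by omega)
  have hZ := center_PSU (n := n) hF hn3 h32
  have h3f := three_f_le hF hn3 hp hf hqr
  have hk0 : n = n ∨ n + 1 = n := Or.inl rfl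
  obtain ⟨r, h, hord, hr, -⟩ := exists_odd hp hf1 hqr hodd hn3 (by omega)
  have hlin := fun (b : MulAut (PSU n F q)) hb hb2 (x : PSU n F q) (hx : orderOf x = r) (hbx : b x = x) =>
    linear_of_fix h hF hn3 h32 hn3 (by omega) hp hf hqr hord b hb hb2 hx hbx
  have hne1 : ∀ A : GU n F q, (orderOf (toAut A 1)).Prime → toAut A 1 ≠ 1 := by
    intro A hb h0
    rw [h0, orderOf_one] at hb
    exact Nat.not_prime_one hb
  -- the prime `2`
  have h2F : p ≠ 2 → (2 : F) ≠ 0 := by
    intro hp2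
    have h1 := natCast_ne_zero (F := F) hF Nat.prime_two (by
      rw [hqr]
      intro h2
      exact hp2 ((Nat.prime_dvd_prime_iff_eq Nat.prime_two hp).1 (Nat.prime_two.dvd_of_dvd_pow h2)).symm)
    exact_mod_cast h1
  have hgcd2 : (Nat.gcd n (q + 1)).factorization 2 = 0 := by
    apply Nat.factorization_eq_zero_of_not_dvd
    intro h2
    have h3 := h2.trans (Nat.gcd_dvd_left _ _)
    obtain ⟨a, ha⟩ := hodd
    omega
  have htwo : p ≠ 2 → (tor q n).factorization 2 + (out (PSU n F q)).factorization 2 < v 2 (PSU n F q) := by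
    intro hp2
    have h1 := v_SU_ge hF (by omega : 1 ≤ n) 2 {2, n} (by
      intro m hm
      simp only [Finset.mem_insert, Finset.mem_singleton] at hm
      rw [Finset.mem_Icc]
      omega)
    rw [Finset.sum_insert (by simp only [Finset.mem_singleton]; omega), Finset.sum_singleton] at h1
    have h2 := v_add hF hn3 2
    have h3 := lte_two hp hp2 hf hqr
    rw [out_fact hF hn3 h32 hp hf hqr]
    omega
  have hout : p ≠ 2 → n.factorization p + (out (PSU n F q)).factorization p < 2 * f := by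
    intro hp2
    have h3 : (out (PSU n F q)).factorization p < f := by
      rw [out_fact hF hn3 h32 hp hf hqr, gcd_fact_p hp hf hqr, zero_add,
        Nat.factorization_mul two_ne_zero hf, Finsupp.add_apply, Nat.prime_two.factorization,
        Finsupp.single_eq_of_ne (fun h => hp2 h), zero_add]
      exact Nat.factorization_lt _ hf
    have h4 : n.factorization p ≤ 1 := by
      rw [hn.factorization]
      by_cases h5 : p = n
      · rw [h5, Finsupp.single_eq_same]
      · rw [Finsupp.single_eq_of_ne h5]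
        omega
    omega
  refine One.row hZ (p := p) (r := r) (c := 0) (e := 0) (m := n.factorization p) ?_
  refine
    { prime := hp
      good := good h hF hn3 h32 hp hf hqr (by omega) le_rfl
      cent := fun x hx => (v_cent_p h hF hn3 hk0 hn3 hp hf hqr hx).le
      reg := fun b hb hb2 hbp x hx hbx => ?_
      syl := fun b hb hb2 hbp => by
        have := syl_all hF hn3 h32 hf hqr b hb hb2 hbp
        rw [max_self, add_zero]
        exact this
      odd := fun _ H hH hrH => by
        have := odd_of h hF hn3 hk0 hn3 hf hqr H hH hrH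
        rwa [if_neg (Nat.not_even_iff_odd.2 hodd), zero_add] at this
      inv := fun hp2 s hs => by
        have h1 := inv_bound hF hn3 h32 hp2 hf hqr hs
        have h2 := hout hp2
        rw [Nat.max_zero]
        omega
      two₀ := fun hp2 x hx => by
        have h1 := v_cent h hF hn3 hk0 hn3 hx 2
        have h2 := htwo hp2
        omega
      two₁ := fun hp2 b hb hb2 x hx hbx => ?_ }
  · obtain ⟨A, rfl⟩ := hlin b hb hb2 x hx hbx
    exact (no_p h hF hn hn3 hf hqr (hne1 A hb) hx hbx).le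
  · obtain ⟨A, rfl⟩ := hlin b hb hb2 x hx hbx
    rw [no_two h hF hn hn3 (h2F hp2) (hne1 A hb) hx hbx]
    have h2 := htwo hp2
    omega

end Cfsg.Agent.H715.PDU
end

-- part: H715/PDU/Main
section
/-!
# Row PSU of S4246
-/

set_option autoImplicit false

namespace Cfsg.Agent.H715.PDU

open Cfsg Module Matrix Subgroup
open Cfsg.Agent.LieClassical.HermBasic Cfsg.Agent.LieClassical.HermSiegel
open Cfsg.Agent.ClassicalGeometry.HermOrtho
open Cfsg.Agent.ClassicalGeometry.PSUAutBasic (pr pr_surjective pr_eq_one_iff exists_center_mul)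
open Cfsg.Agent.ClassicalGeometry.PSUAutCount (gm gm_mul gm_one semiConj toAut toAut_pr act_semiConj)
open Cfsg.Agent.CpAutU.Desc (toAut_mul toAut_one)
open Cfsg.Agent.GpUn
open Cfsg.Agent.H173.RU
open Cfsg.Agent.H160.PD

universe u

variable {F : Type*} [Field F] [Fintype F] {q n l k : ℕ}

/-- **`PSU_4(2)`** -/
theorem row_four_two (hF : Fintype.card F = 2 ^ 2) : Row (PSU 4 F 2) := by
  obtain ⟨p, f, hp, hch, hqr, hf1⟩ := exists_prime_pow hF
  have hp2 : p = 2 := by
    have h1 : p ∣ 2 := by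
      conv_rhs => rw [hqr]
      exact dvd_pow_self p hf1.ne'
    exact (Nat.prime_dvd_prime_iff_eq hp Nat.prime_two).1 h1
  subst hp2
  have hpF : Fact (Nat.Prime 2) := ⟨hp⟩
  have hf : f ≠ 0 := by omega
  obtain ⟨r, h, hr⟩ := exists_even hp hf1 hqr (n := 4) ⟨2, rfl⟩ le_rfl
  have hZ := center_PSU (n := 4) hF (by omega) (by omega)
  refine One.row hZ (p := 2) (r := r) (c := 0) (e := 0) (m := 0) ?_
  refine
    { prime := hp
      good := good h hF (by omega) (by omega) hp hf hqr (by omega) le_rfl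
      cent := fun x hx => (v_cent_p h hF (by omega) (Or.inl rfl) (by omega) hp hf hqr hx).le
      reg := fun b hb hb2 _ x hx hbx => ?_
      syl := fun b hb hb2 hbp => by
        have := syl_all hF (by omega) (by omega) hf hqr b hb hb2 hbp
        rw [max_self, add_zero]
        exact this
      odd := fun h2 => absurd rfl h2
      inv := fun h2 => absurd rfl h2
      two₀ := fun h2 => absurd rfl h2
      two₁ := fun h2 => absurd rfl h2 }
  obtain ⟨t, ht⟩ : ∃ t, t = orderOf b := ⟨_, rfl⟩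
  have hb1 : b ^ t = 1 := by rw [ht]; exact pow_orderOf_eq_one b
  rw [← ht] at hb hb2
  have hbne : b ≠ 1 := by
    rintro rfl
    rw [orderOf_one] at ht
    rw [ht] at hb
    exact Nat.not_prime_one hb
  have hxr : x ^ r = 1 := by rw [← hx]; exact pow_orderOf_eq_one x
  have hx1 : x ≠ 1 := by
    rintro rfl
    rw [orderOf_one] at hx
    exact h.prime.one_lt.ne hx
  obtain ⟨A, ρ, rfl⟩ := Cfsg.Agent.ClassicalGeometry.PSUAutMain.exists_toAut hF (by omega) (by omega) b
  by_cases hρ : ρ = 1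
  · subst hρ
    by_cases ht3 : t = 3
    · subst ht3
      exact absurd hbx (four_three h hF hb1 hbne x hxr hx1)
    · have hcop : t.Coprime (2 + 1) := (Nat.coprime_primes hb Nat.prime_three).2 ht3
      obtain ⟨g, B, hg, -, -, hgA⟩ := exists_su hF (by omega) hcop hb1
      have hg1 : g ≠ 1 := by
        rintro rfl
        rw [map_one, map_one] at hgA
        exact hbne hgA
      have htF := Fact.mk hb
      obtain ⟨k, hk⟩ := Ty.exists_of_not_dvd (q := 2) hb (fun h0 => hb2
        ((Nat.prime_dvd_prime_iff_eq hb Nat.prime_two).1 h0))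
      have hk4 : k ≤ 4 := by
        refine hk.le_of_dvd hF (by omega) ?_
        rw [← orderOf_eq_prime hg hg1]
        exact orderOf_dvd_natCard g
      have hk0 := hk.pos
      have hd := (dvd_tor hk (by omega) (m := k) (by omega)).2 dvd_rfl
      have ht3' : ∀ j, ¬ t ∣ 3 ^ j := fun j h0 => ht3
        ((Nat.prime_dvd_prime_iff_eq hb Nat.prime_three).1 (hb.dvd_of_dvd_pow h0))
      have hk' : k = 4 := by
        by_contra hne
        have h1 : k = 1 ∨ k = 2 ∨ k = 3 := by omega
        rcases h1 with rfl | rfl | rfl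
        · exact ht3' 1 (by rw [tor, if_neg (by decide)] at hd; exact hd)
        · exact ht3' 1 (by rw [tor, if_pos (by decide)] at hd; exact hd)
        · exact ht3' 2 (by rw [tor, if_neg (by decide)] at hd; exact hd)
      subst hk'
      have hgo : orderOf (pr 4 F 2 g) = t := by
        apply orderOf_eq_prime
        · rw [← map_pow, hg, map_one]
        · exact pr_ne_one hk hF (by omega) (by omega) hg hg1
      rw [hgA, ← v_centralizer_eq]
      exact (v_cent_p hk hF (by omega) (Or.inl rfl) (by omega) hp hf hqr hgo).le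
  · exfalso
    have := (dvd_of_field hF (by omega) hp hqr hb hb2 hb1 hρ).2
    omega

/-- **Row `PSU_n(q)`.** -/
theorem row_PSU (hF : Fintype.card F = q ^ 2) (hn : 3 ≤ n) (h32 : ¬ (n = 3 ∧ q = 2)) : Row (PSU n F q) := by
  by_cases hnp : n.Prime
  · exact row_prime hF hnp hn h32
  · have hn3 : n ≠ 3 := by
      rintro rfl
      exact hnp Nat.prime_three
    by_cases h42 : n = 4 ∧ q = 2
    · obtain ⟨rfl, rfl⟩ := h42
      exact row_four_two hF
    · exact row_composite hF (by omega) h42 hnp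

/-- **Row PSU of S4246.** -/
theorem row_psu (K : Type u) [Group K] [Finite K] [IsSimpleGroup K] (h : Cfsg.IsPSU K) :
    Cfsg.Agent.H160.PD.Row K := by
  obtain ⟨F, _, _, n, q, hF, hn, h32, ⟨e⟩⟩ := h
  exact (row_PSU hF hn h32).congr e

end Cfsg.Agent.H715.PDU
end
end

-- part: H767/PD/Auto
section
prune_inst 0x17078041062000000008514a0201c628200040000488400c40201060480e4620980a021a80004100000004500300060030000108240000004000000011c00800000900431400000020090000000000000000000000000000000000000000000000000002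
set_option linter.all false
open scoped Cfsg.Agent.FastGrp

-- part: H767/PD/Unip
section
/-!
# The `p`-parts of the centralizers of the `p'`-elements of `Sp_2m(q)` (helper767, S4246 row PSp)

`v_cent_le` : `q = p ^ f`, `m ≥ 2`, `s ∈ Sp_2m(q)` of order prime to `p`, `s ≠ ±1`: `v_p |C(s)| + 2 f ≤ m² f`.

`qe v u c` : the element `x ↦ x + f(x,u) v + f(x,v) u + c f(x,v) v`, `f(v,u) = 0`, of the unipotent radical of the
stabilizer of `v`; a `p`-subgroup `P` of `C(s)` fixes some `v ≠ 0`, the radical `Q v` is normalised by `P` and contains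
`q²` elements in different cosets of `C(s)`.
-/

set_option autoImplicit false
set_option linter.unusedSectionVars false

namespace Cfsg.Agent.H767.PD

open Cfsg Module Matrix Subgroup Cfsg.Agent.H458.SpOp
open Cfsg.Agent.ClassicalGeometry.SympBasic Cfsg.Agent.ClassicalGeometry.SympAutSemi

/-! ### counting -/

theorem card_mul_le {G : Type*} [Group G] [Finite G] {P Z H : Subgroup G} (hPZ : P ≤ Z) (hPH : P ≤ H) {α : Type*}
    [Finite α] (t : α → G) (ht : ∀ a, t a ∈ H) (hinj : ∀ a b, (t a)⁻¹ * t b ∈ Z → a = b) :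
    Nat.card P * Nat.card α ≤ Nat.card H := by
  rw [← Nat.card_prod]
  refine Nat.card_le_card_of_injective (fun x : P × α => (⟨t x.2 * x.1, H.mul_mem (ht _) (hPH x.1.2)⟩ : H)) ?_
  rintro ⟨x, a⟩ ⟨y, b⟩ h
  have h1 : t a * (x : G) = t b * y := congrArg Subtype.val h
  have h2 : (t a)⁻¹ * t b = (x : G) * (y : G)⁻¹ := by
    rw [eq_mul_inv_iff_mul_eq, mul_assoc, ← h1, inv_mul_cancel_left]
  have h3 : a = b := hinj a b (h2 ▸ Z.mul_mem (hPZ x.2) (Z.inv_mem (hPZ y.2)))
  subst h3
  have h4 : x = y := Subtype.ext (mul_left_cancel h1)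
  rw [h4]

variable {m : ℕ} {F : Type} [Field F]

local notation "V" => (Fin m ⊕ Fin m → F)
local notation "ff" => sympForm m F
local notation "Sp" => Matrix.symplecticGroup (Fin m) F

/-- the linear map -/
def qm (v u : V) (c : F) : V →ₗ[F] V where
  toFun x := x + (ff x u • v + ff x v • u + (c * ff x v) • v)
  map_add' x y := by
    simp only [sympForm_add_left]
    module
  map_smul' a x := by
    simp only [sympForm_smul_left, RingHom.id_apply]
    module

theorem qm_apply (v u : V) (c : F) (x : V) : qm v u c x = x + (ff x u • v + ff x v • u + (c * ff x v) • v) := rfl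

theorem swap0 {v u : V} (h : ff v u = 0) : ff u v = 0 := by rw [sympForm_swap, h, neg_zero]

theorem qm_form {v u : V} (h : ff v u = 0) (c : F) (x y : V) : ff (qm v u c x) (qm v u c y) = ff x y := by
  have h' := swap0 h
  simp only [qm_apply, sympForm_add_left, sympForm_add_right, sympForm_smul_left, sympForm_smul_right, h, h',
    sympForm_self]
  rw [sympForm_swap u y, sympForm_swap v y]
  ring

/-- the element of the unipotent radical -/
noncomputable def qe (v u : V) (c : F) (h : ff v u = 0) : Sp :=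
  ⟨LinearMap.toMatrix' (qm v u c), by
    rw [mem_symplecticGroup_iff]
    intro x y
    rw [LinearMap.toMatrix'_mulVec, LinearMap.toMatrix'_mulVec, qm_form h]⟩

theorem op_qe {v u : V} {c : F} (h : ff v u = 0) (x : V) :
    op m F (qe v u c h) x = x + (ff x u • v + ff x v • u + (c * ff x v) • v) := by
  rw [op_apply]
  change (LinearMap.toMatrix' (qm v u c)) *ᵥ x = _
  rw [LinearMap.toMatrix'_mulVec, qm_apply]

theorem eq_of_op {g h : Sp} (H : ∀ x, op m F g x = op m F h x) : g = h :=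
  _root_.Cfsg.Agent.H458.SpOp.op_injective (LinearMap.ext H)

theorem perp_add {v u u' : V} (h : ff v u = 0) (h' : ff v u' = 0) : ff v (u + u') = 0 := by
  rw [sympForm_add_right, h, h', add_zero]

theorem perp_neg {v u : V} (h : ff v u = 0) : ff v (-u) = 0 := by
  rw [sympForm_neg_right, h, neg_zero]

theorem qe_mul {v u u' : V} {c c' : F} (h : ff v u = 0) (h' : ff v u' = 0) :
    qe v u c h * qe v u' c' h' = qe v (u + u') (c + c' + ff u' u) (perp_add h h') := by
  apply eq_of_op
  intro x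
  rw [map_mul, Module.End.mul_apply, op_qe, op_qe, op_qe]
  simp only [sympForm_add_left, sympForm_add_right, sympForm_smul_left, h, swap0 h', sympForm_self]
  module

theorem qe_zero {v : V} (h : ff v 0 = 0) : qe v 0 0 h = 1 := by
  apply eq_of_op
  intro x
  rw [op_qe, map_one]
  simp

theorem qe_inv {v u : V} {c : F} (h : ff v u = 0) : (qe v u c h)⁻¹ = qe v (-u) (-c) (perp_neg h) := by
  rw [inv_eq_iff_mul_eq_one, qe_mul]
  have h1 : (⟨u + -u, c + -c + ff (-u) u⟩ : V × F) = ⟨0, 0⟩ := by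
    rw [sympForm_neg_left, sympForm_self]
    simp
  have h2 : u + -u = 0 := congrArg Prod.fst h1
  have h3 : c + -c + ff (-u) u = 0 := congrArg Prod.snd h1
  apply eq_of_op
  intro x
  rw [op_qe, map_one, h2, h3]
  simp

/-- the unipotent radical of the stabilizer of `v` -/
def Q (v : V) : Subgroup Sp where
  carrier := {g | ∃ (u : V) (c : F) (h : ff v u = 0), g = qe v u c h}
  mul_mem' := by
    rintro _ _ ⟨u, c, h, rfl⟩ ⟨u', c', h', rfl⟩
    exact ⟨_, _, _, qe_mul h h'⟩
  one_mem' := ⟨0, 0, by simp, (qe_zero _).symm⟩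
  inv_mem' := by
    rintro _ ⟨u, c, h, rfl⟩
    exact ⟨_, _, _, qe_inv h⟩

theorem qe_pow {v u : V} {c : F} (h : ff v u = 0) (n : ℕ) :
    ∃ h', (qe v u c h) ^ n = qe v ((n : F) • u) ((n : F) * c) h' := by
  have hh : ∀ a : F, ff v (a • u) = 0 := fun a => by rw [sympForm_smul_right, h, mul_zero]
  refine ⟨hh _, ?_⟩
  induction n with
  | zero =>
    apply eq_of_op
    intro x
    rw [pow_zero, map_one, op_qe]
    simp only [_root_.Module.End.one_apply, _root_.Nat.cast_zero, _root_.zero_smul, _root_.Cfsg.Agent.ClassicalGeometry.SympBasic.sympForm_zero_right, _root_.smul_zero, _root_.add_zero, _root_.MulZeroClass.zero_mul]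
  | succ n ih =>
    rw [pow_succ', ih, qe_mul]
    apply eq_of_op
    intro x
    rw [op_qe, op_qe, sympForm_smul_left, sympForm_self]
    have h1 : u + (n : F) • u = ((n + 1 : ℕ) : F) • u := by push_cast; module
    rw [h1]
    push_cast
    ring_nf

theorem isPGroup_Q {p : ℕ} [hp : Fact p.Prime] (hpF : (p : F) = 0) (v : V) : IsPGroup p (Q v) := by
  rintro ⟨_, u, c, h, rfl⟩
  refine ⟨1, Subtype.ext ?_⟩
  obtain ⟨h', h1⟩ := qe_pow (c := c) h p
  rw [pow_one]
  change qe v u c h ^ p = 1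
  rw [h1]
  apply eq_of_op
  intro x
  rw [op_qe, map_one, hpF]
  simp

/-- conjugation by elements fixing `v` -/
theorem conj_mem_Q {v : V} {g : Sp} (hg : op m F g v = v) {x : Sp} (hx : x ∈ Q v) : g * x * g⁻¹ ∈ Q v := by
  obtain ⟨u, c, h, rfl⟩ := hx
  have hf : ∀ x y, ff (op m F g x) (op m F g y) = ff x y := fun x y => op_form g x y
  have h1 : ff v (op m F g u) = 0 := by
    have := hf v u
    rw [hg, h] at this
    exact this
  refine ⟨op m F g u, c, h1, ?_⟩
  rw [mul_inv_eq_iff_eq_mul]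
  apply eq_of_op
  intro y
  rw [map_mul, map_mul, Module.End.mul_apply, Module.End.mul_apply, op_qe, op_qe, map_add, map_add, map_add, map_smul,
    map_smul, map_smul, hg, hf]
  have h2 : ff (op m F g y) v = ff y v := by
    have := hf y v
    rw [hg] at this
    exact this
  rw [h2]

theorem le_normalizer_Q {v : V} {P : Subgroup Sp} (hP : ∀ g ∈ P, op m F g v = v) :
    P ≤ Subgroup.normalizer ((Q v : Subgroup Sp) : Set Sp) := by
  intro g hg
  rw [mem_normalizer_iff]
  intro x
  constructor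
  · intro hx
    exact conj_mem_Q (hP g hg) hx
  · intro hx
    have h1 := conj_mem_Q (hP g⁻¹ (P.inv_mem hg)) hx
    have h2 : g⁻¹ * (g * x * g⁻¹) * g⁻¹⁻¹ = x := by group
    rwa [h2] at h1

/-! ### elements commuting with `s` -/

variable {s : Matrix.symplecticGroup (Fin m) F} {v : Fin m ⊕ Fin m → F}

/-- the equation for `qe v u c` to commute with `s` -/
theorem comm_eq {u : V} {c : F} {h : ff v u = 0} (hc : qe v u c h * s = s * qe v u c h) (x : V) :
    ff (op m F s x) u • v + ff (op m F s x) v • u + (c * ff (op m F s x) v) • v =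
      ff x u • op m F s v + ff x v • op m F s u + (c * ff x v) • op m F s v := by
  have h1 := congrArg (fun g => op m F g x) hc
  simp only [map_mul, Module.End.mul_apply, op_qe, map_add, map_smul] at h1
  exact add_left_cancel h1

theorem form_s (x y : V) : ff (op m F s x) (op m F s y) = ff x y := op_form s x y

/-- `v` not an eigenvector of `s` -/
theorem case_one {w : V} (hw : op m F s v = w) (hwv : ∀ a : F, w ≠ a • v) (hv : v ≠ 0)
    {u : V} {c : F} {h : ff v u = 0} (hc : qe v u c h * s = s * qe v u c h)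
    (hu : ∀ a b : F, u ≠ a • v + b • w ∨ u = 0) : u = 0 ∧ c = 0 := by
  have hu0 : u = 0 := by
    by_contra hne
    have hu' : ∀ a b : F, u ≠ a • v + b • w := fun a b => (hu a b).resolve_right hne
    -- `s` preserves `v^⊥`
    have h1 : ∀ x, ff x v = 0 → ff (op m F s x) v = 0 := by
      intro x hx
      by_contra h0
      have h2 := comm_eq hc x
      rw [hx, hw, zero_smul, add_zero, mul_zero, zero_smul, add_zero] at h2
      apply hu' (-(ff (op m F s x) v)⁻¹ * (ff (op m F s x) u + c * ff (op m F s x) v)) ((ff (op m F s x) v)⁻¹ * ff x u)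
      have h3 : ff (op m F s x) v • u = ff x u • w - (ff (op m F s x) u + c * ff (op m F s x) v) • v := by
        rw [← h2]; module
      have h4 : u = (ff (op m F s x) v)⁻¹ • (ff (op m F s x) v • u) := by
        rw [smul_smul, inv_mul_cancel₀ h0, one_smul]
      calc u = (ff (op m F s x) v)⁻¹ • (ff (op m F s x) v • u) := h4
        _ = (ff (op m F s x) v)⁻¹ • (ff x u • w - (ff (op m F s x) u + c * ff (op m F s x) v) • v) := by rw [h3]
        _ = _ := by module
    -- hence `v` is an eigenvector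
    obtain ⟨y, hy⟩ : ∃ y, ff y v ≠ 0 := by
      by_contra hcon
      push Not at hcon
      exact hv (eq_zero_of_forall_sympForm_left hcon)
    apply hwv ((ff y v)⁻¹ * ff (op m F s y) w * ((ff (op m F s y) v)⁻¹ * ff y v))
    have h5 : ff (op m F s y) v ≠ 0 := by
      intro h0
      have h6 : ∀ z, ff (op m F s z) v = 0 := by
        intro z
        have h7 : z = (z - (ff z v * (ff y v)⁻¹) • y) + (ff z v * (ff y v)⁻¹) • y := by module
        rw [h7, map_add, sympForm_add_left, h1 _ (by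
          rw [sympForm_sub_left, sympForm_smul_left, mul_assoc, inv_mul_cancel₀ hy, mul_one, sub_self]), map_smul,
          sympForm_smul_left, h0, mul_zero, add_zero]
      apply hv
      apply eq_zero_of_forall_sympForm_left
      intro z
      have h8 : z = op m F s (op m F s⁻¹ z) := by
        rw [← Module.End.mul_apply, ← map_mul, mul_inv_cancel, map_one, Module.End.one_apply]
      rw [h8]
      exact h6 _
    apply eq_of_forall_sympForm_left
    intro z
    have h8 : z = op m F s (op m F s⁻¹ z) := by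
      rw [← Module.End.mul_apply, ← map_mul, mul_inv_cancel, map_one, Module.End.one_apply]
    rw [h8]
    set z' := op m F s⁻¹ z
    have h9 : z' = (z' - (ff z' v * (ff y v)⁻¹) • y) + (ff z' v * (ff y v)⁻¹) • y := by module
    have h10 : ff (op m F s z') v = (ff z' v * (ff y v)⁻¹) * ff (op m F s y) v := by
      conv_lhs => rw [h9]
      rw [map_add, sympForm_add_left, h1 _ (by
          rw [sympForm_sub_left, sympForm_smul_left, mul_assoc, inv_mul_cancel₀ hy, mul_one, sub_self]), map_smul,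
          sympForm_smul_left, zero_add]
    rw [sympForm_smul_right, h10, ← hw, form_s, form_s]
    field_simp
  refine ⟨hu0, ?_⟩
  subst hu0
  by_contra hc0
  obtain ⟨y, hy⟩ : ∃ y, ff y v ≠ 0 := by
    by_contra hcon
    push Not at hcon
    exact hv (eq_zero_of_forall_sympForm_left hcon)
  have h2 := comm_eq hc y
  simp only [sympForm_zero_right, zero_smul, zero_add, smul_zero, map_zero] at h2
  rw [hw] at h2
  apply hwv ((c * ff y v)⁻¹ * (c * ff (op m F s y) v))
  have h3 : w = (c * ff y v)⁻¹ • ((c * ff y v) • w) := by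
    rw [smul_smul, inv_mul_cancel₀ (mul_ne_zero hc0 hy), one_smul]
  rw [h3, ← h2, smul_smul]

/-- `v` an eigenvector -/
theorem form_eig {lam : F} (hl : op m F s v = lam • v) (x : V) : lam * ff (op m F s x) v = ff x v := by
  have h1 := form_s (s := s) x v
  rw [hl, sympForm_smul_right] at h1
  exact h1

theorem case_eig {lam : F} (hl0 : lam ≠ 0) (hl : op m F s v = lam • v) (hv : v ≠ 0) {u : V} {c : F} {h : ff v u = 0}
    (hc : qe v u c h * s = s * qe v u c h) :
    (∃ a : F, op m F s u - lam⁻¹ • u = a • v) ∧ (u = 0 → c * (lam ^ 2 - 1) = 0) := by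
  obtain ⟨y, hy⟩ : ∃ y, ff y v ≠ 0 := by
    by_contra hcon
    push Not at hcon
    exact hv (eq_zero_of_forall_sympForm_left hcon)
  have h3 : ff (op m F s y) v = lam⁻¹ * ff y v := by
    rw [← form_eig hl y, ← mul_assoc, inv_mul_cancel₀ hl0, one_mul]
  have h2 := comm_eq hc y
  rw [hl, h3] at h2
  constructor
  · refine ⟨(ff y v)⁻¹ * (ff (op m F s y) u + c * (lam⁻¹ * ff y v) - ff y u * lam - c * ff y v * lam), ?_⟩
    have h4 : ff y v • (op m F s u - lam⁻¹ • u) =
        (ff (op m F s y) u + c * (lam⁻¹ * ff y v) - ff y u * lam - c * ff y v * lam) • v := by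
      have h5 : ff y v • (op m F s u - lam⁻¹ • u) = (ff y u • lam • v + ff y v • op m F s u + (c * ff y v) • lam • v)
          - (ff y u • lam • v + (lam⁻¹ * ff y v) • u + (c * ff y v) • lam • v) := by module
      rw [h5, ← h2]
      module
    rw [mul_smul, ← h4, smul_smul, inv_mul_cancel₀ hy, one_smul]
  · rintro rfl
    simp only [sympForm_zero_right, zero_smul, zero_add, smul_zero, map_zero] at h2
    have h5 : (c * (lam⁻¹ * ff y v) - c * ff y v * lam) • v = 0 := by
      rw [sub_smul, h2, smul_smul, sub_self]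
    have h6 : c * (lam⁻¹ * ff y v) - c * ff y v * lam = 0 := by
      rcases smul_eq_zero.1 h5 with h6 | h6
      · exact h6
      · exact absurd h6 hv
    have h7 : c * (lam ^ 2 - 1) * ff y v = 0 := by
      have h8 : lam * (c * (lam⁻¹ * ff y v) - c * ff y v * lam) = 0 := by rw [h6, mul_zero]
      have h9 : lam * (c * (lam⁻¹ * ff y v) - c * ff y v * lam) = -(c * (lam ^ 2 - 1) * ff y v) := by
        field_simp
        ring
      rw [h9, neg_eq_zero] at h8
      exact h8
    rcases mul_eq_zero.1 h7 with h8 | h8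
    · exact h8
    · exact absurd h8 hy

/-- the differences of two elements of `Q v` -/
theorem qe_inv_mul {u u' : V} {c c' : F} (h : ff v u = 0) (h' : ff v u' = 0) :
    (qe v u c h)⁻¹ * qe v u' c' h' = qe v (-u + u') (-c + c' + ff u' (-u)) (perp_add (perp_neg h) h') := by
  rw [qe_inv, qe_mul]

variable [Fintype F]

/-- **Many cosets.** -/
theorem exists_cosets (hm : 2 ≤ m) (hv : v ≠ 0) {N : ℕ} (hN : (N : F) ≠ 0) (hs : s ^ N = 1)
    (hs1 : ∀ lam : F, (∀ x, op m F s x = lam • x) → lam ^ 2 ≠ 1) :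
    ∃ t : F × F → Sp, (∀ a, t a ∈ Q v) ∧ ∀ a b, (t a)⁻¹ * t b * s = s * ((t a)⁻¹ * t b) → a = b := by
  classical
  by_cases heig : ∃ lam : F, op m F s v = lam • v
  · obtain ⟨lam, hl⟩ := heig
    have hpow : ∀ n : ℕ, ((op m F s) ^ n) v = lam ^ n • v := by
      intro n
      induction n with
      | zero => simp only [_root_.pow_zero, _root_.Module.End.one_apply, _root_.one_smul]
      | succ n ih => rw [pow_succ', Module.End.mul_apply, ih, map_smul, hl, smul_smul, pow_succ]
    have hlN : lam ^ N = 1 := by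
      have h1 := hpow N
      rw [← map_pow, hs, map_one, Module.End.one_apply] at h1
      have h2 : (lam ^ N - 1) • v = 0 := by rw [sub_smul, ← h1, one_smul, sub_self]
      rcases smul_eq_zero.1 h2 with h3 | h3
      · exact sub_eq_zero.1 h3
      · exact absurd h3 hv
    have hN0 : N ≠ 0 := by rintro rfl; exact hN (by simp)
    have hl0 : lam ≠ 0 := by
      rintro rfl
      rw [zero_pow hN0] at hlN
      exact zero_ne_one hlN
    by_cases hl2 : lam ^ 2 = 1
    · -- eigenvalue `±1`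
      have hli : lam⁻¹ = lam := by
        exact inv_eq_of_mul_eq_one_left (by rw [← sq, hl2])
      set! D : V →ₗ[F] V := op m F s - lam • 1 with hD
      have hDa : ∀ x, D x = op m F s x - lam • x := fun _ => rfl
      -- the kernel and the image meet trivially
      have hdisj : ∀ z, D (D z) = 0 → D z = 0 := by
        intro z hz
        set y := D z with hy
        have hsz : op m F s z = lam • z + y := by rw [hy, hDa]; module
        have hsy : op m F s y = lam • y := by
          rw [hDa] at hz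
          exact sub_eq_zero.1 hz
        have h1 : ∀ n : ℕ, ((op m F s) ^ n) z = lam ^ n • z + ((n : F) * lam ^ (n - 1)) • y := by
          intro n
          induction n with
          | zero => simp only [_root_.pow_zero, _root_.Module.End.one_apply, _root_.one_smul, _root_.Nat.cast_zero, _root_.zero_tsub, _root_.mul_one, _root_.zero_smul, _root_.add_zero]
          | succ n ih =>
            rw [pow_succ', Module.End.mul_apply, ih, map_add, map_smul, map_smul, hsz, hsy]
            rcases Nat.eq_zero_or_pos n with h0 | h0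
            · subst h0; simp only [_root_.pow_zero, _root_.smul_add, _root_.one_smul, _root_.Nat.cast_zero, _root_.zero_tsub, _root_.mul_one, _root_.zero_smul, _root_.add_zero, _root_.zero_add, _root_.pow_one, _root_.Nat.cast_one, _root_.tsub_self]
            · obtain ⟨j, rfl⟩ : ∃ j, n = j + 1 := ⟨n - 1, by omega⟩
              simp only [Nat.add_sub_cancel]
              push_cast
              module
        have h2 := h1 N
        rw [← map_pow, hs, map_one, Module.End.one_apply, hlN, one_smul, left_eq_add] at h2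
        rcases smul_eq_zero.1 h2 with h3 | h3
        · exfalso
          rcases mul_eq_zero.1 h3 with h4 | h4
          · exact hN h4
          · exact pow_ne_zero _ hl0 h4
        · exact h3
      have hne : ∃ z, D z ≠ 0 := by
        by_contra hcon
        push Not at hcon
        refine hs1 lam (fun x => ?_) hl2
        have := hcon x
        rw [hDa] at this
        exact sub_eq_zero.1 this
      -- orthogonality
      have horth : ∀ x z, D x = 0 → ff x (D z) = 0 := by
        intro x z hx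
        have h1 : op m F s x = lam • x := by
          rw [hDa] at hx
          exact sub_eq_zero.1 hx
        have h2 := form_s (s := s) x z
        rw [h1, sympForm_smul_left] at h2
        rw [hDa, sympForm_sub_right, sympForm_smul_right, ← h2, ← mul_assoc, ← sq, hl2, one_mul, sub_self]
      have hcomp : ∀ x, ∃ z e, D e = 0 ∧ x = D z + e := by
        intro x
        have h1 : Disjoint (LinearMap.ker D) (LinearMap.range D) := by
          rw [Submodule.disjoint_def]
          rintro y hy ⟨z, rfl⟩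
          exact hdisj z (LinearMap.mem_ker.1 hy)
        have h2 : LinearMap.range D ⊔ LinearMap.ker D = ⊤ := by
          apply Submodule.eq_top_of_disjoint _ _ _ h1.symm
          rw [LinearMap.finrank_range_add_finrank_ker]
        obtain ⟨y, ⟨z, rfl⟩, e, he, rfl⟩ := Submodule.mem_sup.1 (h2 ▸ Submodule.mem_top : x ∈ LinearMap.range D ⊔ LinearMap.ker D)
        exact ⟨z, e, LinearMap.mem_ker.1 he, rfl⟩
      obtain ⟨z₁, hz₁⟩ := hne
      obtain ⟨x₂, hx₂⟩ : ∃ y, ff y (D z₁) ≠ 0 := by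
        by_contra hcon
        push Not at hcon
        exact hz₁ (eq_zero_of_forall_sympForm_left hcon)
      obtain ⟨z₂, e, he, rfl⟩ := hcomp x₂
      have h12 : ff (D z₂) (D z₁) ≠ 0 := by
        rwa [sympForm_add_left, horth e z₁ he, add_zero] at hx₂
      have hDv : D v = 0 := by rw [hDa, hl, sub_self]
      have hperp : ∀ a b : F, ff v (a • D z₁ + b • D z₂) = 0 := by
        intro a b
        rw [sympForm_add_right, sympForm_smul_right, sympForm_smul_right, horth v z₁ hDv, horth v z₂ hDv]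
        ring
      refine ⟨fun ab => qe v (ab.1 • D z₁ + ab.2 • D z₂) 0 (hperp _ _), fun ab => ⟨_, _, _, rfl⟩, ?_⟩
      rintro ⟨a, b⟩ ⟨a', b'⟩ hc
      rw [qe_inv_mul] at hc
      obtain ⟨⟨k, hk⟩, -⟩ := case_eig hl0 hl hv hc
      rw [hli] at hk
      simp only at hk
      set! y := -(a • D z₁ + b • D z₂) + (a' • D z₁ + b' • D z₂) with hy; rewrite [← hy] at hk
      have h1 : D (D ((a' - a) • z₁ + (b' - b) • z₂)) = k • v := by
        rw [← hk, hDa (D _)]
        have h2 : D ((a' - a) • z₁ + (b' - b) • z₂) = y := by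
          rw [map_add, map_smul, map_smul, hy]; module
        rw [h2]
      have h3 : D (D (D ((a' - a) • z₁ + (b' - b) • z₂))) = 0 := by rw [h1, map_smul, hDv, smul_zero]
      have h4 := hdisj _ h3
      have h5 := hdisj _ h4
      rw [map_add, map_smul, map_smul] at h5
      have h6 : ff ((a' - a) • D z₁ + (b' - b) • D z₂) (D z₁) = 0 := by rw [h5]; simp
      rw [sympForm_add_left, sympForm_smul_left, sympForm_smul_left, sympForm_self, mul_zero, zero_add] at h6
      have hb : b' - b = 0 := (mul_eq_zero.1 h6).resolve_right h12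
      rw [hb, zero_smul, add_zero] at h5
      have ha : a' - a = 0 := (smul_eq_zero.1 h5).resolve_right hz₁
      rw [sub_eq_zero] at ha hb
      rw [ha, hb]
    · -- eigenvalue with `lam ^ 2 ≠ 1`
      obtain ⟨u₀, hu₀, hn⟩ : ∃ u₀, ff v u₀ = 0 ∧ ∀ a : F, op m F s u₀ - lam⁻¹ • u₀ ≠ a • v := by
        by_contra hcon
        push Not at hcon
        -- `s = lam⁻¹` on `v^⊥ / v`
        obtain ⟨u, u', hu, hu', huu⟩ : ∃ u u', ff v u = 0 ∧ ff v u' = 0 ∧ ff u u' ≠ 0 := by
          by_contra hcon2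
          push Not at hcon2
          -- `v^⊥` totally isotropic, of dimension `≥ 2 m - 1 > m`
          obtain ⟨y, hy⟩ : ∃ y, ff v y ≠ 0 := by
            by_contra hcon3
            push Not at hcon3
            exact hv (eq_zero_of_forall_sympForm_right hcon3)
          have h1 : ∀ u, ff v u = 0 → ∃ a : F, u = a • v := by
            intro u hu
            refine ⟨ff u y * (ff v y)⁻¹, ?_⟩
            rw [← sub_eq_zero]
            apply eq_zero_of_forall_sympForm_right
            intro w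
            have h2 : w = (w - (ff v w * (ff v y)⁻¹) • y) + (ff v w * (ff v y)⁻¹) • y := by module
            have h3 : ff v (w - (ff v w * (ff v y)⁻¹) • y) = 0 := by
              rw [sympForm_sub_right, sympForm_smul_right, mul_assoc, inv_mul_cancel₀ hy, mul_one, sub_self]
            have h4 : ff (u - (ff u y * (ff v y)⁻¹) • v) (w - (ff v w * (ff v y)⁻¹) • y) = 0 := by
              rw [sympForm_sub_left, sympForm_smul_left, hcon2 u _ hu h3, h3]; ring
            have h5 : ff (u - (ff u y * (ff v y)⁻¹) • v) y = 0 := by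
              rw [sympForm_sub_left, sympForm_smul_left, mul_assoc, inv_mul_cancel₀ hy, mul_one, sub_self]
            rw [h2, sympForm_add_right, h4, sympForm_smul_right, h5]; ring
          -- dimension
          have h2 : finrank F (LinearMap.ker (sympBilin m F v)) + 1 ≥ 2 * m := by
            have h3 := LinearMap.finrank_range_add_finrank_ker (sympBilin m F v)
            rw [finrank_V] at h3
            have h4 : finrank F (LinearMap.range (sympBilin m F v)) ≤ 1 := by
              have := Submodule.finrank_le (LinearMap.range (sympBilin m F v))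
              rwa [Module.finrank_self] at this
            omega
          have h3 : LinearMap.ker (sympBilin m F v) ≤ Submodule.span F {v} := by
            intro u hu
            obtain ⟨a, rfl⟩ := h1 u (LinearMap.mem_ker.1 hu)
            exact Submodule.smul_mem _ _ (Submodule.mem_span_singleton_self v)
          have h4 := Submodule.finrank_mono h3
          rw [finrank_span_singleton hv] at h4
          omega
        obtain ⟨a, ha⟩ := hcon u hu
        obtain ⟨b, hb⟩ := hcon u' hu'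
        have h1 := form_s (s := s) u u'
        rw [sub_eq_iff_eq_add.1 ha, sub_eq_iff_eq_add.1 hb] at h1
        simp only [sympForm_add_left, sympForm_add_right, sympForm_smul_left, sympForm_smul_right, sympForm_self, hu',
          swap0 hu] at h1
        have h2 : (lam⁻¹ ^ 2 - 1) * ff u u' = 0 := by linear_combination h1
        rcases mul_eq_zero.1 h2 with h3 | h3
        · apply hl2
          have h4 : lam⁻¹ ^ 2 = 1 := by linear_combination h3
          rw [inv_pow, inv_eq_one] at h4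
          exact h4
        · exact huu h3
      have hperp : ∀ a : F, ff v (a • u₀) = 0 := fun a => by rw [sympForm_smul_right, hu₀, mul_zero]
      refine ⟨fun ab => qe v (ab.1 • u₀) ab.2 (hperp _), fun ab => ⟨_, _, _, rfl⟩, ?_⟩
      rintro ⟨a, b⟩ ⟨a', b'⟩ hc
      rw [qe_inv_mul] at hc
      obtain ⟨⟨k, hk⟩, hk2⟩ := case_eig hl0 hl hv hc
      simp only at hk hk2
      have ha : a = a' := by
        by_contra hne
        apply hn ((a' - a)⁻¹ * k)
        have h1 : (-(a • u₀) + a' • u₀ : V) = (a' - a) • u₀ := by module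
        rw [h1, map_smul] at hk
        have h2 : (a' - a) • (op m F s u₀ - lam⁻¹ • u₀) = k • v := by rw [← hk]; module
        rw [mul_smul, ← h2, smul_smul, inv_mul_cancel₀ (sub_ne_zero.2 (Ne.symm hne)), one_smul]
      subst ha
      have h1 : (-(a • u₀) + a • u₀ : V) = 0 := by module
      have h2 := hk2 h1
      rw [sympForm_neg_right, sympForm_self, neg_zero, add_zero] at h2
      have h3 : -b + b' = 0 := (mul_eq_zero.1 h2).resolve_right (sub_ne_zero.2 hl2)
      have h4 : b = b' := by linear_combination -h3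
      rw [h4]
  · -- `v` not an eigenvector
    push Not at heig
    set w := op m F s v with hw
    obtain ⟨u₀, hu₀, hn⟩ : ∃ u₀, ff v u₀ = 0 ∧ ∀ a b : F, u₀ ≠ a • v + b • w := by
      by_contra hcon
      push Not at hcon
      have h2 : finrank F (LinearMap.ker (sympBilin m F v)) + 1 ≥ 2 * m := by
        have h3 := LinearMap.finrank_range_add_finrank_ker (sympBilin m F v)
        rw [finrank_V] at h3
        have h4 : finrank F (LinearMap.range (sympBilin m F v)) ≤ 1 := by
          have := Submodule.finrank_le (LinearMap.range (sympBilin m F v))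
          rwa [Module.finrank_self] at this
        omega
      have h3 : LinearMap.ker (sympBilin m F v) ≤ Submodule.span F {v, w} := by
        intro u hu
        obtain ⟨a, b, rfl⟩ := hcon u (LinearMap.mem_ker.1 hu)
        exact Submodule.add_mem _ (Submodule.smul_mem _ _ (Submodule.subset_span (by simp)))
          (Submodule.smul_mem _ _ (Submodule.subset_span (by simp)))
      have h4 := Submodule.finrank_mono h3
      have h5 : finrank F (Submodule.span F ({v, w} : Set V)) ≤ 2 := by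
        have := finrank_span_finset_le_card (R := F) ({v, w} : Finset V)
        have h6 : (({v, w} : Finset V)).card ≤ 2 := Finset.card_le_two
        have h7 : ((({v, w} : Finset V)) : Set V) = {v, w} := by simp
        rw [h7] at this
        exact this.trans h6
      omega
    have hperp : ∀ a : F, ff v (a • u₀) = 0 := fun a => by rw [sympForm_smul_right, hu₀, mul_zero]
    refine ⟨fun ab => qe v (ab.1 • u₀) ab.2 (hperp _), fun ab => ⟨_, _, _, rfl⟩, ?_⟩
    rintro ⟨a, b⟩ ⟨a', b'⟩ hc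
    rw [qe_inv_mul] at hc
    have h1 : (-(a • u₀) + a' • u₀ : V) = (a' - a) • u₀ := by module
    obtain ⟨h2, h3⟩ := case_one hw.symm heig hv hc (by
      intro k l
      simp only
      rw [h1]
      by_cases ha : a' - a = 0
      · right; rw [ha, zero_smul]
      · left
        intro h4
        apply hn ((a' - a)⁻¹ * k) ((a' - a)⁻¹ * l)
        rw [mul_smul, mul_smul, ← smul_add, ← h4, smul_smul, inv_mul_cancel₀ ha, one_smul])
    simp only at h2 h3
    rw [h1] at h2
    have hu0 : u₀ ≠ 0 := by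
      rintro rfl
      exact hn 0 0 (by simp)
    have ha : a' - a = 0 := (smul_eq_zero.1 h2).resolve_right hu0
    rw [sub_eq_zero] at ha
    subst ha
    rw [sympForm_neg_right, sympForm_self, neg_zero, add_zero] at h3
    have h4 : b = b' := by linear_combination -h3
    rw [h4]

end Cfsg.Agent.H767.PD
end

-- part: H767/PD/Cent
section
/-!
# Orders of centralizers in `PSp_2m(q)` (helper767, S4246 row PSp)

* `card_cent_dvd` : `|C(π s)|` divides `|C(s)|` for a central quotient `π`;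
* `v_cent_le` : `v_p |C(s)| + 2 f ≤ m² f`.
-/

set_option autoImplicit false
set_option linter.unusedSectionVars false

namespace Cfsg.Agent.H767.PD

open Cfsg Module Matrix Subgroup Cfsg.Agent.H458.SpOp
open Cfsg.Agent.ClassicalGeometry.SympBasic Cfsg.Agent.ClassicalGeometry.SympAutSemi
open Cfsg.Agent.H160.PD (v)

section Quot

variable {G K : Type*} [Group G] [Group K] [Finite G] (π : G →* K) (hπ : Function.Surjective π)
  (hZ : π.ker ≤ center G)

include hπ hZ in
/-- **Centralizers in a central quotient.** -/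
theorem card_cent_dvd (s : G) : Nat.card (centralizer {π s}) ∣ Nat.card (centralizer {s}) := by
  set! N := (centralizer {π s}).comap π with hN
  have hker : π.ker ≤ N := by
    intro g hg
    rw [hN, mem_comap, MonoidHom.mem_ker.1 hg]
    exact one_mem _
  have h1 : Nat.card N = Nat.card (centralizer {π s}) * Nat.card π.ker := by
    have h2 : (N.map π) = centralizer {π s} := map_comap_eq_self_of_surjective hπ _
    have h3 : Nat.card (N.map π) * Nat.card π.ker = Nat.card N := by
      have h4 := card_mul_index (π.ker.subgroupOf N)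
      have h5 : (π.ker.subgroupOf N).index = Nat.card (N.map π) := by
        have h6 : π.ker.subgroupOf N = (π.comp N.subtype).ker := by
          ext g
          rw [mem_subgroupOf, MonoidHom.mem_ker, MonoidHom.mem_ker, MonoidHom.comp_apply, Subgroup.subtype_apply]
        rw [h6, Subgroup.index_ker, MonoidHom.range_comp, N.range_subtype]
      have h7 : Nat.card (π.ker.subgroupOf N) = Nat.card π.ker :=
        Nat.card_congr (subgroupOfEquivOfLe hker).toEquiv
      rw [h5, h7] at h4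
      rw [mul_comm]
      exact h4
    rw [h2] at h3
    exact h3.symm
  let φ : N →* π.ker :=
    { toFun := fun g => ⟨(g : G) * s * (g : G)⁻¹ * s⁻¹, by
        rw [MonoidHom.mem_ker, map_mul, map_mul, map_mul, map_inv, map_inv]
        have h2 : π (g : G) ∈ centralizer {π s} := g.2
        rw [mem_centralizer_singleton_iff] at h2
        rw [h2, mul_inv_cancel_right, mul_inv_cancel]⟩
      map_one' := Subtype.ext (by simp only [_root_.OneMemClass.coe_one, _root_.one_mul, _root_.inv_one, _root_.mul_one, _root_.mul_inv_cancel])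
      map_mul' := fun g h => by
        apply Subtype.ext
        have h3 : (h : G) * s * (h : G)⁻¹ * s⁻¹ ∈ center G := by
          apply hZ
          rw [MonoidHom.mem_ker, map_mul, map_mul, map_mul, map_inv, map_inv]
          have h2 : π (h : G) ∈ centralizer {π s} := h.2
          rw [mem_centralizer_singleton_iff] at h2
          rw [h2, mul_inv_cancel_right, mul_inv_cancel]
        have h4 := mem_center_iff.1 h3 (g : G)
        change (g : G) * h * s * ((g : G) * h)⁻¹ * s⁻¹ =
          ((g : G) * s * (g : G)⁻¹ * s⁻¹) * ((h : G) * s * (h : G)⁻¹ * s⁻¹)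
        have h5 := mem_center_iff.1 h3 ((g : G) * s * (g : G)⁻¹ * s⁻¹)
        rw [h5]
        calc (g : G) * h * s * ((g : G) * h)⁻¹ * s⁻¹
            = (g : G) * ((h : G) * s * (h : G)⁻¹ * s⁻¹) * (s * (g : G)⁻¹ * s⁻¹) := by group
          _ = ((h : G) * s * (h : G)⁻¹ * s⁻¹) * (g : G) * (s * (g : G)⁻¹ * s⁻¹) := by rw [h4]
          _ = _ := by group }
  have hle : centralizer {s} ≤ N := by
    intro g hg
    rw [hN, mem_comap, mem_centralizer_singleton_iff, ← map_mul, ← map_mul, mem_centralizer_singleton_iff.1 hg]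
  have h2 : φ.ker = (centralizer {s}).subgroupOf N := by
    ext g
    rw [MonoidHom.mem_ker, mem_subgroupOf, mem_centralizer_singleton_iff]
    constructor
    · intro h
      have h3 : (g : G) * s * (g : G)⁻¹ * s⁻¹ = 1 := congrArg Subtype.val h
      rw [mul_inv_eq_one, mul_inv_eq_iff_eq_mul] at h3
      exact h3
    · intro h
      apply Subtype.ext
      change (g : G) * s * (g : G)⁻¹ * s⁻¹ = 1
      rw [mul_inv_eq_one, mul_inv_eq_iff_eq_mul]
      exact h
  have h3 : Nat.card φ.ker = Nat.card (centralizer {s}) := by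
    rw [h2]
    exact Nat.card_congr (subgroupOfEquivOfLe hle).toEquiv
  have h4 : Nat.card N = Nat.card φ.ker * Nat.card φ.range := by
    rw [← card_mul_index φ.ker, Subgroup.index_ker]
  obtain ⟨k, hk⟩ := card_subgroup_dvd_card φ.range
  rw [h1, h3, hk] at h4
  refine ⟨k, ?_⟩
  have h5 : 0 < Nat.card φ.range := Nat.card_pos
  have h6 : Nat.card φ.range * (Nat.card (centralizer {π s}) * k) = Nat.card φ.range * Nat.card (centralizer {s}) := by
    rw [mul_comm (Nat.card φ.range) (Nat.card (centralizer {s})), ← h4]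
    ring
  exact (Nat.eq_of_mul_eq_mul_left h5 h6).symm

end Quot

variable {m : ℕ} {F : Type} [Field F] [Fintype F]

local notation "VV" => (Fin m ⊕ Fin m → F)
local notation "Sp" => Matrix.symplecticGroup (Fin m) F

/-- the `p`-part of `|Sp_2m(q)|` -/
theorem v_sp {p f : ℕ} (hp : p.Prime) (hF : Fintype.card F = p ^ f) : v p Sp = m ^ 2 * f := by
  have hf : f ≠ 0 := by
    rintro rfl
    rw [pow_zero] at hF
    have := Fintype.one_lt_card (α := F)
    omega
  have h1 : ∀ i ∈ Finset.range m, Fintype.card F ^ (2 * (i + 1)) - 1 ≠ 0 := by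
    intro i _
    have : 1 < Fintype.card F ^ (2 * (i + 1)) := Nat.one_lt_pow (by omega) Fintype.one_lt_card
    omega
  rw [v, LieClassical.SympCount.card_symplecticGroup, Nat.factorization_mul (pow_ne_zero _ Fintype.card_pos.ne')
    (Finset.prod_ne_zero_iff.2 h1), Finsupp.add_apply, hF, ← pow_mul, Nat.factorization_pow, Finsupp.smul_apply,
    hp.factorization_self, smul_eq_mul, mul_one]
  have h2 : (∏ i ∈ Finset.range m, ((p ^ f) ^ (2 * (i + 1)) - 1)).factorization p = 0 := by
    apply Nat.factorization_eq_zero_of_not_dvd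
    rw [hp.prime.dvd_finset_prod_iff]
    rintro ⟨i, -, hi⟩
    have h3 : p ∣ (p ^ f) ^ (2 * (i + 1)) := by
      rw [← pow_mul]
      exact dvd_pow_self p (Nat.mul_ne_zero hf (by omega))
    have h4 : 1 ≤ (p ^ f) ^ (2 * (i + 1)) := Nat.one_le_pow _ _ (pow_pos hp.pos _)
    have h5 : (p ^ f) ^ (2 * (i + 1)) = (p ^ f) ^ (2 * (i + 1)) - 1 + 1 := by omega
    rw [h5] at h3
    exact hp.one_lt.ne' (Nat.dvd_one.1 ((Nat.dvd_add_right hi).1 h3))
  rw [h2, add_zero, mul_comm]

theorem charP_of_card {p f : ℕ} (hp : p.Prime) (hF : Fintype.card F = p ^ f) : CharP F p := by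
  obtain ⟨q, hq⟩ := CharP.exists F
  obtain ⟨n, hqp, hn⟩ := FiniteField.card F q
  have : q ∣ p ^ f := by
    rw [← hF, hn]
    exact dvd_pow_self q n.pos.ne'
  have hqp' : q = p := (Nat.prime_dvd_prime_iff_eq hqp hp).1 (hqp.dvd_of_dvd_pow this)
  rwa [← hqp']

/-- a `p`-subgroup of `Sp_2m(q)` has order at most `q ^ m²` -/
theorem card_pgroup_le {p f : ℕ} (hp : p.Prime) (hF : Fintype.card F = p ^ f) {H : Subgroup Sp} (hH : IsPGroup p H) :
    Nat.card H ≤ p ^ (m ^ 2 * f) := by
  haveI : Fact p.Prime := ⟨hp⟩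
  obtain ⟨k, hk⟩ := IsPGroup.iff_card.1 hH
  have h1 : p ^ k ∣ Nat.card Sp := hk ▸ card_subgroup_dvd_card H
  have h2 := (hp.pow_dvd_iff_le_factorization Nat.card_pos.ne').1 h1
  have h3 := v_sp (m := m) hp hF
  rw [v] at h3
  rw [hk]
  exact Nat.pow_le_pow_right hp.pos (by omega)

/-- **The `p`-part of the centralizer of a noncentral `p'`-element.** -/
theorem v_cent_le (hm : 2 ≤ m) {p f : ℕ} (hp : p.Prime) (hF : Fintype.card F = p ^ f) {s : Sp} {N : ℕ}
    (hN : ¬ p ∣ N) (hs : s ^ N = 1) (hs1 : ∀ lam : F, (∀ x, op m F s x = lam • x) → lam ^ 2 ≠ 1) :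
    v p (centralizer {s}) + 2 * f ≤ m ^ 2 * f := by
  classical
  haveI : Fact p.Prime := ⟨hp⟩
  haveI := charP_of_card hp hF
  have hpF : (p : F) = 0 := CharP.cast_eq_zero F p
  obtain ⟨P₀⟩ := (inferInstance : Nonempty (Sylow p (centralizer {s})))
  set! P : Subgroup Sp := ((P₀ : Subgroup (centralizer {s})).map (centralizer {s}).subtype :) with hP
  have hPZ : P ≤ centralizer {s} := by
    rw [hP]
    exact map_subtype_le _
  have hPp : IsPGroup p P := P₀.isPGroup'.map _
  have hPc : Nat.card P = p ^ v p (centralizer {s}) := by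
    rw [hP, ← Sylow.card_eq_multiplicity P₀]
    exact (Nat.card_congr (((P₀ : Subgroup (centralizer {s})).equivMapOfInjective _ (subtype_injective _)).toEquiv :)).symm
  haveI : Nontrivial (Fin m ⊕ Fin m → F) := by
    haveI : Nonempty (Fin m ⊕ Fin m) := ⟨Sum.inl ⟨0, by omega⟩⟩
    infer_instance
  obtain ⟨w, hw0, hw⟩ := Cfsg.Agent.H458.Zs.exists_fixed (k := F) ((op m F).comp P.subtype) hpF hPp
  have hfix : ∀ g ∈ P, op m F g w = w := fun g hg => hw ⟨g, hg⟩
  obtain ⟨t, ht, hinj⟩ := exists_cosets hm hw0 (N := N) (by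
    intro h0
    exact hN ((CharP.cast_eq_zero_iff F p N).1 h0)) hs hs1
  have hH : IsPGroup p (P ⊔ Q w : Subgroup Sp) :=
    hPp.to_sup_of_normal_right' (isPGroup_Q hpF w) (le_normalizer_Q hfix)
  have h1 := card_mul_le (P := P) (Z := centralizer {s}) (H := P ⊔ Q w) hPZ le_sup_left t
    (fun a => (le_sup_right : Q w ≤ P ⊔ Q w) (ht a)) (fun a b h => hinj a b (mem_centralizer_singleton_iff.1 h))
  have h2 := h1.trans (card_pgroup_le hp hF hH)
  rw [hPc, Nat.card_prod, Nat.card_eq_fintype_card, hF, ← pow_add, ← pow_add] at h2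
  have h3 := (Nat.pow_le_pow_iff_right hp.one_lt).1 h2
  omega

/-- the scalar elements of `Sp` -/
theorem not_scalar_of_order {s : Sp} (hs1 : s ≠ 1) {t : ℕ} (ht : Odd t) (hs : s ^ t = 1) (hm : 1 ≤ m) :
    ∀ lam : F, (∀ x, op m F s x = lam • x) → lam ^ 2 ≠ 1 := by
  intro lam hl h2
  apply hs1
  have hp : ∀ n : ℕ, ∀ x, ((op m F s) ^ n) x = lam ^ n • x := by
    intro n
    induction n with
    | zero => intro x; simp only [_root_.pow_zero, _root_.Module.End.one_apply, _root_.one_smul]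
    | succ n ih => intro x; rw [pow_succ', Module.End.mul_apply, ih, map_smul, hl, smul_smul, pow_succ]
  obtain ⟨k, rfl⟩ := ht
  apply eq_of_op
  intro x
  have h3 := hp (2 * k + 1) x
  rw [← map_pow, hs, map_one, pow_succ, pow_mul, h2, one_pow, one_mul] at h3
  rw [hl, map_one, ← h3]

end Cfsg.Agent.H767.PD
end

-- part: H767/PD/Auto
section
/-!
# Automorphisms of odd prime order of `PSp_2m(q)` fixing elements of large order (helper767, S4246 row PSp)
-/

set_option autoImplicit false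
set_option linter.unusedSectionVars false

namespace Cfsg.Agent.H767.PD

open Cfsg Module Matrix Subgroup Cfsg.Agent.H568 Cfsg.Agent.H689 Cfsg.Agent.H458 Cfsg.Agent.H458.Zs
open Cfsg.Agent.H458.SpOp Cfsg.Agent.H458.SpAut
open Cfsg.Agent.ClassicalGeometry.SympBasic Cfsg.Agent.ClassicalGeometry.SympAutSemi
open Cfsg.Agent.ClassicalGeometry.SympGamma
open Cfsg.Agent.H160.PD (v Fx mem_Fx)

theorem Fx_conj {S : Type*} [Group S] (s : S) : Fx (MulAut.conj s) = centralizer {s} := by
  ext x
  rw [mem_Fx, mem_centralizer_singleton_iff, MulAut.conj_apply, mul_inv_eq_iff_eq_mul]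
  exact eq_comm

theorem orderOf_conj {S : Type*} [Group S] (hZ : center S = ⊥) (s : S) : orderOf (MulAut.conj s) = orderOf s :=
  orderOf_injective (MulAut.conj : S →* MulAut S) (H160.PD.conj_injective hZ) s

variable {m : ℕ} {F : Type} [Field F] [Fintype F]

/-- elements of order primitive over the prime field, of large degree, are not fixed by field automorphisms -/
theorem field_not_fixed' {g : semiSim m F} {φ : F ≃+* F} {c : F} (hs : IsSemi g.1 φ c)
    (hφ : φ ≠ RingEquiv.refl F) {r f l D : ℕ} [Fact r.Prime] (hF : Fintype.card F = r ^ f) (hm : 1 ≤ m)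
    (hppd : Ppd r D l) (hD0 : 0 < D) (hD : 2 * m * f < 2 * D) (hl2 : l ≠ 2) (y : PSp m F) (hy : orderOf y = l) :
    Psi m F g y ≠ y := by
  intro hfix
  obtain ⟨x, rfl, hx⟩ := exists_lift hm hppd.prime hl2 y hy
  have h1 : conjHom m F g x = x := by
    refine Quot.eq_of_map_eq (pr m F) ker_pr.le (coprime_ker hm hppd.prime hl2) (l := l) ?_ ?_ hfix
    · rw [← map_pow, ← hx, pow_orderOf_eq_one, map_one]
    · rw [← hx, pow_orderOf_eq_one]
  have h2 : ∀ v, g.1 (rho m F x v) = rho m F x (g.1 v) := by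
    intro v
    have h3 := rho_conjHom g x
    rw [h1] at h3
    have h4 := DFunLike.congr_fun h3 (g.1 v)
    rw [Equiv.Perm.mul_apply, Equiv.Perm.mul_apply, perm_inv_apply_self] at h4
    exact h4.symm
  -- the characteristic
  have hf : f ≠ 0 := by
    rintro rfl
    rw [pow_zero] at hF
    have := Fintype.one_lt_card (α := F)
    omega
  have hchar : CharP F r := by
    obtain ⟨s, hs⟩ := CharP.exists F
    obtain ⟨n, hsp, hn⟩ := FiniteField.card F s
    have h3 : s ∣ r ^ f := by rw [← hF, hn]; exact dvd_pow_self s n.ne_zero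
    have h4 : s = r := (Nat.prime_dvd_prime_iff_eq hsp Fact.out).1 (hsp.dvd_of_dvd_pow h3)
    rwa [h4] at hs
  let _ : Algebra (ZMod r) F := ZMod.algebra F r
  have hfr : finrank (ZMod r) (Fin m ⊕ Fin m → F) = 2 * m * f := by
    have h3 : Fintype.card (Fin m ⊕ Fin m → F) = Fintype.card (ZMod r) ^ finrank (ZMod r) (Fin m ⊕ Fin m → F) :=
      Module.card_eq_pow_finrank
    rw [Fintype.card_fun, hF, Fintype.card_sum, Fintype.card_fin, ZMod.card, ← pow_mul] at h3
    have h4 := Nat.pow_right_injective (Fact.out : r.Prime).two_le h3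
    rw [← h4]
    ring
  let yy : End (ZMod r) (Fin m ⊕ Fin m → F) := (op m F x).restrictScalars (ZMod r)
  have hyy : ∀ n v, (yy ^ n) v = (op m F (x ^ n)) v := by
    intro n
    induction n with
    | zero => intro v; rw [pow_zero, pow_zero, map_one]; rfl
    | succ n ih =>
      intro v
      rw [pow_succ, pow_succ, map_mul, Module.End.mul_apply, Module.End.mul_apply, ← ih]
      rfl
  have S : Sit yy l D :=
    { pow := by
        refine LinearMap.ext fun v => ?_
        rw [hyy, ← hx, pow_orderOf_eq_one, map_one]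
        rfl
      ne := by
        intro h3
        have h4 : x = 1 := by
          apply SpOp.op_injective
          rw [map_one]
          refine LinearMap.ext fun v => ?_
          exact LinearMap.congr_fun h3 v
        rw [h4, orderOf_one] at hx
        exact hppd.prime.one_lt.ne hx
      ppd := by rw [ZMod.card]; exact hppd
      pos := hD0
      dim := by rw [hfr]; exact hD }
  let s : End (ZMod r) (Fin m ⊕ Fin m → F) := AddMonoidHom.toZModLinearMap r
    { toFun := g.1
      map_zero' := by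
        have h3 := hs.1 0 0
        rw [add_zero] at h3
        exact left_eq_add.1 h3
      map_add' := hs.1 }
  have hsv : ∀ v, s v = g.1 v := fun _ => rfl
  apply hφ
  ext a
  rw [RingEquiv.refl_apply]
  let t : End (ZMod r) (Fin m ⊕ Fin m → F) := AddMonoidHom.toZModLinearMap r
    { toFun := fun v => a • v
      map_zero' := smul_zero a
      map_add' := fun v w => smul_add a v w }
  have htv : ∀ v, t v = a • v := fun _ => rfl
  have hc1 : ∀ v, s (yy v) = yy (s v) := fun v => h2 v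
  have hc2 : ∀ v, t (yy v) = yy (t v) := fun v => by
    rw [htv, htv]
    exact ((op m F x).map_smul a v).symm
  obtain ⟨v, hvW, hv⟩ := S.exists_ne
  have h3 := S.comm_comm hc1 hc2 hvW
  rw [htv, htv, hsv, hsv, hs.2.1] at h3
  have h4 : g.1 v ≠ 0 := by
    intro h5
    apply hv
    apply g.1.injective
    rw [h5]
    have h6 := hs.1 0 0
    rw [add_zero] at h6
    exact (left_eq_add.1 h6).symm
  have h5 : (φ a - a) • g.1 v = 0 := by rw [sub_smul, h3, sub_self]
  rcases smul_eq_zero.1 h5 with h6 | h6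
  · exact sub_eq_zero.1 h6
  · exact absurd h6 h4

variable {p f : ℕ}

/-- **Automorphisms of odd prime order fixing elements of large order are inner.** -/
theorem inner_of_fix (hZ : center (PSp m F) = ⊥) (hm : 2 ≤ m) (h22 : m = 2 → 3 ≤ Fintype.card F) [Fact p.Prime]
    (hF : Fintype.card F = p ^ f) {l D : ℕ} (hppd : Ppd p D l) (hD0 : 0 < D) (hD : 2 * m * f < 2 * D) (hl2 : l ≠ 2)
    {b : MulAut (PSp m F)} (hb : (orderOf b).Prime) (hb2 : orderOf b ≠ 2) {x : PSp m F} (hx : orderOf x = l)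
    (hfix : b x = x) :
    ∃ s y : Matrix.symplecticGroup (Fin m) F, orderOf s = orderOf b ∧ b = MulAut.conj (pr m F s) ∧
      orderOf y = l ∧ pr m F y = x ∧ s * y = y * s := by
  have hodd : Odd (orderOf b) := hb.odd_of_ne_two hb2
  rcases inner_or_field hm h22 hodd (pow_orderOf_eq_one b) with ⟨s', hs'⟩ | ⟨g, φ, c, hc, hs, hφ, hg⟩
  swap
  · exfalso
    rw [← hg] at hfix
    exact field_not_fixed' hs hφ hF (by omega) hppd hD0 hD hl2 x hx hfix
  have hso : orderOf s' = orderOf b := by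
    rw [hs']
    exact (orderOf_conj hZ s').symm
  obtain ⟨s, rfl, hs⟩ := exists_lift (by omega) hb hb2 s' hso
  obtain ⟨y, rfl, hy⟩ := exists_lift (by omega) hppd.prime hl2 x hx
  refine ⟨s, y, hs, hs', hy, rfl, ?_⟩
  rw [hs'] at hfix
  exact Quot.comm_of_conj (pr m F) ker_pr.le (coprime_ker (by omega) hppd.prime hl2)
    (by rw [← hy, pow_orderOf_eq_one]) hfix

/-- the centralizer in `PSp` -/
theorem card_cent_pr (s : Matrix.symplecticGroup (Fin m) F) :
    Nat.card (centralizer {pr m F s}) ∣ Nat.card (centralizer {s}) :=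
  card_cent_dvd (pr m F) surj_pr ker_pr.le s

/-- the fixed points of the inner automorphism -/
theorem v_Fx_le {b : MulAut (PSp m F)} {s : Matrix.symplecticGroup (Fin m) F} (hb : b = MulAut.conj (pr m F s))
    (t : ℕ) : v t (Fx b) ≤ v t (centralizer {s}) := by
  rw [hb, Fx_conj]
  exact (Nat.factorization_le_iff_dvd Nat.card_pos.ne' Nat.card_pos.ne').2 (card_cent_pr s) t

/-- **The `p`-part of the fixed points of inner automorphisms.** -/
theorem v_Fx_inner (hm : 2 ≤ m) (hp : p.Prime) (hF : Fintype.card F = p ^ f) {b : MulAut (PSp m F)}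
    {s : Matrix.symplecticGroup (Fin m) F} (hb : b = MulAut.conj (pr m F s)) (hs : (orderOf s).Prime)
    (hs2 : orderOf s ≠ 2) (hsp : orderOf s ≠ p) : v p (Fx b) + 2 * f ≤ m ^ 2 * f := by
  have h1 := v_cent_le hm hp hF (s := s) (N := orderOf s)
    (fun h => hsp ((Nat.prime_dvd_prime_iff_eq hp hs).1 h).symm) (pow_orderOf_eq_one s)
    (not_scalar_of_order (by rintro rfl; rw [orderOf_one] at hs; exact hs.one_lt.ne rfl)
      (hs.odd_of_ne_two hs2) (pow_orderOf_eq_one s) (by omega))
  have h2 := v_Fx_le hb p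
  omega

end Cfsg.Agent.H767.PD
end

private theorem dce_f64c4795c458 : _root_.True := by
  try have : _root_.True := by simp only [_root_.Cfsg.Agent.H767.PD.qe.congr_simp]
  try have : _root_.True := by simp only [_root_.Cfsg.Agent.H160.PD.v.eq_1]
  exact _root_.True.intro
end

-- part: H767/PD/Out
section
prune_inst 0x20605c00702202000000850680001c628e000000004b8000010003040e8984620900a720a2000010002a00840030002003000000c24000000e000400011900a0908194040100000406008f000000000000000000000000000000000000010004000000000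
set_option linter.all false
open scoped Cfsg.Agent.FastGrp

-- part: H767/PD/Orders
section
/-!
# Centralizers and normalizers of elements of primitive prime order (helper767, S4246 row PSp)

`y ∈ Sp_2m(q)` of order `l`, a primitive prime divisor of `q ^ D - 1`, `D > m`:
* `isCyclic_cent`, `card_cent_zero` : `D = 2 m`: `C(y)` is cyclic of order dividing `q ^ m + 1`;
* `cent_one` : `D = 2 (m - 1)`: `C(y)` has a normal subgroup of order dividing `(q² - 1) (q² - q)`
  with cyclic quotient of order dividing `q ^ (m - 1) + 1`;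
* `norm_comm` : if `g y g⁻¹` is a power of `y` then `g ^ D` commutes with `y`.
-/

set_option autoImplicit false
set_option linter.unusedSectionVars false

namespace Cfsg.Agent.H767.PD

open Cfsg Module Matrix Subgroup Cfsg.Agent.H568 Cfsg.Agent.H689 Cfsg.Agent.H458 Cfsg.Agent.H458.Zs
open Cfsg.Agent.H458.SpOp Cfsg.Agent.H458.SpAut
open Cfsg.Agent.ClassicalGeometry.SympBasic Cfsg.Agent.ClassicalGeometry.SympAutSemi
open Cfsg.Agent.H160.PD (v Fx mem_Fx Uniq mem_zpowers_of_cyclic)

/-! ### the normalizer of `⟨y⟩` -/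

section Norm

variable {k : Type*} [Field k] [Fintype k] {V : Type*} [AddCommGroup V] [Module k V] [FiniteDimensional k V]

/-- a conjugate power of `y` is a power of `y` by a power of `q` -/
theorem exists_frob {y : End k V} {l D : ℕ} (h : Sit y l D) (hD : finrank k V = D) {g g' : End k V}
    (hgg : g' * g = 1) {j : ℕ} (hgy : g * y * g' = y ^ j) : ∃ i : ℕ, y ^ j = y ^ Fintype.card k ^ i := by
  classical
  have htop := h.W_top hD
  have hmt : ∀ v : V, v ∈ W y := fun v => htop ▸ Submodule.mem_top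
  let R : Subalgebra k (End k V) := Subalgebra.centralizer k {y}
  have hR : ∀ a : End k V, a ∈ R ↔ ∀ v, a (y v) = y (a v) := by
    intro a
    rw [Subalgebra.mem_centralizer_iff]
    constructor
    · intro h1 v
      have h2 := h1 y rfl
      exact (LinearMap.congr_fun h2 v).symm
    · rintro h1 _ rfl
      ext v
      exact (h1 v).symm
  let _ : CommRing R :=
    { (inferInstance : Ring R) with
      mul_comm := by
        rintro ⟨a, ha⟩ ⟨b, hb⟩
        apply Subtype.ext
        ext v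
        exact h.comm_comm ((hR a).1 ha) ((hR b).1 hb) (hmt v) }
  have hdom : ∀ a b : R, a * b = 0 → a = 0 ∨ b = 0 := by
    rintro ⟨a, ha⟩ ⟨b, hb⟩ hab
    by_cases hb0 : b = 0
    · right; exact Subtype.ext hb0
    · left
      apply Subtype.ext
      have hab' : a * b = 0 := congrArg Subtype.val hab
      obtain ⟨v, hv⟩ : ∃ v, b v ≠ 0 := by
        by_contra hcon
        push Not at hcon
        exact hb0 (LinearMap.ext hcon)
      ext w
      obtain ⟨f, rfl⟩ := h.cyc (hmt (b v)) hv (hmt w)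
      obtain ⟨g, hg⟩ := h.comm ((hR a).1 ha)
      change a (Polynomial.aeval y f (b v)) = 0
      rw [hg _ (hmt _), ← Module.End.mul_apply, ← map_mul, mul_comm, map_mul, Module.End.mul_apply, ← hg _ (hmt _)]
      have h1 : a (b v) = 0 := LinearMap.congr_fun hab' v
      rw [h1, map_zero]
  have hnt : Nontrivial R := by
    refine ⟨⟨0, 1, ?_⟩⟩
    intro h0
    obtain ⟨v, -, hv⟩ := h.exists_ne
    apply hv
    have h1 : (0 : End k V) = 1 := congrArg Subtype.val h0
    have h2 := LinearMap.congr_fun h1 v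
    simpa using h2.symm
  have hnz : NoZeroDivisors R := ⟨fun {a b} hab => hdom a b hab⟩
  have : IsDomain R := NoZeroDivisors.to_isDomain R
  -- the polynomial
  set μ : Polynomial k := LinearMap.charpoly y with hμ
  have hμm : μ.Monic := LinearMap.charpoly_monic y
  have hμd : μ.natDegree = D := by rw [hμ, LinearMap.charpoly_natDegree, hD]
  have hμ0 : Polynomial.aeval y μ = 0 := LinearMap.aeval_self_charpoly y
  have hyn : ∀ n : ℕ, y ^ n ∈ R := fun n => by
    rw [hR]
    intro v
    rw [← Module.End.mul_apply, ← Module.End.mul_apply, ← pow_succ, ← pow_succ']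
  let a : ℕ → R := fun n => ⟨y ^ n, hyn n⟩
  have hroot : ∀ n, Polynomial.aeval (y ^ n) μ = 0 → a n ∈ μ.aroots R := by
    intro n hn
    rw [Polynomial.mem_aroots]
    refine ⟨hμm.ne_zero, ?_⟩
    apply Subtype.ext
    rw [Polynomial.aeval_subalgebra_coe]
    exact hn
  have hj : a j ∈ μ.aroots R := by
    apply hroot
    have h1 : ∀ f : Polynomial k, Polynomial.aeval (y ^ j) f * g = g * Polynomial.aeval y f := by
      intro f
      induction f using Polynomial.induction_on' with
      | add p q hp hq => rw [map_add, map_add, add_mul, mul_add, hp, hq]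
      | monomial n c =>
        rw [Polynomial.aeval_monomial, Polynomial.aeval_monomial]
        have h2 : ∀ n : ℕ, (y ^ j) ^ n * g = g * y ^ n := by
          intro n
          induction n with
          | zero => simp
          | succ n ih =>
            rw [pow_succ, mul_assoc]
            have h3 : y ^ j * g = g * y := by rw [← hgy, mul_assoc, hgg, mul_one]
            rw [h3, ← mul_assoc, ih, mul_assoc, ← pow_succ]
        rw [mul_assoc, h2, ← mul_assoc, ← mul_assoc, Algebra.commutes]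
    have h2 := h1 μ
    rw [hμ0, mul_zero] at h2
    have hgg' : g * g' = 1 := mul_eq_one_comm.1 hgg
    calc Polynomial.aeval (y ^ j) μ = Polynomial.aeval (y ^ j) μ * (g * g') := by rw [hgg', mul_one]
      _ = (Polynomial.aeval (y ^ j) μ * g) * g' := by rw [mul_assoc]
      _ = 0 := by rw [h2, zero_mul]
  have hi : ∀ i, a (Fintype.card k ^ i) ∈ μ.aroots R := by
    intro i
    apply hroot
    rw [Zs.aeval_pow, hμ0, zero_pow]
    exact pow_ne_zero _ Fintype.card_pos.ne'
  have hinj : Set.InjOn (fun i => a (Fintype.card k ^ i)) ((Finset.range D : Finset ℕ) : Set ℕ) := by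
    have key : ∀ i i' : ℕ, i < i' → i' < D → a (Fintype.card k ^ i) ≠ a (Fintype.card k ^ i') := by
      intro i i' hii hi' he
      have h1 : y ^ Fintype.card k ^ i = y ^ Fintype.card k ^ i' := congrArg Subtype.val he
      -- `y` has order `l`
      have hord : orderOf y = l := by
        haveI := Fact.mk h.ppd.prime
        exact orderOf_eq_prime h.pow h.ne
      have hu : IsUnit y := by
        refine ⟨⟨y, y ^ (l - 1), ?_, ?_⟩, rfl⟩
        · rw [← pow_succ', Nat.sub_add_cancel h.ppd.prime.one_le, h.pow]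
        · rw [← pow_succ, Nat.sub_add_cancel h.ppd.prime.one_le, h.pow]
      have h2 : Fintype.card k ^ i ≡ Fintype.card k ^ i' [MOD l] := by
        obtain ⟨u, hu⟩ := hu
        have h3 : u ^ Fintype.card k ^ i = u ^ Fintype.card k ^ i' := by
          apply Units.ext
          rw [Units.val_pow_eq_pow_val, Units.val_pow_eq_pow_val, hu]
          exact h1
        rw [pow_eq_pow_iff_modEq] at h3
        rw [← orderOf_units, hu, hord] at h3
        exact h3
      have h4 : l ∣ Fintype.card k ^ i' - Fintype.card k ^ i :=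
        (Nat.modEq_iff_dvd' (Nat.pow_le_pow_right Fintype.card_pos hii.le)).1 h2
      have h5 : Fintype.card k ^ i' - Fintype.card k ^ i = Fintype.card k ^ i * (Fintype.card k ^ (i' - i) - 1) := by
        rw [Nat.mul_sub, mul_one, ← pow_add, Nat.add_sub_cancel' hii.le]
      rw [h5] at h4
      rcases h.ppd.prime.dvd_mul.1 h4 with h6 | h6
      · exact h.ppd.not_dvd (h.ppd.prime.dvd_of_dvd_pow h6)
      · rw [h.ppd.iff] at h6
        have := Nat.le_of_dvd (by omega) h6
        omega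
    intro i hi i' hi' he
    rw [Finset.coe_range, Set.mem_Iio] at hi hi'
    rcases lt_trichotomy i i' with h1 | h1 | h1
    · exact absurd he (key i i' h1 hi')
    · exact h1
    · exact absurd he.symm (key i' i h1 hi)
  have hsub : (Finset.range D).image (fun i => a (Fintype.card k ^ i)) ⊆ (μ.aroots R).toFinset := by
    intro z hz
    obtain ⟨i, -, rfl⟩ := Finset.mem_image.1 hz
    rw [Multiset.mem_toFinset]
    exact hi i
  have hcard : (μ.aroots R).toFinset.card ≤ ((Finset.range D).image (fun i => a (Fintype.card k ^ i))).card := by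
    rw [Finset.card_image_of_injOn hinj, Finset.card_range, ← hμd]
    exact (Multiset.toFinset_card_le _).trans ((Polynomial.card_roots' _).trans
      (Polynomial.natDegree_map_le))
  have heq := Finset.eq_of_subset_of_card_le hsub hcard
  have h1 : a j ∈ (Finset.range D).image (fun i => a (Fintype.card k ^ i)) := by
    rw [heq, Multiset.mem_toFinset]
    exact hj
  obtain ⟨i, -, hia⟩ := Finset.mem_image.1 h1
  exact ⟨i, (congrArg Subtype.val hia).symm⟩

/-- **Normalizing elements.** -/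
theorem norm_pow {y : End k V} {l D : ℕ} (h : Sit y l D) (hD : finrank k V = D) {g g' : End k V}
    (hgg : g' * g = 1) {j : ℕ} (hgy : g * y * g' = y ^ j) : g ^ D * y = y * g ^ D := by
  obtain ⟨i, hi⟩ := exists_frob h hD hgg hgy
  have h1 : g * y = y ^ Fintype.card k ^ i * g := by
    rw [← hi, ← hgy, mul_assoc (g * y), hgg, mul_one]
  have h2 : ∀ n : ℕ, g * y ^ n = (y ^ Fintype.card k ^ i) ^ n * g := by
    intro n
    induction n with
    | zero => simp
    | succ n ih => rw [pow_succ, ← mul_assoc, ih, mul_assoc, h1, ← mul_assoc, ← pow_succ]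
  have h3 : ∀ n : ℕ, g ^ n * y = y ^ Fintype.card k ^ (i * n) * g ^ n := by
    intro n
    induction n with
    | zero => simp
    | succ n ih =>
      rw [pow_succ', mul_assoc, ih, ← mul_assoc, h2, mul_assoc, ← pow_mul, ← pow_add,
        show i + i * n = i * (n + 1) by ring]
  rw [h3]
  congr 1
  have h4 : l ∣ Fintype.card k ^ (i * D) - 1 := (h.ppd.iff _).2 (dvd_mul_left _ _)
  obtain ⟨c, hc⟩ := h4
  have h5 : Fintype.card k ^ (i * D) = l * c + 1 := by
    have : 1 ≤ Fintype.card k ^ (i * D) := Nat.one_le_pow _ _ Fintype.card_pos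
    omega
  rw [h5, pow_succ, pow_mul, h.pow, one_pow, one_mul]

theorem norm_pow' {y : End k V} {l D : ℕ} (h : Sit y l D) (hD : finrank k V = D) {g : End k V}
    (hg : Function.Injective g) {j : ℕ} (hgy : g * y = y ^ j * g) : g ^ D * y = y * g ^ D := by
  obtain ⟨g', hg'⟩ := LinearMap.exists_leftInverse_of_injective g (LinearMap.ker_eq_bot.2 hg)
  have h1 : g' * g = 1 := hg'
  refine norm_pow h hD h1 (j := j) ?_
  rw [hgy, mul_assoc, mul_eq_one_comm.1 h1, mul_one]

/-- restriction to the commutator space -/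
theorem sit_restrict {y : End k V} {l D : ℕ} (h : Sit y l D) :
    Sit (y.restrict (fun w (hw : w ∈ W y) => W_self hw)) l D where
  pow := by
    refine LinearMap.ext fun w => Subtype.ext ?_
    rw [Module.End.pow_restrict]
    change (y ^ l) (w : V) = w
    rw [h.pow, Module.End.one_apply]
  ne := by
    intro h0
    obtain ⟨w, hw, hw0⟩ := h.exists_ne
    apply hw0
    apply h.disj hw
    have h1 := LinearMap.congr_fun h0 ⟨w, hw⟩
    exact congrArg Subtype.val h1
  ppd := h.ppd
  pos := h.pos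
  dim := by
    rw [h.finrank_W]
    have := h.pos
    omega

end Norm

variable {m : ℕ} {F : Type} [Field F] [Fintype F]

local notation "Sp" => Matrix.symplecticGroup (Fin m) F

theorem op_pow_sub {y : End F (Fin m ⊕ Fin m → F)} (n : ℕ) (v : Fin m ⊕ Fin m → F) : (y ^ n) v - v ∈ W y := by
  induction n with
  | zero => rw [pow_zero, Module.End.one_apply, sub_self]; exact zero_mem _
  | succ n ih =>
    have h1 : (y ^ (n + 1)) v - v = (y ((y ^ n) v) - (y ^ n) v) + ((y ^ n) v - v) := by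
      rw [pow_succ', Module.End.mul_apply]; abel
    rw [h1]
    exact add_mem (mem_W.2 ⟨_, rfl⟩) ih

theorem op_injective' (g : Sp) : Function.Injective (op m F g) := by
  intro a b h
  have h1 := congrArg (op m F g⁻¹) h
  rwa [← Module.End.mul_apply, ← Module.End.mul_apply, ← map_mul, inv_mul_cancel, map_one] at h1

/-- **The normalizer of `⟨y⟩` in `Sp`.** -/
theorem norm_comm {y g : Sp} {l D : ℕ} (hy : orderOf y = l) (hppd : Ppd (Fintype.card F) D l) (hD0 : 0 < D)
    (hD : 2 * m < 2 * D) {j : ℕ} (hgy : g * y * g⁻¹ = y ^ j) : g ^ D * y = y * g ^ D := by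
  have S := sit hy hppd hD0 hD
  have hgy' : g * y = y ^ j * g := by rw [← hgy]; group
  have hGY : ∀ v, op m F g (op m F y v) = ((op m F y) ^ j) (op m F g v) := by
    intro v
    rw [← map_pow, ← Module.End.mul_apply, ← Module.End.mul_apply, ← map_mul, ← map_mul, hgy']
  have hGW : ∀ w ∈ W (op m F y), op m F g w ∈ W (op m F y) := by
    intro w hw
    obtain ⟨u, rfl⟩ := mem_W.1 hw
    rw [map_sub, hGY]
    exact op_pow_sub j _
  have hcop : j.Coprime (orderOf y) := by
    rw [hy]
    apply Nat.Coprime.symm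
    rw [hppd.prime.coprime_iff_not_dvd]
    intro h1
    have h2 : y ^ j = 1 := by rw [← orderOf_dvd_iff_pow_eq_one, hy]; exact h1
    rw [h2, mul_inv_eq_one, mul_eq_left] at hgy
    rw [hgy, orderOf_one] at hy
    exact hppd.prime.one_lt.ne hy
  obtain ⟨i, hi⟩ := exists_pow_eq_self_of_coprime hcop
  have hfix : ∀ v, ((op m F y) ^ j) v = v → op m F y v = v := by
    intro v hv
    have h1 : ∀ n, (((op m F y) ^ j) ^ n) v = v := by
      intro n
      induction n with
      | zero => rfl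
      | succ n ih => rw [pow_succ, Module.End.mul_apply, hv, ih]
    have h2 := h1 i
    rwa [← map_pow, ← map_pow, hi] at h2
  have hGC : ∀ c ∈ C (op m F y), op m F g c ∈ C (op m F y) := by
    intro c hc
    rw [mem_C] at hc ⊢
    apply hfix
    rw [← hGY, hc]
  -- on `W`
  set YW := (op m F y).restrict (fun w (hw : w ∈ W (op m F y)) => W_self hw) with hYW
  set GW := (op m F g).restrict hGW with hGW'
  have hinj : Function.Injective GW := by
    intro a b hab
    exact Subtype.ext (op_injective' g (congrArg Subtype.val hab))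
  have h1 : GW * YW = YW ^ j * GW := by
    refine LinearMap.ext fun w => Subtype.ext ?_
    rw [hYW, Module.End.pow_restrict]
    exact hGY w
  have h2 := norm_pow' (sit_restrict S) S.finrank_W hinj h1
  apply SpOp.op_injective
  refine LinearMap.ext fun v => ?_
  obtain ⟨w, hw, c, hc, rfl⟩ := S.decomp v
  rw [map_mul, map_mul, Module.End.mul_apply, Module.End.mul_apply, map_add, map_add, map_add, map_add]
  congr 1
  · have h3 := LinearMap.congr_fun h2 ⟨w, hw⟩
    have h4 := congrArg Subtype.val h3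
    rw [hGW', Module.End.pow_restrict] at h4
    rw [map_pow]
    exact h4
  · rw [mem_C.1 hc]
    have h3 : ∀ n : ℕ, (op m F (g ^ n)) c ∈ C (op m F y) := by
      intro n
      induction n with
      | zero => rw [pow_zero, map_one]; exact hc
      | succ n ih => rw [pow_succ', map_mul, Module.End.mul_apply]; exact hGC _ ih
    exact (mem_C.1 (h3 D)).symm

/-! ### centralizers -/

theorem comm_op {y g : Sp} (h : g * y = y * g) (v : Fin m ⊕ Fin m → F) :
    op m F g (op m F y v) = op m F y (op m F g v) := by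
  rw [← Module.End.mul_apply, ← Module.End.mul_apply, ← map_mul, ← map_mul, h]

theorem isCyclic_cent {y : Sp} {l : ℕ} (hy : orderOf y = l) (hppd : Ppd (Fintype.card F) (2 * m) l) (hm : 0 < m) :
    IsCyclic ↥(centralizer ({y} : Set Sp)) := by
  refine (sit hy hppd (by omega) (by omega)).isCyclic finrank_V ((op m F).comp (centralizer ({y} : Set Sp)).subtype)
    (SpOp.op_injective.comp Subtype.val_injective) ?_
  intro g v
  exact comm_op (mem_centralizer_singleton_iff.1 g.2) v

/-- **`|C(y)|` divides `q ^ m + 1`.** -/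
theorem card_cent_zero {y : Sp} {l : ℕ} (hy : orderOf y = l) (hppd : Ppd (Fintype.card F) (2 * m) l) (hm : 0 < m) :
    Nat.card ↥(centralizer ({y} : Set Sp)) ∣ Fintype.card F ^ m + 1 := by
  have := isCyclic_cent hy hppd hm
  obtain ⟨g, hg⟩ := this.exists_ofOrder_eq_natCard
  rw [← hg]
  apply orderOf_dvd_of_pow_eq_one
  apply Subtype.ext
  exact pow_eq_one hy hppd hm (mem_centralizer_singleton_iff.1 g.2)

/-- the units of the endomorphisms of a plane -/
theorem card_units_plane {k : Type*} [Field k] [Fintype k] {U : Type*} [AddCommGroup U] [Module k U]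
    [FiniteDimensional k U] (h : finrank k U = 2) :
    Nat.card (End k U)ˣ = (Fintype.card k ^ 2 - 1) * (Fintype.card k ^ 2 - Fintype.card k) := by
  have b : Basis (Fin 2) k U := Module.finBasisOfFinrankEq k U h
  have e : (End k U)ˣ ≃* GL (Fin 2) k := Units.mapEquiv (algEquivMatrix b).toMulEquiv
  rw [Nat.card_congr e.toEquiv, Matrix.card_GL_field, Fin.prod_univ_two]
  simp only [_root_.Fin.isValue, _root_.Fin.coe_ofNat_eq_mod, _root_.Nat.zero_mod, _root_.pow_zero, _root_.Nat.mod_succ, _root_.pow_one]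

/-- **The structure of `C(y)`, `D = 2 (m - 1)`.** -/
theorem cent_one {y : Sp} {l : ℕ} (hy : orderOf y = l) (hppd : Ppd (Fintype.card F) (2 * (m - 1)) l) (hm : 3 ≤ m) :
    ∃ K : Subgroup ↥(centralizer ({y} : Set Sp)), ∃ _ : K.Normal,
      IsCyclic (↥(centralizer ({y} : Set Sp)) ⧸ K) ∧ K.index ∣ Fintype.card F ^ (m - 1) + 1 ∧
      Nat.card K ∣ (Fintype.card F ^ 2 - 1) * (Fintype.card F ^ 2 - Fintype.card F) := by
  classical
  have S := sit hy hppd (by omega) (by omega)
  have hgW : ∀ g : ↥(centralizer ({y} : Set Sp)), ∀ w ∈ W (op m F y), op m F g w ∈ W (op m F y) := fun g w hw =>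
    W_of_comm ((comm_op (mem_centralizer_singleton_iff.1 g.2) :)) hw
  have hgC : ∀ g : ↥(centralizer ({y} : Set Sp)), ∀ w ∈ C (op m F y), op m F g w ∈ C (op m F y) := fun g w hw => by
    rw [mem_C] at hw ⊢
    rw [← comm_op (mem_centralizer_singleton_iff.1 g.2), hw]
  let ρ₀ : ↥(centralizer ({y} : Set Sp)) →* End F (W (op m F y)) :=
    { toFun := fun g => (op m F g).restrict (hgW g)
      map_one' := by
        refine LinearMap.ext fun w => Subtype.ext ?_
        change op m F (1 : Sp) (w : Fin m ⊕ Fin m → F) = w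
        rw [map_one]; rfl
      map_mul' := fun g h => by
        refine LinearMap.ext fun w => Subtype.ext ?_
        change op m F ((g : Sp) * h) (w : Fin m ⊕ Fin m → F) = op m F g (op m F h w)
        rw [map_mul]; rfl }
  let ρ := ρ₀.toHomUnits
  have hρ : ∀ g, ((ρ g : (End F (W (op m F y)))ˣ) : End F (W (op m F y))) = ρ₀ g := fun g => rfl
  have hcyc : IsCyclic ρ.range := by
    refine (sit_restrict S).isCyclic S.finrank_W ((Units.coeHom _).comp ρ.range.subtype)
      (Units.val_injective.comp Subtype.val_injective) ?_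
    rintro ⟨_, g, rfl⟩ w
    apply Subtype.ext
    exact comm_op (mem_centralizer_singleton_iff.1 g.2) w
  refine ⟨ρ.ker, inferInstance, ?_, ?_, ?_⟩
  · exact isCyclic_of_surjective (QuotientGroup.quotientKerEquivRange ρ).symm.toMonoidHom
      (QuotientGroup.quotientKerEquivRange ρ).symm.surjective
  · rw [Subgroup.index_ker]
    obtain ⟨⟨_, g, rfl⟩, hg⟩ := hcyc.exists_ofOrder_eq_natCard
    rw [← hg]
    apply orderOf_dvd_of_pow_eq_one
    apply Subtype.ext
    apply Units.ext
    change ((ρ g ^ (Fintype.card F ^ (m - 1) + 1) : (End F (W (op m F y)))ˣ) : End F (W (op m F y))) = 1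
    rw [Units.val_pow_eq_pow_val, hρ]
    refine LinearMap.ext fun w => Subtype.ext ?_
    have h1 : ∀ n : ℕ, (((ρ₀ g ^ n) w : W (op m F y)) : Fin m ⊕ Fin m → F) = ((op m F g) ^ n) w := by
      intro n
      induction n with
      | zero => rfl
      | succ n ih =>
        rw [pow_succ', pow_succ', Module.End.mul_apply, Module.End.mul_apply, ← ih]
        rfl
    rw [h1]
    exact S.pow_eq (sympBilin m F) (op_form y) nondeg (comm_op (mem_centralizer_singleton_iff.1 g.2)) (op_form _) w.2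
  · rw [← card_units_plane (k := F) (U := C (op m F y)) (by have := S.finrank_C_add; rw [finrank_V] at this; omega)]
    let σ₀ : ↥(centralizer ({y} : Set Sp)) →* End F (C (op m F y)) :=
      { toFun := fun g => (op m F g).restrict (hgC g)
        map_one' := by
          refine LinearMap.ext fun w => Subtype.ext ?_
          change op m F (1 : Sp) (w : Fin m ⊕ Fin m → F) = w
          rw [map_one]; rfl
        map_mul' := fun g h => by
          refine LinearMap.ext fun w => Subtype.ext ?_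
          change op m F ((g : Sp) * h) (w : Fin m ⊕ Fin m → F) = op m F g (op m F h w)
          rw [map_mul]; rfl }
    let σ := σ₀.toHomUnits.comp ρ.ker.subtype
    have hσ : Function.Injective σ := by
      rw [← MonoidHom.ker_eq_bot_iff, eq_bot_iff]
      rintro ⟨g, hg⟩ hg'
      rw [MonoidHom.mem_ker] at hg hg'
      rw [Subgroup.mem_bot]
      apply Subtype.ext
      apply Subtype.ext
      apply SpOp.op_injective
      change op m F (g : Sp) = op m F 1
      rw [map_one]
      refine LinearMap.ext fun v => ?_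
      obtain ⟨w, hw, c, hc, rfl⟩ := S.decomp v
      rw [map_add, Module.End.one_apply]
      congr 1
      · have h1 : ρ₀ g = 1 := by rw [← hρ, hg]; rfl
        exact congrArg Subtype.val (LinearMap.congr_fun h1 ⟨w, hw⟩)
      · have h1 : σ₀ g = 1 := congrArg Units.val hg'
        exact congrArg Subtype.val (LinearMap.congr_fun h1 ⟨c, hc⟩)
    have : Finite (End F (C (op m F y)))ˣ := by
      have : Finite (End F (C (op m F y))) := Module.finite_of_finite F
      infer_instance
    exact card_dvd_of_injective σ hσ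

theorem card_cent_one {y : Sp} {l : ℕ} (hy : orderOf y = l) (hppd : Ppd (Fintype.card F) (2 * (m - 1)) l)
    (hm : 3 ≤ m) : Nat.card ↥(centralizer ({y} : Set Sp)) ∣ (Fintype.card F ^ (m - 1) + 1) *
      ((Fintype.card F ^ 2 - 1) * (Fintype.card F ^ 2 - Fintype.card F)) := by
  obtain ⟨K, _, _, h1, h2⟩ := cent_one hy hppd hm
  rw [← card_mul_index K, mul_comm]
  exact mul_dvd_mul h1 h2

end Cfsg.Agent.H767.PD
end

-- part: H767/PD/Norm
section
/-!
# `Uniq`, normalizers for `PSp_2m(q)` (helper767, S4246 row PSp)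
-/

set_option autoImplicit false
set_option linter.unusedSectionVars false

namespace Cfsg.Agent.H767.PD

open Cfsg Module Matrix Subgroup Cfsg.Agent.H568 Cfsg.Agent.H689 Cfsg.Agent.H458 Cfsg.Agent.H458.Zs
open Cfsg.Agent.H458.SpOp Cfsg.Agent.H458.SpAut
open Cfsg.Agent.ClassicalGeometry.SympBasic Cfsg.Agent.ClassicalGeometry.SympAutSemi
open Cfsg.Agent.H160.PD (v Fx mem_Fx Uniq mem_zpowers_of_cyclic uniq_of_cyclic card_normalizer_dvd)

/-- elements of order `l` in an extension of an `l'`-group by a cyclic group -/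
theorem mem_zpowers_of_struct {Γ : Type*} [Group Γ] [Finite Γ] {K : Subgroup Γ} [K.Normal] (hc : IsCyclic (Γ ⧸ K))
    {l : ℕ} (hl : l.Prime) (hK : ¬ l ∣ Nat.card K) {x y : Γ} (hx : orderOf x = l) (hy : orderOf y = l)
    (hxy : x * y = y * x) : y ∈ zpowers x := by
  have hord : ∀ z : Γ, orderOf z = l → orderOf (QuotientGroup.mk' K z) = l := by
    intro z hz
    have := Fact.mk hl
    apply orderOf_eq_prime
    · rw [← map_pow, ← hz, pow_orderOf_eq_one, map_one]
    · intro h1
      have h2 : z ∈ K := (QuotientGroup.eq_one_iff z).1 h1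
      apply hK
      rw [← hz, ← Subgroup.orderOf_mk z h2]
      exact _root_.orderOf_dvd_natCard _
  obtain ⟨k, hk⟩ := mem_zpowers_of_cyclic ((hord x hx).trans (hord y hy).symm)
  have hk' : QuotientGroup.mk' K x ^ k = QuotientGroup.mk' K y := hk
  have h3 : x ^ (-k) * y ∈ K := by
    rw [← QuotientGroup.eq_one_iff]
    change QuotientGroup.mk' K (x ^ (-k) * y) = 1
    rw [map_mul, map_zpow, _root_.zpow_neg, hk', inv_mul_cancel]
  have h4 : (x ^ (-k) * y) ^ l = 1 := by
    have hc : Commute (x ^ (-k)) y := (show Commute x y from hxy).zpow_left _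
    rw [hc.mul_pow, ← zpow_natCast, ← _root_.zpow_mul, mul_comm, _root_.zpow_mul, zpow_natCast, ← hy, pow_orderOf_eq_one, hy,
      ← hx, pow_orderOf_eq_one, _root_.one_zpow, one_mul]
  have h5 : x ^ (-k) * y = 1 := by
    rw [← orderOf_eq_one_iff, ← Nat.dvd_one]
    have hco : l.Coprime (Nat.card K) := (hl.coprime_iff_not_dvd).2 hK
    rw [← hco.gcd_eq_one]
    refine Nat.dvd_gcd (orderOf_dvd_of_pow_eq_one h4) ?_
    rw [← Subgroup.orderOf_mk _ h3]
    exact _root_.orderOf_dvd_natCard _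
  refine ⟨k, ?_⟩
  rw [_root_.zpow_neg, inv_mul_eq_one] at h5
  exact h5

variable {m : ℕ} {F : Type} [Field F] [Fintype F]

local notation "Sp" => Matrix.symplecticGroup (Fin m) F

theorem uniq_pr (hm : 1 ≤ m) {l : ℕ} (hl : l.Prime) (hl2 : l ≠ 2) (h : Uniq Sp l) : Uniq (PSp m F) l := by
  intro x y hx hy hxy
  obtain ⟨x, rfl, hx'⟩ := exists_lift hm hl hl2 x hx
  obtain ⟨y, rfl, hy'⟩ := exists_lift hm hl hl2 y hy
  have h1 : x * y = y * x := Quot.comm_of_conj (pr m F) ker_pr.le (coprime_ker hm hl hl2)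
    (by rw [← hy', pow_orderOf_eq_one]) (by rw [MulAut.conj_apply, hxy, mul_inv_cancel_right])
  obtain ⟨k, hk⟩ := h x y hx' hy' h1
  refine ⟨k, ?_⟩
  change (pr m F x) ^ k = _
  rw [← map_zpow]
  exact congrArg _ hk

theorem uniq_zero (hm : 2 ≤ m) {l : ℕ} (hppd : Ppd (Fintype.card F) (2 * m) l) : Uniq (PSp m F) l := by
  have := hppd.le (by omega)
  exact uniq_pr (by omega) hppd.prime (by omega) (uniq_of_cyclic fun x hx => isCyclic_cent hx hppd (by omega))

theorem not_dvd_gl {q l k : ℕ} (hq : 1 ≤ q) (hppd : Ppd q k l) (hk : 3 ≤ k) : ¬ l ∣ (q ^ 2 - 1) * (q ^ 2 - q) := by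
  intro h
  rcases hppd.prime.dvd_mul.1 h with h1 | h1
  · rw [hppd.iff] at h1
    have := Nat.le_of_dvd (by omega) h1
    omega
  · have h2 : q ^ 2 - q = q * (q ^ 1 - 1) := by rw [Nat.mul_sub, pow_one, mul_one, sq]
    rw [h2] at h1
    rcases hppd.prime.dvd_mul.1 h1 with h3 | h3
    · exact hppd.not_dvd h3
    · rw [hppd.iff] at h3
      have := Nat.le_of_dvd (by omega) h3
      omega

theorem uniq_one (hm : 3 ≤ m) {l : ℕ} (hppd : Ppd (Fintype.card F) (2 * (m - 1)) l) : Uniq (PSp m F) l := by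
  have := hppd.le (by omega)
  refine uniq_pr (by omega) hppd.prime (by omega) ?_
  intro x y hx hy hxy
  obtain ⟨K, hK, hc, -, h2⟩ := cent_one hx hppd hm
  have hxc : x ∈ centralizer ({x} : Set Sp) := mem_centralizer_singleton_iff.2 rfl
  have hyc : y ∈ centralizer ({x} : Set Sp) := mem_centralizer_singleton_iff.2 hxy.symm
  have h3 : (⟨y, hyc⟩ : centralizer ({x} : Set Sp)) ∈ zpowers (⟨x, hxc⟩ : centralizer ({x} : Set Sp)) := by
    refine mem_zpowers_of_struct hc hppd.prime ?_ ?_ ?_ (Subtype.ext hxy)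
    · intro h
      exact not_dvd_gl Fintype.card_pos hppd (by omega) (h.trans h2)
    · rw [Subgroup.orderOf_mk, hx]
    · rw [Subgroup.orderOf_mk, hy]
  obtain ⟨k, hk⟩ := h3
  exact ⟨k, congrArg Subtype.val hk⟩

/-- **The normalizer of `⟨x⟩` in `PSp`.** -/
theorem norm_pr (hm : 1 ≤ m) {l D : ℕ} (hppd : Ppd (Fintype.card F) D l) (hD0 : 0 < D) (hD : 2 * m < 2 * D)
    (hl2 : l ≠ 2) {x : PSp m F} (hx : orderOf x = l) :
    ∀ z ∈ normalizer ((zpowers x : Subgroup (PSp m F)) : Set (PSp m F)),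
      z ^ D ∈ centralizer ({x} : Set (PSp m F)) := by
  intro z hz
  obtain ⟨y, rfl, hy⟩ := exists_lift hm hppd.prime hl2 x hx
  obtain ⟨g, rfl⟩ := surj_pr (m := m) (F := F) z
  have h1 : pr m F g * pr m F y * (pr m F g)⁻¹ ∈ zpowers (pr m F y) := (mem_normalizer_iff.1 hz _).1 (mem_zpowers _)
  rw [← mem_powers_iff_mem_zpowers] at h1
  obtain ⟨j, hj⟩ := h1
  have hyl : y ^ l = 1 := by rw [← hy, pow_orderOf_eq_one]
  have h2 : g * y * g⁻¹ = y ^ j := by
    refine Quot.eq_of_map_eq (pr m F) ker_pr.le (coprime_ker hm hppd.prime hl2) (l := l) ?_ ?_ ?_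
    · rw [conj_pow, hyl, mul_one, mul_inv_cancel]
    · rw [← pow_mul, mul_comm, pow_mul, hyl, one_pow]
    · rw [map_mul, map_mul, map_inv, map_pow]
      exact hj.symm
  rw [mem_centralizer_singleton_iff, ← map_pow, ← map_mul, ← map_mul, norm_comm hy hppd hD0 hD h2]

theorem card_norm_pr (hm : 1 ≤ m) {l D : ℕ} (hppd : Ppd (Fintype.card F) D l) (hD0 : 0 < D) (hD : 2 * m < 2 * D)
    (hl2 : l ≠ 2) {x : PSp m F} (hx : orderOf x = l) :
    Nat.card ↥(normalizer ((zpowers x : Subgroup (PSp m F)) : Set (PSp m F))) ∣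
      Nat.card ↥(centralizer ({x} : Set (PSp m F))) * D :=
  card_normalizer_dvd hppd.prime hx (norm_pr hm hppd hD0 hD hl2 hx)

/-- centralizers in `PSp`, `D = 2 m` -/
theorem cent_zero_pr (hm : 2 ≤ m) {l : ℕ} (hppd : Ppd (Fintype.card F) (2 * m) l) {x : PSp m F}
    (hx : orderOf x = l) : Nat.card ↥(centralizer ({x} : Set (PSp m F))) ∣ Fintype.card F ^ m + 1 := by
  have := hppd.le (by omega)
  obtain ⟨y, rfl, hy⟩ := exists_lift (by omega) hppd.prime (by omega) x hx
  exact (card_cent_pr y).trans (card_cent_zero hy hppd (by omega))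

/-- centralizers in `PSp`, `D = 2 (m - 1)` -/
theorem cent_one_pr (hm : 3 ≤ m) {l : ℕ} (hppd : Ppd (Fintype.card F) (2 * (m - 1)) l) {x : PSp m F}
    (hx : orderOf x = l) : Nat.card ↥(centralizer ({x} : Set (PSp m F))) ∣ (Fintype.card F ^ (m - 1) + 1) *
      ((Fintype.card F ^ 2 - 1) * (Fintype.card F ^ 2 - Fintype.card F)) := by
  have := hppd.le (by omega)
  obtain ⟨y, rfl, hy⟩ := exists_lift (by omega) hppd.prime (by omega) x hx
  exact (card_cent_pr y).trans (card_cent_one hy hppd hm)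

theorem dvd_sub_of_dvd_add {q l k : ℕ} (h : l ∣ q ^ k + 1) : l ∣ q ^ (2 * k) - 1 := by
  have h2 : q ^ (2 * k) - 1 = (q ^ k + 1) * (q ^ k - 1) := by
    rw [mul_comm 2 k, pow_mul]
    have := Nat.sq_sub_sq (q ^ k) 1
    rw [one_pow] at this
    exact this
  rw [h2]
  exact Dvd.dvd.mul_right h _

/-- **`NoOdd`.** -/
theorem noOdd (hm : 3 ≤ m) {r₀ r₁ : ℕ} (h0 : Ppd (Fintype.card F) (2 * m) r₀)
    (h1 : Ppd (Fintype.card F) (2 * (m - 1)) r₁) : H160.PD.NoOdd (PSp m F) r₀ r₁ := by
  have hle0 := h0.le (by omega)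
  have hle1 := h1.le (by omega)
  have hq : 1 ≤ Fintype.card F := Fintype.card_pos
  have hnd : ¬ 2 * (m - 1) ∣ 2 * m := by
    intro h
    have h2 := Nat.dvd_of_mul_dvd_mul_left (by norm_num) h
    have h3 := (Nat.dvd_sub h2 (dvd_refl (m - 1)))
    have h4 : m - (m - 1) = 1 := by omega
    rw [h4, Nat.dvd_one] at h3
    omega
  have hne : r₀ ≠ r₁ := by
    rintro rfl
    have h2 := (h0.iff _).2 dvd_rfl
    rw [h1.iff] at h2
    exact hnd h2
  refine H160.PD.noOdd_of_uniq h0.prime h1.prime hne (uniq_zero (by omega) h0) (uniq_one hm h1) ?_ ?_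
  · intro x hx hd
    have h2 := (hd.trans (card_norm_pr (by omega) h0 (by omega) (by omega) (by omega) hx)).trans
      (Nat.mul_dvd_mul_right (cent_zero_pr (by omega) h0 hx) _)
    rcases h1.prime.dvd_mul.1 h2 with h3 | h3
    · have h4 := dvd_sub_of_dvd_add h3
      rw [h1.iff] at h4
      exact hnd h4
    · rcases h1.prime.dvd_mul.1 h3 with h4 | h4
      · have := Nat.le_of_dvd (by norm_num) h4
        omega
      · have := Nat.le_of_dvd (by omega) h4
        omega
  · intro x hx hd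
    have h2 := (hd.trans (card_norm_pr (by omega) h1 (by omega) (by omega) (by omega) hx)).trans
      (Nat.mul_dvd_mul_right (cent_one_pr hm h1 hx) _)
    rcases h0.prime.dvd_mul.1 h2 with h3 | h3
    · rcases h0.prime.dvd_mul.1 h3 with h4 | h4
      · have h5 := dvd_sub_of_dvd_add h4
        rw [h0.iff] at h5
        have := Nat.le_of_dvd (by omega) h5
        omega
      · exact not_dvd_gl hq h0 (by omega) h4
    · have := Nat.le_of_dvd (by omega) h3
      omega

/-! ### the characteristic -/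

variable {p f : ℕ}

theorem not_dvd_add {q k : ℕ} (hp : p.Prime) (hq : p ∣ q) (hk : k ≠ 0) : ¬ p ∣ q ^ k + 1 := by
  intro h
  exact hp.one_lt.ne' (Nat.dvd_one.1 ((Nat.dvd_add_right (hq.trans (dvd_pow_self q hk))).1 h))

theorem not_dvd_sub {q k : ℕ} (hp : p.Prime) (hq : p ∣ q) (hq0 : 0 < q) (hk : k ≠ 0) : ¬ p ∣ q ^ k - 1 := by
  intro h
  have h1 : 1 ≤ q ^ k := Nat.one_le_pow _ _ hq0
  exact hp.one_lt.ne' (Nat.dvd_one.1 ((Nat.dvd_sub_iff_right h1 (hq.trans (dvd_pow_self q hk))).1 h))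

theorem card_ne_one (hp : p.Prime) (hF : Fintype.card F = p ^ f) : 1 ≤ f ∧ p ∣ Fintype.card F := by
  have h1 := Fintype.one_lt_card (α := F)
  have h2 : 1 ≤ f := by
    rcases Nat.eq_zero_or_pos f with h0 | h0
    · rw [hF, h0, pow_zero] at h1
      omega
    · exact h0
  exact ⟨h2, hF ▸ dvd_pow_self p (by omega)⟩

theorem v_le_of_dvd {X : Type*} [Finite X] [Nonempty X] {t N : ℕ} (h : Nat.card X ∣ N) (hN : N ≠ 0) :
    v t X ≤ N.factorization t :=
  (Nat.factorization_le_iff_dvd Nat.card_pos.ne' hN).2 h t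

theorem v_cent_zero (hm : 2 ≤ m) (hp : p.Prime) (hF : Fintype.card F = p ^ f) {l : ℕ}
    (hppd : Ppd (Fintype.card F) (2 * m) l) {x : PSp m F} (hx : orderOf x = l) :
    v p (centralizer ({x} : Set (PSp m F))) = 0 := by
  apply Nat.factorization_eq_zero_of_not_dvd
  intro h
  exact not_dvd_add hp (card_ne_one hp hF).2 (by omega) (h.trans (cent_zero_pr hm hppd hx))

theorem gl_factorization (hp : p.Prime) (hf : 1 ≤ f) :
    (((p ^ f) ^ 2 - 1) * ((p ^ f) ^ 2 - p ^ f)).factorization p = f := by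
  have hq : 1 < p ^ f := Nat.one_lt_pow (by omega) hp.one_lt
  have hpq : p ∣ p ^ f := dvd_pow_self p (by omega)
  have h1 : (p ^ f) ^ 2 - p ^ f = p ^ f * ((p ^ f) ^ 1 - 1) := by rw [Nat.mul_sub, pow_one, mul_one, sq]
  have h2 : (p ^ f) ^ 2 - 1 ≠ 0 := by
    have := Nat.one_lt_pow (n := 2) (by norm_num) hq
    omega
  have h3 : (p ^ f) ^ 1 - 1 ≠ 0 := by rw [pow_one]; omega
  rw [h1, Nat.factorization_mul h2 (mul_ne_zero (by omega) h3), Nat.factorization_mul (by omega) h3,
    Finsupp.add_apply, Finsupp.add_apply, Nat.factorization_eq_zero_of_not_dvd (not_dvd_sub hp hpq (by omega) (by norm_num)),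
    Nat.factorization_eq_zero_of_not_dvd (not_dvd_sub hp hpq (by omega) one_ne_zero), hp.factorization_pow,
    Finsupp.single_eq_same]
  omega

theorem cent_one_ne (hm : 3 ≤ m) : (Fintype.card F ^ (m - 1) + 1) *
      ((Fintype.card F ^ 2 - 1) * (Fintype.card F ^ 2 - Fintype.card F)) ≠ 0 := by
  have hq : 1 < Fintype.card F := Fintype.one_lt_card
  have h2 : Fintype.card F ^ 2 - 1 ≠ 0 := by
    have := Nat.one_lt_pow (n := 2) (by norm_num) hq
    omega
  have h3 : Fintype.card F ^ 2 - Fintype.card F ≠ 0 := by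
    have : Fintype.card F * 1 < Fintype.card F * Fintype.card F := Nat.mul_lt_mul_of_pos_left hq (by omega)
    rw [sq]
    omega
  exact mul_ne_zero (by omega) (mul_ne_zero h2 h3)

theorem cent_one_factorization (hm : 3 ≤ m) (hp : p.Prime) (hF : Fintype.card F = p ^ f) :
    ((Fintype.card F ^ (m - 1) + 1) *
      ((Fintype.card F ^ 2 - 1) * (Fintype.card F ^ 2 - Fintype.card F))).factorization p = f := by
  have h1 := cent_one_ne (F := F) hm
  obtain ⟨hf, hpq⟩ := card_ne_one hp hF
  rw [Nat.factorization_mul (left_ne_zero_of_mul h1) (right_ne_zero_of_mul h1), Finsupp.add_apply,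
    Nat.factorization_eq_zero_of_not_dvd (not_dvd_add hp hpq (by omega)), hF, gl_factorization hp hf, zero_add]

theorem v_cent_one (hm : 3 ≤ m) (hp : p.Prime) (hF : Fintype.card F = p ^ f) {l : ℕ}
    (hppd : Ppd (Fintype.card F) (2 * (m - 1)) l) {x : PSp m F} (hx : orderOf x = l) :
    v p (centralizer ({x} : Set (PSp m F))) ≤ f := by
  rw [← cent_one_factorization (F := F) hm hp hF]
  exact v_le_of_dvd (cent_one_pr hm hppd hx) (cent_one_ne hm)

/-- **Subgroups of odd order with elements of order `r₀`.** -/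
theorem odd_zero (hm : 2 ≤ m) [hp : Fact p.Prime] (hF : Fintype.card F = p ^ f) {l : ℕ}
    (hppd : Ppd (Fintype.card F) (2 * m) l) (H : Subgroup (PSp m F)) (hH : Odd (Nat.card H))
    (hl : l ∣ Nat.card H) : v p H ≤ (2 * m).factorization p := by
  have hle := hppd.le (by omega)
  obtain ⟨hf, hpq⟩ := card_ne_one hp.1 hF
  have hpl : p ≠ l := by
    rintro rfl
    exact hppd.not_dvd hpq
  have hpF : (p : F) = 0 := by
    have := charP_of_card hp.1 hF
    exact CharP.cast_eq_zero F p
  rw [← zero_add ((2 * m).factorization p)]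
  refine H160.PD.odd_bound_of_uniq hp.1 hppd.prime hpl (uniq_zero hm hppd) ?_ ?_ H hH hl
  · intro X hX x hx hxo
    obtain ⟨y, rfl, hy⟩ := exists_lift (by omega) hppd.prime (by omega) x hxo
    have h1 : PCent p (pr m F y) := Quot.pcent (pr m F) surj_pr ker_pr.le (pcent_char hy hppd (by omega) hpF)
    have h2 : X ≤ centralizer ({pr m F y} : Set (PSp m F)) := by
      intro g hg
      rw [mem_centralizer_singleton_iff]
      exact (h1 X hX hx g hg).symm
    have h3 := H160.PD.v_mono h2 p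
    rw [v_cent_zero hm hp.1 hF hppd hxo] at h3
    exact h3
  · intro x hx
    have h1 := (card_norm_pr (by omega) hppd (by omega) (by omega) (by omega) hx).trans
      (Nat.mul_dvd_mul_right (cent_zero_pr hm hppd hx) _)
    refine (v_le_of_dvd h1 (mul_ne_zero (by omega) (by omega))).trans ?_
    rw [Nat.factorization_mul (by omega) (by omega), Finsupp.add_apply,
      Nat.factorization_eq_zero_of_not_dvd (not_dvd_add hp.1 hpq (by omega)), zero_add]

end Cfsg.Agent.H767.PD
end

-- part: H767/PD/Out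
section
/-!
# The order of `Out PSp_2m(q)` and the valuations (helper767, S4246 row PSp)
-/

set_option autoImplicit false
set_option linter.unusedSectionVars false

namespace Cfsg.Agent.H767.PD

open Cfsg Module Matrix Subgroup Cfsg.Agent.H568 Cfsg.Agent.H689 Cfsg.Agent.H458 Cfsg.Agent.H458.Zs
open Cfsg.Agent.H458.SpOp Cfsg.Agent.H458.SpAut
open Cfsg.Agent.ClassicalGeometry.SympBasic Cfsg.Agent.ClassicalGeometry.SympAutSemi
open Cfsg.Agent.H160.PD (v Fx mem_Fx Uniq out Good)

variable {m : ℕ} {F : Type} [Field F] [Fintype F] {p f : ℕ}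

local notation "Sp" => Matrix.symplecticGroup (Fin m) F

theorem out_eq (hZ : center (PSp m F) = ⊥) (hm : 2 ≤ m) (h22 : m = 2 → 3 ≤ Fintype.card F) [hp : Fact p.Prime]
    (hF : Fintype.card F = p ^ f) :
    out (PSp m F) = (if m = 2 ∧ p = 2 then 2 else 1) * Nat.gcd 2 (p ^ f - 1) * f := by
  have h1 := S0814.result p f (card_ne_one hp.1 hF).1 hF m hm (by rwa [← hF])
  have h2 := card_mul_index (MulAut.conj : PSp m F →* MulAut (PSp m F)).range
  have h3 : Nat.card (MulAut.conj : PSp m F →* MulAut (PSp m F)).range = Nat.card (PSp m F) :=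
    Nat.card_congr (MonoidHom.ofInjective (H160.PD.conj_injective hZ)).symm.toEquiv
  rw [h1, h3, mul_comm] at h2
  exact Nat.eq_of_mul_eq_mul_right Nat.card_pos h2

/-- the order of `PSp` -/
theorem card_psp (hm : 1 ≤ m) : Nat.card (PSp m F) * Nat.gcd 2 (Fintype.card F - 1) = Nat.card Sp := by
  rw [← LieClassical.SympCenter.card_center hm]
  exact (Subgroup.card_eq_card_quotient_mul_card_subgroup _).symm

theorem gcd_ne (q : ℕ) : Nat.gcd 2 (q - 1) ≠ 0 := by
  intro h
  have := Nat.eq_zero_of_gcd_eq_zero_left h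
  omega

theorem v_psp_of (hm : 1 ≤ m) {t : ℕ} (ht : (Nat.gcd 2 (Fintype.card F - 1)).factorization t = 0) :
    v t (PSp m F) = v t Sp := by
  rw [v, v, ← card_psp hm, Nat.factorization_mul Nat.card_pos.ne' (gcd_ne _), Finsupp.add_apply, ht, add_zero]

theorem gcd_fact {q t : ℕ} (ht : t.Prime) (ht2 : t ≠ 2) : (Nat.gcd 2 (q - 1)).factorization t = 0 := by
  apply Nat.factorization_eq_zero_of_not_dvd
  intro h
  exact ht2 ((Nat.prime_dvd_prime_iff_eq ht Nat.prime_two).1 (h.trans (Nat.gcd_dvd_left _ _)))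

theorem gcd_fact_char [hp : Fact p.Prime] (hf : 1 ≤ f) : (Nat.gcd 2 (p ^ f - 1)).factorization p = 0 := by
  by_cases h2 : p = 2
  · apply Nat.factorization_eq_zero_of_not_dvd
    intro h
    have h1 : p ∣ (p ^ f) ^ 1 - 1 := by rw [pow_one]; exact h.trans (Nat.gcd_dvd_right _ _)
    exact not_dvd_sub hp.1 (dvd_pow_self p (by omega)) (pow_pos hp.1.pos _) one_ne_zero h1
  · exact gcd_fact hp.1 h2

theorem v_psp_odd (hm : 1 ≤ m) {t : ℕ} (ht : t.Prime) (ht2 : t ≠ 2) : v t (PSp m F) = v t Sp :=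
  v_psp_of hm (gcd_fact ht ht2)

theorem v_psp_char (hm : 1 ≤ m) [hp : Fact p.Prime] (hF : Fintype.card F = p ^ f) :
    v p (PSp m F) = m ^ 2 * f := by
  rw [v_psp_of hm (by rw [hF]; exact gcd_fact_char (card_ne_one hp.1 hF).1), v_sp hp.1 hF]

/-- `v_t |Sp|`, `t ≠ p` -/
theorem v_sp_eq {t : ℕ} (htq : ¬ t ∣ Fintype.card F) :
    v t Sp = ∑ i ∈ Finset.range m, (Fintype.card F ^ (2 * (i + 1)) - 1).factorization t := by
  have h1 : ∀ i ∈ Finset.range m, Fintype.card F ^ (2 * (i + 1)) - 1 ≠ 0 := by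
    intro i _
    have : 1 < Fintype.card F ^ (2 * (i + 1)) := Nat.one_lt_pow (by omega) Fintype.one_lt_card
    omega
  rw [v, LieClassical.SympCount.card_symplecticGroup, Nat.factorization_mul (pow_ne_zero _ Fintype.card_pos.ne')
    (Finset.prod_ne_zero_iff.2 h1), Finsupp.add_apply, Nat.factorization_prod h1, Finsupp.finset_sum_apply,
    Nat.factorization_pow, Finsupp.smul_apply, Nat.factorization_eq_zero_of_not_dvd htq, smul_zero, zero_add]

/-- `v_t (q ^ i - 1) ≥ 1 + v_t(f)` -/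
theorem lte {p f t i : ℕ} (hp : 1 < p) (ht : t.Prime) (hf : 1 ≤ f) (hi : 1 ≤ i) (h : t ∣ (p ^ f) ^ i - 1) :
    1 + f.factorization t ≤ ((p ^ f) ^ i - 1).factorization t := by
  have := Fact.mk ht
  have hne : (p ^ f) ^ i - 1 ≠ 0 := by
    have h1 : 1 < p ^ f := Nat.one_lt_pow (by omega) hp
    have h2 : 1 < (p ^ f) ^ i := Nat.one_lt_pow (by omega) h1
    omega
  rw [← ht.pow_dvd_iff_le_factorization hne]
  set k := f.factorization t with hk
  obtain ⟨f', hf'⟩ : ∃ f', f = t ^ k * f' := Nat.ordProj_dvd f t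
  have e1 : (p ^ f) ^ i = (p ^ (f' * i)) ^ (t ^ k) := by
    rw [← pow_mul, ← pow_mul]
    congr 1
    nth_rw 1 [hf']
    ring
  have h1 : ∀ n : ℕ, ((p ^ n - 1 : ℕ) : ℤ) = (p : ℤ) ^ n - 1 := fun n => by
    rw [Nat.cast_sub (Nat.one_le_pow _ _ (by omega))]; push_cast; ring
  have e2 : (((p ^ f) ^ i - 1 : ℕ) : ℤ) = ((p : ℤ) ^ (f' * i)) ^ (t ^ k) - 1 ^ (t ^ k) := by
    rw [e1, ← pow_mul, h1, ← pow_mul, one_pow]
  have h2 : (t : ℤ) ∣ ((p : ℤ) ^ (f' * i)) ^ (t ^ k) - 1 ^ (t ^ k) := e2 ▸ Int.natCast_dvd_natCast.2 h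
  have h3 : (t : ℤ) ∣ (p : ℤ) ^ (f' * i) - 1 := by
    rw [← ZMod.intCast_zmod_eq_zero_iff_dvd] at h2 ⊢
    push_cast at h2 ⊢
    rw [one_pow] at h2
    rwa [ZMod.pow_card_pow] at h2
  have h4 := dvd_sub_pow_of_dvd_sub h3 k
  rw [← e2, add_comm] at h4
  exact_mod_cast h4

/-- `v_t |Out| = v_t(f)` for odd `t` -/
theorem v_out_odd (hZ : center (PSp m F) = ⊥) (hm : 2 ≤ m) (h22 : m = 2 → 3 ≤ Fintype.card F) [hp : Fact p.Prime]
    (hF : Fintype.card F = p ^ f) {t : ℕ} (ht : t.Prime) (ht2 : t ≠ 2) :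
    (out (PSp m F)).factorization t = f.factorization t := by
  have hf := (card_ne_one hp.1 hF).1
  rw [out_eq hZ hm h22 hF, Nat.factorization_mul (mul_ne_zero (by split_ifs <;> norm_num) (gcd_ne _)) (by omega),
    Nat.factorization_mul (by split_ifs <;> norm_num) (gcd_ne _), Finsupp.add_apply, Finsupp.add_apply,
    gcd_fact ht ht2, add_zero]
  split_ifs with h
  · have h1 : (2 : ℕ).factorization t = 0 := by
      apply Nat.factorization_eq_zero_of_not_dvd
      intro h
      exact ht2 ((Nat.prime_dvd_prime_iff_eq ht Nat.prime_two).1 h)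
    rw [h1, zero_add]
  · rw [Nat.factorization_one, Finsupp.zero_apply, zero_add]

/-- `v_p |Out| = v_p(f)` unless `m = p = 2` -/
theorem v_out_char (hZ : center (PSp m F) = ⊥) (hm : 2 ≤ m) (h22 : m = 2 → 3 ≤ Fintype.card F) [hp : Fact p.Prime]
    (hF : Fintype.card F = p ^ f) (h : ¬ (m = 2 ∧ p = 2)) :
    (out (PSp m F)).factorization p = f.factorization p := by
  have hf := (card_ne_one hp.1 hF).1
  rw [out_eq hZ hm h22 hF, if_neg h, one_mul, Nat.factorization_mul (gcd_ne _) (by omega), Finsupp.add_apply,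
    gcd_fact_char hf, zero_add]

/-- the primes dividing `q ^ (2 j) - 1` -/
theorem lt_v (hm : 2 ≤ m) [hp : Fact p.Prime] (hF : Fintype.card F = p ^ f) {t j : ℕ} (ht : t.Prime)
    (htq : ¬ t ∣ Fintype.card F) (ht2 : t ≠ 2) (hj : 1 ≤ j) (hjm : j ≤ m) (h : t ∣ Fintype.card F ^ (2 * j) - 1) :
    f.factorization t < v t (PSp m F) := by
  have hf := (card_ne_one hp.1 hF).1
  rw [v_psp_odd (by omega) ht ht2, v_sp_eq htq]
  have h1 := Finset.single_le_sum (s := Finset.range m)
    (f := fun i => (Fintype.card F ^ (2 * (i + 1)) - 1).factorization t) (fun i _ => Nat.zero_le _)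
    (Finset.mem_range.2 (show j - 1 < m by omega))
  have h2 : j - 1 + 1 = j := by omega
  simp only [h2] at h1
  rw [hF] at h h1 ⊢
  have h3 := lte hp.1.one_lt ht hf (by omega) h
  omega

/-- good primes -/
theorem good_of (hZ : center (PSp m F) = ⊥) (hm : 2 ≤ m) (h22 : m = 2 → 3 ≤ Fintype.card F) [hp : Fact p.Prime]
    (hF : Fintype.card F = p ^ f) {t j : ℕ} (hj : 2 ≤ j) (hjm : j ≤ m) (h : Ppd (Fintype.card F) (2 * j) t) :
    Good (PSp m F) t := by
  have := h.le (by omega)
  refine ⟨h.prime, by omega, ?_⟩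
  rw [v_out_odd hZ hm h22 hF h.prime (by omega)]
  exact lt_v hm hF h.prime h.not_dvd (by omega) (by omega) hjm ((h.iff _).2 dvd_rfl)

end Cfsg.Agent.H767.PD
end
end

-- part: H767/PD/Three
section
prune_inst 0x3070590074e202000000851690201c66a2000400004884008c0201060c88cc6209c0a860ba1015120028008540310020010000108240000004000400011d00a0908054043340010c26009f800000000000000000000000000000000000010004000000002
set_option linter.all false
open scoped Cfsg.Agent.FastGrp

-- part: H767/PD/Num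
section
/-!
# The numerical hypothesis of the criterion (helper767, S4246 row PSp)
-/

set_option autoImplicit false
set_option linter.unusedSectionVars false

namespace Cfsg.Agent.H767.PD

open Cfsg Module Matrix Subgroup Cfsg.Agent.H568 Cfsg.Agent.H689 Cfsg.Agent.H458 Cfsg.Agent.H458.Zs
open Cfsg.Agent.H458.SpOp Cfsg.Agent.H458.SpAut
open Cfsg.Agent.H160.PD (v Fx mem_Fx Uniq out Good)

theorem two_ne {t : ℕ} (ht : t.Prime) (ht2 : t ≠ 2) : (2 : ZMod t) ≠ 0 := by
  intro h3
  have h4 : ((2 : ℕ) : ZMod t) = 0 := by exact_mod_cast h3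
  rw [CharP.cast_eq_zero_iff (ZMod t) t, Nat.prime_dvd_prime_iff_eq ht Nat.prime_two] at h4
  exact ht2 h4

theorem dvd_iff {q t : ℕ} (hq : 0 < q) (j : ℕ) : t ∣ q ^ j - 1 ↔ (q : ZMod t) ^ j = 1 := by
  rw [← CharP.cast_eq_zero_iff (ZMod t) t, Nat.cast_sub (Nat.one_le_pow _ _ hq), Nat.cast_pow, Nat.cast_one,
    sub_eq_zero]

theorem dvd_iff' {q t : ℕ} (j : ℕ) : t ∣ q ^ j + 1 ↔ (q : ZMod t) ^ j = -1 := by
  rw [← CharP.cast_eq_zero_iff (ZMod t) t, Nat.cast_add, Nat.cast_pow, Nat.cast_one, eq_neg_iff_add_eq_zero]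

/-- a prime divisor of `q ^ n + 1` which is not primitive for `2 n` -/
theorem exists_lt {q n t : ℕ} (hq : 0 < q) (ht : t.Prime) (ht2 : t ≠ 2) (hn : 1 ≤ n) (h : t ∣ q ^ n + 1)
    (hp : ¬ Ppd q (2 * n) t) : ∃ g, 1 ≤ g ∧ g < n ∧ t ∣ q ^ (2 * g) - 1 := by
  haveI := Fact.mk ht
  have h1 : (q : ZMod t) ^ n = -1 := (dvd_iff' n).1 h
  have h2 : (q : ZMod t) ^ (2 * n) = 1 := by rw [mul_comm, pow_mul, h1]; ring
  obtain ⟨d, hd⟩ : ∃ d, d = orderOf (q : ZMod t) := ⟨_, rfl⟩
  have hd1 : d ∣ 2 * n := hd ▸ orderOf_dvd_of_pow_eq_one h2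
  have hd0 : 0 < d := Nat.pos_of_dvd_of_pos hd1 (by omega)
  have hdn : ¬ d ∣ n := by
    intro h3
    rw [hd, orderOf_dvd_iff_pow_eq_one, h1] at h3
    apply two_ne ht ht2
    linear_combination (-1 : ZMod t) * h3
  have hd2 : d ≠ 2 * n := by
    intro h3
    apply hp
    refine ppd_of ht (by omega) ((dvd_iff hq _).2 h2) hq ?_
    intro j hj0 hj h4
    rw [dvd_iff hq, ← orderOf_dvd_iff_pow_eq_one, ← hd] at h4
    have := Nat.le_of_dvd hj0 h4
    omega
  have hdle : d < n := by
    obtain ⟨c, hc⟩ := hd1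
    have hc2 : 2 ≤ c := by
      rcases Nat.lt_or_ge c 2 with h4 | h4
      · interval_cases c
        · omega
        · omega
      · exact h4
    have h5 : d * 2 ≤ d * c := Nat.mul_le_mul_left d hc2
    have h6 : d ≤ n := by omega
    rcases Nat.lt_or_ge d n with h7 | h7
    · exact h7
    · exact absurd (by rw [show d = n by omega]) hdn
  refine ⟨d, hd0, hdle, ?_⟩
  rw [dvd_iff hq, mul_comm, pow_mul, hd, pow_orderOf_eq_one, one_pow]

theorem pow_sub_dvd (q a b : ℕ) : q ^ a - 1 ∣ q ^ (a * b) - 1 := by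
  rw [pow_mul]
  have := Nat.sub_dvd_pow_sub_pow (q ^ a) 1 b
  rwa [one_pow] at this

theorem fact_le {a b t : ℕ} (h : a ∣ b) (hb : b ≠ 0) : a.factorization t ≤ b.factorization t := by
  have ha : a ≠ 0 := by rintro rfl; exact hb (zero_dvd_iff.1 h)
  exact (Nat.factorization_le_iff_dvd ha hb).2 h t

theorem fact_pos {a t : ℕ} (h : 0 < a.factorization t) : t ∣ a := by
  by_contra h1
  rw [Nat.factorization_eq_zero_of_not_dvd h1] at h
  omega

/-- **The inequality.** -/
theorem num_ineq {p f m t : ℕ} (hp : p.Prime) (hf : 1 ≤ f) (hm : 3 ≤ m) (ht : t.Prime) (ht2 : t ≠ 2)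
    (h0 : ¬ Ppd (p ^ f) (2 * m) t) (h1 : ¬ Ppd (p ^ f) (2 * (m - 1)) t)
    (hS : 0 < ∑ i ∈ Finset.range m, ((p ^ f) ^ (2 * (i + 1)) - 1).factorization t) :
    ((p ^ f) ^ m + 1).factorization t + (((p ^ f) ^ (m - 1) + 1) *
      (((p ^ f) ^ 2 - 1) * ((p ^ f) ^ 2 - p ^ f))).factorization t + f.factorization t <
      ∑ i ∈ Finset.range m, ((p ^ f) ^ (2 * (i + 1)) - 1).factorization t + (p ^ f).factorization t := by
  set q := p ^ f with hq
  have hq1 : 1 < q := Nat.one_lt_pow (by omega) hp.one_lt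
  have hne : ∀ j, 1 ≤ j → q ^ j - 1 ≠ 0 := by
    intro j hj
    have : 1 < q ^ j := Nat.one_lt_pow (by omega) hq1
    omega
  obtain ⟨w, hw⟩ : ∃ w : ℕ → ℕ, ∀ i, w i = (q ^ (2 * (i + 1)) - 1).factorization t := ⟨_, fun _ => rfl⟩
  simp only [← hw] at hS ⊢
  have hlte : ∀ j, 1 ≤ j → t ∣ q ^ (2 * j) - 1 → 1 + f.factorization t ≤ w (j - 1) := by
    intro j hj hd
    rw [hw, Nat.sub_add_cancel hj]
    exact lte hp.one_lt ht hf (by omega) hd
  have h2 : q ^ 2 - q = q * (q ^ 1 - 1) := by rw [Nat.mul_sub, pow_one, mul_one, sq]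
  have h3 : ((q ^ (m - 1) + 1) * ((q ^ 2 - 1) * (q ^ 2 - q))).factorization t =
      (q ^ (m - 1) + 1).factorization t + w 0 + q.factorization t + (q ^ 1 - 1).factorization t := by
    rw [h2, Nat.factorization_mul (by omega) (mul_ne_zero (hne 2 (by norm_num)) (mul_ne_zero (by omega)
      (hne 1 le_rfl))), Nat.factorization_mul (hne 2 (by norm_num)) (mul_ne_zero (by omega) (hne 1 le_rfl)),
      Nat.factorization_mul (by omega) (hne 1 le_rfl), hw]
    simp only [Finsupp.add_apply, zero_add, mul_one]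
    ring
  rw [h3]
  obtain ⟨A, hA⟩ : ∃ A, A = (q ^ m + 1).factorization t := ⟨_, rfl⟩
  obtain ⟨B, hB⟩ : ∃ B, B = (q ^ (m - 1) + 1).factorization t := ⟨_, rfl⟩
  obtain ⟨c, hc⟩ : ∃ c, c = (q ^ 1 - 1).factorization t := ⟨_, rfl⟩
  rw [← hA, ← hB, ← hc]
  have hAw : A ≤ w (m - 1) := by
    rw [hA, hw, Nat.sub_add_cancel (by omega)]
    refine fact_le ?_ (hne _ (by omega))
    have : q ^ (2 * m) - 1 = (q ^ m + 1) * (q ^ m - 1) := by
      rw [mul_comm 2 m, pow_mul]
      have := Nat.sq_sub_sq (q ^ m) 1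
      rw [one_pow] at this
      exact this
    rw [this]
    exact dvd_mul_right _ _
  have hBw : B ≤ w (m - 2) := by
    rw [hB, hw, show m - 2 + 1 = m - 1 by omega]
    refine fact_le ?_ (hne _ (by omega))
    have : q ^ (2 * (m - 1)) - 1 = (q ^ (m - 1) + 1) * (q ^ (m - 1) - 1) := by
      rw [mul_comm 2 (m - 1), pow_mul]
      have := Nat.sq_sub_sq (q ^ (m - 1)) 1
      rw [one_pow] at this
      exact this
    rw [this]
    exact dvd_mul_right _ _
  have hw0 : ∀ i, w 0 ≤ w i := by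
    intro i
    rw [hw, hw]
    exact fact_le (pow_sub_dvd q 2 (i + 1)) (hne _ (by omega))
  have hsum3 : w 0 + w (m - 2) + w (m - 1) ≤ ∑ i ∈ Finset.range m, w i := by
    have h4 : ({0, m - 2, m - 1} : Finset ℕ) ⊆ Finset.range m := by
      intro i hi
      simp only [Finset.mem_insert, Finset.mem_singleton] at hi
      rw [Finset.mem_range]
      omega
    have h5 := Finset.sum_le_sum_of_subset (f := w) h4
    rw [Finset.sum_insert (by simp only [Finset.mem_insert, Finset.mem_singleton]; omega),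
      Finset.sum_insert (by simp only [Finset.mem_singleton]; omega), Finset.sum_singleton] at h5
    omega
  have hsum2 : ∀ i j, i < j → j < m → w i + w j ≤ ∑ i ∈ Finset.range m, w i := by
    intro i j hij hj
    have h4 : ({i, j} : Finset ℕ) ⊆ Finset.range m := by
      intro k hi
      simp only [Finset.mem_insert, Finset.mem_singleton] at hi
      rw [Finset.mem_range]
      omega
    have h5 := Finset.sum_le_sum_of_subset (f := w) h4
    rw [Finset.sum_insert (by simp only [Finset.mem_singleton]; omega), Finset.sum_singleton] at h5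
    omega
  haveI := Fact.mk ht
  have hAB : A = 0 ∨ B = 0 := by
    by_contra hcon
    push Not at hcon
    have h4 := fact_pos (t := t) (a := q ^ m + 1) (by omega)
    have h5 := fact_pos (t := t) (a := q ^ (m - 1) + 1) (by omega)
    rw [dvd_iff'] at h4 h5
    have h6 : (q : ZMod t) ^ m = (q : ZMod t) ^ (m - 1) * q := by rw [← pow_succ, Nat.sub_add_cancel (by omega)]
    rw [h5, h4] at h6
    have h7 : (q : ZMod t) = 1 := by linear_combination h6
    rw [h7, one_pow] at h5
    apply two_ne ht ht2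
    linear_combination h5
  by_cases hq1' : t ∣ q ^ 1 - 1
  · -- `t ∣ q - 1`
    have h4 : (q : ZMod t) = 1 := by
      have := (dvd_iff (by omega) 1).1 hq1'
      rwa [pow_one] at this
    have hA0 : A = 0 := by
      by_contra hcon
      have h5 := fact_pos (t := t) (a := q ^ m + 1) (by omega)
      rw [dvd_iff', h4, one_pow] at h5
      apply two_ne ht ht2
      linear_combination h5
    have hB0 : B = 0 := by
      by_contra hcon
      have h5 := fact_pos (t := t) (a := q ^ (m - 1) + 1) (by omega)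
      rw [dvd_iff', h4, one_pow] at h5
      apply two_ne ht ht2
      linear_combination h5
    have hcw : c ≤ w 0 := by
      rw [hc, hw]
      exact fact_le (pow_sub_dvd q 1 2) (hne _ (by omega))
    have h5 : 1 + f.factorization t ≤ w 0 := by
      have h6 := lte hp.one_lt ht hf le_rfl hq1'
      exact h6.trans (hc ▸ hcw)
    have h7 := hw0 (m - 2)
    have h8 := hw0 (m - 1)
    omega
  · have hc0 : c = 0 := by rw [hc]; exact Nat.factorization_eq_zero_of_not_dvd hq1'
    by_cases hq2 : t ∣ q ^ (2 * 1) - 1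
    · have h5 := hlte 1 le_rfl hq2
      rw [Nat.sub_self] at h5
      have h7 := hw0 (m - 2)
      have h8 := hw0 (m - 1)
      omega
    · have hw00 : w 0 = 0 := by rw [hw]; exact Nat.factorization_eq_zero_of_not_dvd hq2
      by_cases hA0 : A = 0
      · by_cases hB0 : B = 0
        · obtain ⟨i, hi, hi0⟩ : ∃ i ∈ Finset.range m, w i ≠ 0 := by
            by_contra hcon
            push Not at hcon
            rw [Finset.sum_eq_zero hcon] at hS
            omega
          have h5 := fact_pos (t := t) (a := q ^ (2 * (i + 1)) - 1) (by rw [← hw]; omega)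
          have h6 := hlte (i + 1) (by omega) h5
          rw [Nat.add_sub_cancel] at h6
          have h7 := Finset.single_le_sum (f := w) (fun i _ => Nat.zero_le _) hi
          omega
        · obtain ⟨g, hg1, hgm, hg⟩ := exists_lt (by omega) ht ht2 (by omega)
            (fact_pos (t := t) (a := q ^ (m - 1) + 1) (by omega)) h1
          have h6 := hlte g hg1 hg
          have h7 := hsum2 (g - 1) (m - 2) (by omega) (by omega)
          omega
      · obtain ⟨g, hg1, hgm, hg⟩ := exists_lt (by omega) ht ht2 (by omega)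
          (fact_pos (t := t) (a := q ^ m + 1) (by omega)) h0
        have h6 := hlte g hg1 hg
        have h7 := hsum2 (g - 1) (m - 1) (by omega) (by omega)
        omega

end Cfsg.Agent.H767.PD
end

-- part: H767/PD/OddOne
section
/-!
# `p`-subgroups of `PSp_2m(p^f)` normalised by an element of order primitive for `2 (m - 1)` (helper767)

`card_pgroup_one` : they have order at most `q ^ (2 m)`; `odd_one`.
-/

set_option autoImplicit false
set_option linter.unusedSectionVars false

namespace Cfsg.Agent.H767.PD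

open Cfsg Module Matrix Subgroup Cfsg.Agent.H568 Cfsg.Agent.H689 Cfsg.Agent.H458 Cfsg.Agent.H458.Zs
open Cfsg.Agent.H458.SpOp Cfsg.Agent.H458.SpAut
open Cfsg.Agent.ClassicalGeometry.SympBasic Cfsg.Agent.ClassicalGeometry.SympAutSemi
open Cfsg.Agent.H160.PD (v Fx mem_Fx Uniq)

variable {m : ℕ} {F : Type} [Field F] [Fintype F]

local notation "Sp" => Matrix.symplecticGroup (Fin m) F
local notation "VV" => (Fin m ⊕ Fin m → F)
local notation "ff" => sympForm m F

/-- a set of elements is small -/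
theorem card_le_of_inj {X : Subgroup Sp} {α : Type*} [Finite α] (t : X → α) (ht : Function.Injective t) {n : ℕ}
    (hα : Nat.card α = Fintype.card F ^ n) (hn : n ≤ 2 * m) : Nat.card X ≤ Fintype.card F ^ (2 * m) :=
  (Nat.card_le_card_of_injective t ht).trans (hα.le.trans (Nat.pow_le_pow_right Fintype.card_pos hn))

/-- the fixed vectors on the quotient `v^⊥ / v` -/
theorem exists_fix_quot {p : ℕ} [hp : Fact p.Prime] (hpF : (p : F) = 0) {X : Subgroup Sp} (hX : IsPGroup p X)
    {u : VV} (hu : ∀ g ∈ X, op m F g u = u) {w₀ : VV} (hw₀ : ff w₀ u = 0) (hw₀' : ∀ a : F, w₀ ≠ a • u) :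
    ∃ w : VV, ff w u = 0 ∧ (∀ a : F, w ≠ a • u) ∧ ∀ g ∈ X, ∃ a : F, op m F g w = w + a • u := by
  classical
  let N : Submodule F VV :=
    { carrier := {w | ff w u = 0}
      add_mem' := fun {a b} ha hb => by
        rw [Set.mem_ofPred_eq] at *
        rw [sympForm_add_left, ha, hb, add_zero]
      zero_mem' := by rw [Set.mem_ofPred_eq, sympForm_zero_left]
      smul_mem' := fun c a ha => by
        rw [Set.mem_ofPred_eq] at *
        rw [sympForm_smul_left, ha, mul_zero] }
  have hN : ∀ w, w ∈ N ↔ ff w u = 0 := fun _ => Iff.rfl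
  have huN : u ∈ N := sympForm_self u
  let L : Submodule F N := Submodule.span F {⟨u, huN⟩}
  have hgN : ∀ g : X, ∀ w ∈ N, op m F g w ∈ N := by
    intro g w hw
    rw [hN] at hw ⊢
    have h1 : ff (op m F g w) (op m F g u) = ff w u := op_form (g : Sp) w u
    rw [hu g g.2] at h1
    rw [h1, hw]
  have hgL : ∀ g : X, L ≤ L.comap ((op m F g).restrict (hgN g)) := by
    intro g
    rw [Submodule.span_le]
    rintro _ rfl
    rw [SetLike.mem_coe, Submodule.mem_comap]
    have h1 : (op m F g).restrict (hgN g) ⟨u, huN⟩ = ⟨u, huN⟩ := Subtype.ext (hu g g.2)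
    rw [h1]
    exact Submodule.mem_span_singleton_self _
  let ρ : X →* End F (N ⧸ L) :=
    { toFun := fun g => L.mapQ L ((op m F g).restrict (hgN g)) (hgL g)
      map_one' := by
        refine LinearMap.ext fun q => ?_
        obtain ⟨w, rfl⟩ := L.mkQ_surjective q
        rw [Submodule.mkQ_apply, Submodule.mapQ_apply]
        congr 1
        apply Subtype.ext
        change op m F (1 : Sp) (w : VV) = w
        rw [map_one]; rfl
      map_mul' := fun g h => by
        refine LinearMap.ext fun q => ?_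
        obtain ⟨w, rfl⟩ := L.mkQ_surjective q
        rw [Submodule.mkQ_apply, Module.End.mul_apply, Submodule.mapQ_apply, Submodule.mapQ_apply,
          Submodule.mapQ_apply]
        congr 1
        apply Subtype.ext
        change op m F ((g : Sp) * h) (w : VV) = op m F g (op m F h w)
        rw [map_mul]; rfl }
  have hmem : ∀ w : N, w ∈ L ↔ ∃ a : F, (w : VV) = a • u := by
    intro w
    rw [Submodule.mem_span_singleton]
    constructor
    · rintro ⟨a, ha⟩
      exact ⟨a, (congrArg Subtype.val ha).symm⟩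
    · rintro ⟨a, ha⟩
      exact ⟨a, Subtype.ext ha.symm⟩
  have hnt : Nontrivial (N ⧸ L) := by
    refine ⟨⟨Submodule.Quotient.mk ⟨w₀, hw₀⟩, 0, ?_⟩⟩
    intro h0
    rw [Submodule.Quotient.mk_eq_zero, hmem] at h0
    obtain ⟨a, ha⟩ := h0
    exact hw₀' a ha
  obtain ⟨q, hq0, hq⟩ := Zs.exists_fixed ρ hpF hX
  obtain ⟨w, rfl⟩ := L.mkQ_surjective q
  refine ⟨w, w.2, ?_, ?_⟩
  · intro a ha
    apply hq0
    rw [Submodule.mkQ_apply, Submodule.Quotient.mk_eq_zero, hmem]
    exact ⟨a, ha⟩
  · intro g hg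
    have h1 := hq ⟨g, hg⟩
    change L.mapQ L _ (hgL ⟨g, hg⟩) (L.mkQ w) = _ at h1
    rw [Submodule.mkQ_apply, Submodule.mapQ_apply, Submodule.Quotient.eq, hmem] at h1
    obtain ⟨a, ha⟩ := h1
    refine ⟨a, ?_⟩
    have h2 : op m F g w - (w : VV) = a • u := ha
    rw [← h2]
    abel

/-- **`p`-subgroups normalised by an element of order primitive for `2 (m - 1)`.** -/
theorem card_pgroup_one (hm : 3 ≤ m) {p : ℕ} [hp : Fact p.Prime] (hpF : (p : F) = 0) {y : Sp} {l : ℕ}
    (hy : orderOf y = l) (hppd : Ppd (Fintype.card F) (2 * (m - 1)) l) {X : Subgroup Sp} (hX : IsPGroup p X)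
    (hyX : y ∈ Subgroup.normalizer (X : Set Sp)) : Nat.card X ≤ Fintype.card F ^ (2 * m) := by
  classical
  have S := sit hy hppd (by omega) (by omega)
  haveI : Nontrivial VV := by
    haveI : Nonempty (Fin m ⊕ Fin m) := ⟨Sum.inl ⟨0, by omega⟩⟩
    infer_instance
  have hconj : ∀ g ∈ X, y⁻¹ * g * y ∈ X := by
    intro g hg
    have h4 := (Subgroup.mem_normalizer_iff.1 hyX (y⁻¹ * g * y)).2
    apply h4
    have h5 : y * (y⁻¹ * g * y) * y⁻¹ = g := by group
    rw [h5]; exact hg
  have hgy : ∀ g : Sp, ∀ x, op m F g (op m F y x) = op m F y (op m F (y⁻¹ * g * y) x) := by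
    intro g x
    rw [← Module.End.mul_apply, ← Module.End.mul_apply, ← map_mul, ← map_mul]
    congr 2
    group
  obtain ⟨u, hu0, hu⟩ := Zs.exists_fixed (k := F) ((op m F).comp X.subtype) hpF hX
  have hu' : ∀ g ∈ X, op m F g u = u := fun g hg => hu ⟨g, hg⟩
  -- the fixed space
  let U : Submodule F VV :=
    { carrier := {x | x ∈ W (op m F y) ∧ ∀ g ∈ X, op m F g x = x}
      add_mem' := fun {a b} ha hb => ⟨add_mem ha.1 hb.1, fun g hg => by rw [map_add, ha.2 g hg, hb.2 g hg]⟩
      zero_mem' := ⟨zero_mem _, fun g _ => map_zero _⟩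
      smul_mem' := fun c a ha => ⟨Submodule.smul_mem _ c ha.1, fun g hg => by rw [map_smul, ha.2 g hg]⟩ }
  have hU : ∀ x, x ∈ U ↔ x ∈ W (op m F y) ∧ ∀ g ∈ X, op m F g x = x := fun _ => Iff.rfl
  have hUy : ∀ x, (∀ g ∈ X, op m F g x = x) → ∀ g ∈ X, op m F g (op m F y x) = op m F y x := by
    intro x hx g hg
    rw [hgy, hx _ (hconj g hg)]
  -- the form
  have horth : ∀ c ∈ C (op m F y), ∀ w ∈ W (op m F y), ff c w = 0 := fun c hc w hw =>
    Sit.orth (sympBilin m F) (op_form y) hc hw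
  have hCdim : finrank F (C (op m F y)) = 2 := by
    have := S.finrank_C_add
    rw [finrank_V] at this
    omega
  rcases S.irr U (fun x hx => ⟨W_self hx.1, hUy x hx.2⟩) (fun x hx => hx.1) with h1 | h1
  · -- the fixed vector is in `C`
    have huC : op m F y u = u := by
      rw [← sub_eq_zero]
      have h2 : op m F y u - u ∈ U := ⟨mem_W.2 ⟨u, rfl⟩, fun g hg => by
        rw [map_sub, hUy u hu' g hg, hu' g hg]⟩
      rwa [h1, Submodule.mem_bot] at h2
    have huC' : u ∈ C (op m F y) := mem_C.2 huC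
    obtain ⟨w₀, hw₀, hw₀0⟩ := S.exists_ne
    have hw₀u : ff w₀ u = 0 := by rw [sympForm_swap, horth u huC' w₀ hw₀, neg_zero]
    obtain ⟨w₁, hw₁u, hw₁, hw₁X⟩ := exists_fix_quot hpF hX hu' hw₀u (by
      intro a ha
      apply hw₀0
      apply S.disj hw₀
      rw [ha, map_smul, huC])
    -- `z`
    obtain ⟨z, hzC, hz⟩ : ∃ z ∈ C (op m F y), ff z u ≠ 0 := by
      by_contra hcon
      push Not at hcon
      apply hu0
      apply eq_zero_of_forall_sympForm_left (m := m) (F := F)
      intro x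
      obtain ⟨w, hw, c, hc, rfl⟩ := S.decomp x
      rw [sympForm_add_left, hcon c hc, add_zero, sympForm_swap, horth u huC' w hw, neg_zero]
    -- `C` is spanned by `u` and `z`
    have hspan : ∀ c ∈ C (op m F y), ∃ a b : F, c = a • u + b • z := by
      have hli : LinearIndependent F ![(⟨u, huC'⟩ : C (op m F y)), ⟨z, hzC⟩] := by
        rw [LinearIndependent.pair_iff]
        intro a b hab
        have h2 : a • u + b • z = 0 := congrArg Subtype.val hab
        have h3 : ff (a • u + b • z) u = 0 := by rw [h2, sympForm_zero_left]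
        rw [sympForm_add_left, sympForm_smul_left, sympForm_smul_left, sympForm_self, mul_zero, zero_add] at h3
        have hb : b = 0 := (mul_eq_zero.1 h3).resolve_right hz
        rw [hb, zero_smul, add_zero] at h2
        exact ⟨(smul_eq_zero.1 h2).resolve_right hu0, hb⟩
      intro c hc
      have h2 : (⟨c, hc⟩ : C (op m F y)) ∈ Submodule.span F (Set.range ![(⟨u, huC'⟩ : C (op m F y)), ⟨z, hzC⟩]) := by
        rw [hli.span_eq_top_of_card_eq_finrank (by rw [hCdim, Fintype.card_fin])]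
        exact Submodule.mem_top
      rw [Matrix.range_cons, Matrix.range_cons, Matrix.range_empty, Set.union_empty, Set.singleton_union, Submodule.mem_span_pair] at h2
      obtain ⟨a, b, hab⟩ := h2
      exact ⟨a, b, (congrArg Subtype.val hab).symm⟩
    -- the space `U'`
    let U' : Submodule F VV :=
      { carrier := {x | x ∈ W (op m F y) ∧ ∀ g ∈ X, ∃ a : F, op m F g x = x + a • u}
        add_mem' := fun {a b} ha hb => ⟨add_mem ha.1 hb.1, fun g hg => by
          obtain ⟨c, hc⟩ := ha.2 g hg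
          obtain ⟨d, hd⟩ := hb.2 g hg
          exact ⟨c + d, by rw [map_add, hc, hd, add_smul]; abel⟩⟩
        zero_mem' := ⟨zero_mem _, fun g _ => ⟨0, by rw [map_zero, zero_smul, add_zero]⟩⟩
        smul_mem' := fun c a ha => ⟨Submodule.smul_mem _ c ha.1, fun g hg => by
          obtain ⟨d, hd⟩ := ha.2 g hg
          exact ⟨c * d, by rw [map_smul, hd, smul_add, smul_smul]⟩⟩ }
    have hU' : ∀ x, x ∈ U' ↔ x ∈ W (op m F y) ∧ ∀ g ∈ X, ∃ a : F, op m F g x = x + a • u := fun _ => Iff.rfl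
    have hUy' : ∀ x, (∀ g ∈ X, ∃ a : F, op m F g x = x + a • u) →
        ∀ g ∈ X, ∃ a : F, op m F g (op m F y x) = op m F y x + a • u := by
      intro x hx g hg
      obtain ⟨a, ha⟩ := hx _ (hconj g hg)
      exact ⟨a, by rw [hgy, ha, map_add, map_smul, huC]⟩
    have hUW : U' = W (op m F y) := by
      rcases S.irr U' (fun x hx => ⟨W_self hx.1, hUy' x hx.2⟩) (fun x hx => hx.1) with h2 | h2
      · exfalso
        have h3 : op m F y w₁ - w₁ ∈ U' := ⟨mem_W.2 ⟨w₁, rfl⟩, fun g hg => by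
          obtain ⟨a, ha⟩ := hUy' w₁ hw₁X g hg
          obtain ⟨b, hb⟩ := hw₁X g hg
          exact ⟨a - b, by rw [map_sub, ha, hb, sub_smul]; abel⟩⟩
        rw [h2, Submodule.mem_bot, sub_eq_zero] at h3
        obtain ⟨a, b, hab⟩ := hspan w₁ (mem_C.2 h3)
        rw [hab, sympForm_add_left, sympForm_smul_left, sympForm_smul_left, sympForm_self, mul_zero, zero_add] at hw₁u
        have hb : b = 0 := (mul_eq_zero.1 hw₁u).resolve_right hz
        apply hw₁ a
        rw [hab, hb, zero_smul, add_zero]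
      · exact h2
    -- the injection
    refine card_le_of_inj (fun g : X => op m F g z) ?_ (n := 2 * m) ?_ le_rfl
    · intro g h hgh
      have hgh' : op m F (g : Sp) z = op m F (h : Sp) z := hgh
      have hk : ((h : Sp)⁻¹ * (g : Sp)) ∈ X := X.mul_mem (X.inv_mem h.2) g.2
      have hkz : op m F ((h : Sp)⁻¹ * (g : Sp)) z = z := by
        rw [map_mul, Module.End.mul_apply, hgh', ← Module.End.mul_apply, ← map_mul, inv_mul_cancel, map_one]
        rfl
      have hku : op m F ((h : Sp)⁻¹ * (g : Sp)) u = u := hu' _ hk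
      have h2 : (h : Sp)⁻¹ * (g : Sp) = 1 := by
        apply eq_of_op
        intro x
        rw [map_one, Module.End.one_apply]
        obtain ⟨w, hw, c, hc, rfl⟩ := S.decomp x
        obtain ⟨a, b, rfl⟩ := hspan c hc
        rw [map_add, map_add, map_smul, map_smul, hku, hkz]
        congr 1
        have h3 : w ∈ U' := hUW ▸ hw
        obtain ⟨d, hd⟩ := h3.2 _ hk
        have h4 : ff (op m F ((h : Sp)⁻¹ * (g : Sp)) w) (op m F ((h : Sp)⁻¹ * (g : Sp)) z) = ff w z :=
          op_form ((h : Sp)⁻¹ * (g : Sp)) w z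
        rw [hkz, hd, sympForm_add_left, sympForm_smul_left, add_eq_left] at h4
        have h5 : ff u z ≠ 0 := by
          rw [sympForm_swap]
          exact neg_ne_zero.2 hz
        rw [hd, (mul_eq_zero.1 h4).resolve_right h5, zero_smul, add_zero]
      exact Subtype.ext (inv_mul_eq_one.1 h2).symm
    · rw [Nat.card_eq_fintype_card, Fintype.card_fun, Fintype.card_sum, Fintype.card_fin, two_mul]
  · -- `W` is fixed
    have hW : ∀ w ∈ W (op m F y), ∀ g ∈ X, op m F g w = w := fun w hw g hg => by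
      have h2 : w ∈ U := h1 ▸ hw
      exact h2.2 g hg
    have hC : ∀ c ∈ C (op m F y), ∀ g ∈ X, op m F g c ∈ C (op m F y) := by
      intro c hc g hg
      obtain ⟨w', hw', c', hc', hd⟩ := S.decomp (op m F g c)
      have h2 : w' = 0 := by
        apply eq_zero_of_forall_sympForm_left (m := m) (F := F)
        intro x
        obtain ⟨w, hw, d, hd', rfl⟩ := S.decomp x
        rw [sympForm_add_left, horth d hd' w' hw', add_zero]
        have h3 : ff (op m F g w) (op m F g c) = ff w c := op_form g w c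
        rw [hW w hw g hg, hd, sympForm_add_right, sympForm_swap w c', horth c' hc' w hw, neg_zero, add_zero,
          sympForm_swap w c, horth c hc w hw, neg_zero] at h3
        exact h3
      rw [hd, h2, zero_add]
      exact hc'
    have b : Basis (Fin 2) F (C (op m F y)) := Module.finBasisOfFinrankEq F _ hCdim
    refine card_le_of_inj (fun g : X => fun i : Fin 2 => (⟨op m F g (b i), hC _ (b i).2 g g.2⟩ : C (op m F y))) ?_
      (n := 4) ?_ (by omega)
    · intro g h hgh
      apply Subtype.ext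
      apply eq_of_op
      intro x
      obtain ⟨w, hw, c, hc, rfl⟩ := S.decomp x
      rw [map_add, map_add, hW w hw g g.2, hW w hw h h.2]
      congr 1
      have h2 : ((op m F (g : Sp)).comp (C (op m F y)).subtype) = ((op m F (h : Sp)).comp (C (op m F y)).subtype) := by
        apply b.ext
        intro i
        exact congrArg Subtype.val (congrFun hgh i)
      exact LinearMap.congr_fun h2 ⟨c, hc⟩
    · have hfin : Finite (C (op m F y)) := Module.finite_of_finite F
      have := Fintype.ofFinite (C (op m F y))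
      rw [Nat.card_eq_fintype_card, Fintype.card_fun, Fintype.card_fin,
        Module.card_eq_pow_finrank (K := F) (V := C (op m F y)), hCdim, ← pow_mul]

/-- passing to a central quotient -/
theorem card_le_of_central {G K : Type*} [Group G] [Group K] [Finite G] (π : G →* K) (hπ : Function.Surjective π)
    (hZ : π.ker ≤ center G) {p : ℕ} [hp : Fact p.Prime] {x : G} {B : ℕ}
    (h : ∀ P : Subgroup G, IsPGroup p P → x ∈ Subgroup.normalizer (P : Set G) → Nat.card P ≤ B) (Q : Subgroup K)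
    (hQ : IsPGroup p Q) (hx : π x ∈ Subgroup.normalizer (Q : Set K)) : Nat.card Q ≤ B := by
  have hK : Finite K := Finite.of_surjective π hπ
  obtain ⟨n, hn⟩ := IsPGroup.iff_card.1 hQ
  obtain ⟨P⟩ := (inferInstance : Nonempty (Sylow p ↥(Q.comap π)))
  obtain ⟨hPn, htop⟩ := Quot.normal_of_central (π.ker.subgroupOf (Q.comap π))
    (by
      intro z hz
      rw [mem_center_iff]
      intro g
      exact Subtype.ext (mem_center_iff.1 (hZ (mem_subgroupOf.1 hz)) g)) ((Quot.index_ker π hπ Q).trans hn) P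
  have hxH : x ∈ Subgroup.normalizer ((Q.comap π : Subgroup G) : Set G) := by
    rw [Subgroup.mem_normalizer_iff] at hx ⊢
    intro g
    rw [mem_comap, mem_comap, map_mul, map_mul, map_inv]
    exact hx _
  have hle := h _ (P.isPGroup'.map _) (Quot.mem_normalizer_map P hPn hxH)
  refine le_trans ?_ hle
  have hQP : Q ≤ ((P : Subgroup ↥(Q.comap π)).map (Q.comap π).subtype).map π := by
    intro y hy
    obtain ⟨g, rfl⟩ := hπ y
    have h1 : (⟨g, hy⟩ : ↥(Q.comap π)) ∈ (P : Subgroup ↥(Q.comap π)) ⊔ π.ker.subgroupOf (Q.comap π) := by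
      rw [htop]
      exact mem_top _
    obtain ⟨a, ha, z, hz, he⟩ := (Subgroup.mem_sup_of_normal_left (s := (P : Subgroup ↥(Q.comap π)))).1 h1
    have h2 : g = (a : G) * z := (congrArg Subtype.val he).symm
    have h3 : π (z : G) = 1 := mem_subgroupOf.1 hz
    refine ⟨a, ⟨a, ha, rfl⟩, ?_⟩
    rw [h2, map_mul, h3, mul_one]
  have h4 := Nat.le_of_dvd Nat.card_pos (card_dvd_of_le hQP)
  exact h4.trans (Nat.le_of_dvd Nat.card_pos (Subgroup.card_map_dvd _ _))

/-- **Subgroups of odd order with elements of order `r₁`.** -/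
theorem odd_one (hm : 3 ≤ m) {p f : ℕ} [hp : Fact p.Prime] (hF : Fintype.card F = p ^ f) {l : ℕ}
    (hppd : Ppd (Fintype.card F) (2 * (m - 1)) l) (H : Subgroup (PSp m F)) (hH : Odd (Nat.card H))
    (hl : l ∣ Nat.card H) : v p H ≤ 2 * m * f + (f + (2 * (m - 1)).factorization p) := by
  have hle := hppd.le (by omega)
  obtain ⟨hf, hpq⟩ := card_ne_one hp.1 hF
  have hpl : p ≠ l := by
    rintro rfl
    exact hppd.not_dvd hpq
  have hpF : (p : F) = 0 := by
    have := charP_of_card hp.1 hF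
    exact CharP.cast_eq_zero F p
  refine H160.PD.odd_bound_of_uniq hp.1 hppd.prime hpl (uniq_one hm hppd) ?_ ?_ H hH hl
  · intro X hX x hx hxo
    obtain ⟨y, rfl, hy⟩ := exists_lift (by omega) hppd.prime (by omega) x hxo
    have h1 := card_le_of_central (pr m F) surj_pr ker_pr.le (x := y) (B := Fintype.card F ^ (2 * m))
      (fun P hP hyP => card_pgroup_one hm hpF hy hppd hP hyP) X hX hx
    obtain ⟨k, hk⟩ := IsPGroup.iff_card.1 hX
    rw [hk, hF, ← pow_mul] at h1
    have h2 := (Nat.pow_le_pow_iff_right hp.1.one_lt).1 h1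
    rw [v, hk, hp.1.factorization_pow, Finsupp.single_eq_same]
    rw [mul_comm (2 * m)]
    exact h2
  · intro x hx
    have h1 := (card_norm_pr (by omega) hppd (by omega) (by omega) (by omega) hx).trans
      (Nat.mul_dvd_mul_right (cent_one_pr hm hppd hx) _)
    refine (v_le_of_dvd h1 (mul_ne_zero (cent_one_ne hm) (by omega))).trans ?_
    rw [Nat.factorization_mul (cent_one_ne hm) (by omega), Finsupp.add_apply, cent_one_factorization hm hp.1 hF]

end Cfsg.Agent.H767.PD
end

-- part: H767/PD/Three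
section
/-!
# The row of `PSp_2m(q)`, `m ≥ 3` (helper767, S4246 row PSp)
-/

set_option autoImplicit false
set_option linter.unusedSectionVars false

namespace Cfsg.Agent.H767.PD

open Cfsg Module Matrix Subgroup Cfsg.Agent.H568 Cfsg.Agent.H689 Cfsg.Agent.H458 Cfsg.Agent.H458.Zs
open Cfsg.Agent.H458.SpOp Cfsg.Agent.H458.SpAut
open Cfsg.Agent.ClassicalGeometry.SympBasic Cfsg.Agent.ClassicalGeometry.SympAutSemi
open Cfsg.Agent.H160.PD (v Fx mem_Fx Uniq out Good Inc Two Row)

theorem three_pow_ge (n : ℕ) : 2 * n + 1 ≤ 3 ^ n := by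
  induction n with
  | zero => simp
  | succ n ih => rw [pow_succ]; omega

theorem fact_small {p n : ℕ} (hp : p.Prime) (hp2 : p ≠ 2) (hn : 1 ≤ n) : 2 * n.factorization p + 1 ≤ n := by
  have h1 : p ^ n.factorization p ≤ n := Nat.le_of_dvd (by omega) (Nat.ordProj_dvd n p)
  have h2 : 3 ^ n.factorization p ≤ p ^ n.factorization p := by
    apply Nat.pow_le_pow_left
    have := hp.two_le
    omega
  have h3 := three_pow_ge (n.factorization p)
  omega

theorem fact_two_mul {p n : ℕ} (hp : p.Prime) (hp2 : p ≠ 2) (hn : 1 ≤ n) :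
    (2 * n).factorization p = n.factorization p := by
  have h1 : (2 : ℕ).factorization p = 0 := by
    apply Nat.factorization_eq_zero_of_not_dvd
    intro h
    exact hp2 ((Nat.prime_dvd_prime_iff_eq hp Nat.prime_two).1 h)
  rw [Nat.factorization_mul (by norm_num) (by omega), Finsupp.add_apply, h1, zero_add]

variable {m : ℕ} {F : Type} [Field F] [Fintype F] {p f : ℕ}

local notation "Sp" => Matrix.symplecticGroup (Fin m) F

/-- **`Inc`.** -/
theorem inc (hZ : center (PSp m F) = ⊥) (hm : 3 ≤ m) [hp : Fact p.Prime] (hF : Fintype.card F = p ^ f) {r₀ r₁ : ℕ}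
    (h0 : Ppd p (2 * m * f) r₀) (h0' : Ppd (Fintype.card F) (2 * m) r₀)
    (h1 : Ppd (Fintype.card F) (2 * (m - 1)) r₁) : Inc (PSp m F) r₀ r₁ := by
  intro b hb hb2 x hx hbx y hy hby
  have hf := (card_ne_one hp.1 hF).1
  have hpos : 0 < 2 * m * f := Nat.mul_pos (by omega) (by omega)
  have hle0 := h0'.le (by omega)
  have hle1 := h1.le (by omega)
  obtain ⟨s, x', hs, hbs, hx', -, hsx⟩ := inner_of_fix hZ (by omega) (by omega) hF h0 hpos (by omega) (by omega)
    hb hb2 hx hbx
  obtain ⟨y', rfl, hy'⟩ := exists_lift (by omega) h1.prime (by omega) y hy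
  rw [hbs] at hby
  have hsy : s * y' = y' * s := Quot.comm_of_conj (pr m F) ker_pr.le (coprime_ker (by omega) h1.prime (by omega))
    (by rw [← hy', pow_orderOf_eq_one]) hby
  have ht : (orderOf s).Prime := hs ▸ hb
  have ht2 : orderOf s ≠ 2 := hs ▸ hb2
  have hd : orderOf s ∣ Fintype.card F ^ m + 1 :=
    orderOf_dvd_of_pow_eq_one (pow_eq_one hx' h0' (by omega) hsx)
  have hnd : ¬ orderOf s ∣ Fintype.card F ^ (m - 1) + 1 := by
    intro h
    rw [dvd_iff'] at hd h
    have h6 : (Fintype.card F : ZMod (orderOf s)) ^ m =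
        (Fintype.card F : ZMod (orderOf s)) ^ (m - 1) * (Fintype.card F : ZMod (orderOf s)) := by
      rw [← pow_succ, Nat.sub_add_cancel (by omega)]
    rw [h, hd] at h6
    have h7 : (Fintype.card F : ZMod (orderOf s)) = 1 := by linear_combination h6
    rw [h7, one_pow] at h
    apply two_ne ht ht2
    linear_combination h
  obtain ⟨w, hw0, hw⟩ := exists_fixed_of_comm hy' h1 hm hsy ht (pow_orderOf_eq_one s) hnd
  have h2 := eq_one_of_fixed hx' h0' (by omega) hsx hw0 hw
  rw [h2, orderOf_one] at ht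
  exact ht.one_lt.ne rfl

/-- **The row for `m ≥ 3`.** -/
theorem row_three (hZ : center (PSp m F) = ⊥) (hm : 3 ≤ m) [hp : Fact p.Prime] (hF : Fintype.card F = p ^ f)
    (h3 : ¬ (p = 2 ∧ 2 * m * f = 6)) (h4 : ¬ (p = 2 ∧ 2 * (m - 1) * f = 6)) : Row (PSp m F) := by
  obtain ⟨hf, hpq⟩ := card_ne_one hp.1 hF
  have hkm : 3 * f ≤ m * f := Nat.mul_le_mul_right f hm
  have hkm1 : 2 * f ≤ (m - 1) * f := Nat.mul_le_mul_right f (by omega)
  have hmm : (m - 1) * f + f = m * f := by
    rw [← Nat.succ_mul]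
    congr 1
    omega
  have e1 : 2 * m * f = 2 * (m * f) := by ring
  have e2 : 2 * (m - 1) * f = 2 * ((m - 1) * f) := by ring
  obtain ⟨r₀, h0⟩ := exists_ppd (q := p) (k := 2 * m * f) hp.1.two_le (by omega) h3
  obtain ⟨r₁, h1⟩ := exists_ppd (q := p) (k := 2 * (m - 1) * f) hp.1.two_le (by omega) h4
  have h0' : Ppd (Fintype.card F) (2 * m) r₀ := by
    rw [hF]; exact ppd_field (by omega) (by rw [mul_comm]; exact h0)
  have h1' : Ppd (Fintype.card F) (2 * (m - 1)) r₁ := by
    rw [hF]; exact ppd_field (by omega) (by rw [mul_comm]; exact h1)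
  have hle0 := h0.le (by omega)
  have hle1 := h1.le (by omega)
  have h22 : m = 2 → 3 ≤ Fintype.card F := by omega
  have hoc : (out (PSp m F)).factorization p = f.factorization p := v_out_char hZ (by omega) h22 hF (by omega)
  have hvS : v p (PSp m F) = m ^ 2 * f := v_psp_char (by omega) hF
  have hvf : f.factorization p < f := Nat.factorization_lt p (by omega)
  have hm2 : m ^ 2 * f = m * (m * f) := by ring
  have hm3 : 3 * (m * f) ≤ m * (m * f) := Nat.mul_le_mul_right _ hm
  refine (Two.row hZ (p := p) (r₀ := r₀) (r₁ := r₁) (c₀ := 0) (c₁ := f) (cE := f)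
    (m₀ := (2 * m).factorization p) (m₁ := 2 * m * f + (f + (2 * (m - 1)).factorization p)) ?_)
  refine
    { prime := hp.1
      good₀ := good_of hZ (by omega) h22 hF (by omega) le_rfl h0'
      good₁ := good_of hZ (by omega) h22 hF (j := m - 1) (by omega) (by omega) h1'
      cent₀ := fun x hx => (v_cent_zero (by omega) hp.1 hF h0' hx).le
      cent₁ := fun x hx => v_cent_one hm hp.1 hF h1' hx
      noOdd := noOdd hm h0' h1'
      inc := inc hZ hm hF h0 h0' h1'
      syl₀ := ?_
      syl₁ := ?_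
      cc := ?_
      num := ?_
      odd₀ := fun _ H hH hr => odd_zero (by omega) hF h0' H hH hr
      odd₁ := fun _ H hH hr => odd_one hm hF h1' H hH hr
      n₀ := ?_
      n₁ := ?_
      n₀₁ := ?_ }
  · intro b hb hb2 hbp x hx hbx
    obtain ⟨s, -, hs, hbs, -, -, -⟩ := inner_of_fix hZ (by omega) h22 hF h0 (by omega) (by omega) (by omega)
      hb hb2 hx hbx
    have h5 := v_Fx_inner (by omega) hp.1 hF hbs (hs ▸ hb) (hs ▸ hb2) (hs ▸ hbp)
    rw [hoc, hvS, max_self]
    omega
  · intro b hb hb2 hbp x hx hbx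
    obtain ⟨s, -, hs, hbs, -, -, -⟩ := inner_of_fix hZ (by omega) h22 hF h1 (by omega) (by omega) (by omega)
      hb hb2 hx hbx
    have h5 := v_Fx_inner (by omega) hp.1 hF hbs (hs ▸ hb) (hs ▸ hb2) (hs ▸ hbp)
    rw [hoc, hvS, max_eq_right (by omega)]
    omega
  · rw [hoc, hvS]
    omega
  · intro t ht ht2 htp htS _ _
    have htq : ¬ t ∣ Fintype.card F := by
      intro h
      rw [hF] at h
      exact htp ((Nat.prime_dvd_prime_iff_eq ht hp.1).1 (ht.dvd_of_dvd_pow h))
    have hvo : (out (PSp m F)).factorization t = f.factorization t := v_out_odd hZ (by omega) h22 hF ht ht2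
    by_cases c0 : Ppd (Fintype.card F) (2 * m) t
    · left
      rw [hvo]
      exact ⟨lt_v (by omega) hF ht htq ht2 (by omega) le_rfl ((c0.iff _).2 dvd_rfl), fun y hy => by
        rw [v_cent_zero (by omega) hp.1 hF c0 hy]
        exact Nat.zero_le _⟩
    by_cases c1 : Ppd (Fintype.card F) (2 * (m - 1)) t
    · left
      rw [hvo]
      exact ⟨lt_v (by omega) hF ht htq ht2 (j := m - 1) (by omega) (by omega) ((c1.iff _).2 dvd_rfl), fun y hy =>
        v_cent_one hm hp.1 hF c1 hy⟩
    right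
    intro x y hx hy
    have hvt : v t (PSp m F) = ∑ i ∈ Finset.range m, (Fintype.card F ^ (2 * (i + 1)) - 1).factorization t := by
      rw [v_psp_odd (by omega) ht ht2, v_sp_eq htq]
    have hpos : 0 < v t (PSp m F) := (H160.PD.v_pos ht).2 htS
    have h5 : v t (centralizer {x}) ≤ (Fintype.card F ^ m + 1).factorization t :=
      v_le_of_dvd (cent_zero_pr (by omega) h0' hx) (by omega)
    have h6 := v_le_of_dvd (t := t) (cent_one_pr hm h1' hy) (cent_one_ne hm)
    rw [hvo, hvt]
    rw [hvt] at hpos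
    rw [hF] at c0 c1 hpos h5 h6 htq ⊢
    have h7 := num_ineq hp.1 hf hm ht ht2 c0 c1 hpos
    rw [Nat.factorization_eq_zero_of_not_dvd htq] at h7
    omega
  · intro hp2
    have h5 := fact_small hp.1 hp2 (n := m) (by omega)
    rw [fact_two_mul hp.1 hp2 (by omega), hoc, hvS]
    have h6 : m ≤ m * f := Nat.le_mul_of_pos_right m (by omega)
    omega
  · intro hp2
    have h5 := fact_small hp.1 hp2 (n := m - 1) (by omega)
    have h7 := fact_small hp.1 hp2 (n := f) (by omega)
    rw [fact_two_mul hp.1 hp2 (by omega), hoc, hvS]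
    have h6 : m ≤ m * f := Nat.le_mul_of_pos_right m (by omega)
    obtain ⟨k, rfl⟩ : ∃ k, m = k + 3 := ⟨m - 3, by omega⟩
    have h8 : k ≤ k * f := Nat.le_mul_of_pos_right k (by omega)
    have h9 : (k + 3) ^ 2 * f = k * (k * f) + 6 * (k * f) + 9 * f := by ring
    have h10 : 2 * (k + 3) * f = 2 * (k * f) + 6 * f := by ring
    rw [h9, h10]
    have h11 : 0 ≤ k * (k * f) := Nat.zero_le _
    simp only [show k + 3 - 1 = k + 2 by omega] at *
    omega
  · intro hp2
    have h5 := fact_small hp.1 hp2 (n := m - 1) (by omega)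
    have h5' := fact_small hp.1 hp2 (n := m) (by omega)
    have h7 := fact_small hp.1 hp2 (n := f) (by omega)
    rw [fact_two_mul hp.1 hp2 (by omega), fact_two_mul hp.1 hp2 (by omega), hoc, hvS]
    obtain ⟨k, rfl⟩ : ∃ k, m = k + 3 := ⟨m - 3, by omega⟩
    have h8 : k ≤ k * f := Nat.le_mul_of_pos_right k (by omega)
    have h9 : (k + 3) ^ 2 * f = k * (k * f) + 6 * (k * f) + 9 * f := by ring
    have h10 : 2 * (k + 3) * f = 2 * (k * f) + 6 * f := by ring
    rw [h9, h10]
    have h11 : 0 ≤ k * (k * f) := Nat.zero_le _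
    simp only [show k + 3 - 1 = k + 2 by omega] at *
    omega

end Cfsg.Agent.H767.PD
end
end

-- part: H767/PD/RowPsp
section
prune_inst 0x3170390464e202000000851490201c22e2000400004884000c020b060e89c4220980a860ae100100102a008500310000020000108040000004000000011d00a0900314063110ac08160099000000000000000000000000000000000000000004000000002
set_option linter.all false
open scoped Cfsg.Agent.FastGrp

-- part: H767/PD/Small
section
/-!
# The rows of `Sp_6(2)` and `Sp_8(2)` (helper767, S4246 row PSp)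
-/

set_option autoImplicit false
set_option linter.unusedSectionVars false

namespace Cfsg.Agent.H767.PD

open Cfsg Module Matrix Subgroup Cfsg.Agent.H568 Cfsg.Agent.H689 Cfsg.Agent.H458 Cfsg.Agent.H458.Zs
open Cfsg.Agent.H458.SpOp Cfsg.Agent.H458.SpAut
open Cfsg.Agent.ClassicalGeometry.SympBasic Cfsg.Agent.ClassicalGeometry.SympAutSemi
open Cfsg.Agent.H160.PD (v Fx mem_Fx Uniq out Good One Row)

variable {m : ℕ} {F : Type} [Field F] [Fintype F]

local notation "Sp" => Matrix.symplecticGroup (Fin m) F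

theorem inner_of_two (hZ : center (PSp m F) = ⊥) (hm : 3 ≤ m) (hF : Fintype.card F = 2) {b : MulAut (PSp m F)}
    (hb : (orderOf b).Prime) (hb2 : orderOf b ≠ 2) :
    ∃ s : Sp, orderOf s = orderOf b ∧ b = MulAut.conj (pr m F s) := by
  haveI : Fact (Nat.Prime 2) := ⟨Nat.prime_two⟩
  have hodd : Odd (orderOf b) := hb.odd_of_ne_two hb2
  rcases inner_or_field (by omega) (by omega) hodd (pow_orderOf_eq_one b) with
    ⟨s', hs'⟩ | ⟨g, φ, c, hc, hs, hφ, hg⟩
  swap
  · exfalso
    have h1 : Nat.card (F ≃+* F) = 1 := Lib.FieldAutCard.card_ringAut (p := 2) (f := 1) le_rfl (by rw [hF, pow_one])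
    have := (Nat.card_eq_one_iff_unique.1 h1).1
    exact hφ (Subsingleton.elim _ _)
  have hso : orderOf s' = orderOf b := by
    rw [hs']
    exact (orderOf_conj hZ s').symm
  obtain ⟨s, rfl, hs⟩ := exists_lift (by omega) hb hb2 s' hso
  exact ⟨s, hs, hs'⟩

/-- **The row from one prime, `q = 2`.** -/
theorem row_small (hZ : center (PSp m F) = ⊥) (hm : 3 ≤ m) (hF : Fintype.card F = 2) {r j : ℕ} (hr : r.Prime)
    (hr2 : r ≠ 2) (hj : 1 ≤ j) (hjm : j ≤ m) (hd : r ∣ 2 ^ (2 * j) - 1)
    (cent : ∀ y : Sp, orderOf y = r → ¬ 2 ∣ Nat.card ↥(centralizer ({y} : Set Sp)))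
    (reg : ∀ s y : Sp, (orderOf s).Prime → orderOf s ≠ 2 → orderOf y = r → s * y = y * s →
      ¬ 2 ∣ Nat.card ↥(centralizer ({s} : Set Sp))) : _root_.Cfsg.Agent.H160.PD.Row (PSp m F) := by
  haveI : Fact (Nat.Prime 2) := ⟨Nat.prime_two⟩
  have hF' : Fintype.card F = 2 ^ 1 := by rw [hF, pow_one]
  have hrq : ¬ r ∣ Fintype.card F := by
    rw [hF]
    intro h
    exact hr2 ((Nat.prime_dvd_prime_iff_eq hr Nat.prime_two).1 h)
  have ho : (out (PSp m F)).factorization 2 = 0 := by
    rw [v_out_char hZ (by omega) (by omega) hF' (by omega), Nat.factorization_one, Finsupp.zero_apply]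
  refine One.row hZ (p := 2) (r := r) (c := 0) (e := 0) (m := 0) ?_
  refine
    { prime := Nat.prime_two
      good := ⟨hr, hr2, ?_⟩
      cent := ?_
      reg := ?_
      syl := ?_
      odd := fun h => absurd rfl h
      inv := fun h => absurd rfl h
      two₀ := fun h => absurd rfl h
      two₁ := fun h => absurd rfl h }
  · rw [v_out_odd hZ (by omega) (by omega) hF' hr hr2]
    exact lt_v (by omega) hF' hr hrq hr2 hj hjm (by rw [hF]; exact hd)
  · intro x hx
    obtain ⟨y, rfl, hy⟩ := exists_lift (by omega) hr hr2 x hx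
    rw [v, Nat.factorization_eq_zero_of_not_dvd]
    intro h
    exact cent y hy (h.trans (card_cent_pr y))
  · intro b hb hb2 _ x hx hbx
    obtain ⟨s, hs, hbs⟩ := inner_of_two hZ hm hF hb hb2
    obtain ⟨y, rfl, hy⟩ := exists_lift (by omega) hr hr2 x hx
    rw [hbs] at hbx
    have hsy : s * y = y * s := Quot.comm_of_conj (pr m F) ker_pr.le (coprime_ker (by omega) hr hr2)
      (by rw [← hy, pow_orderOf_eq_one]) hbx
    refine (v_Fx_le hbs 2).trans ?_
    rw [v, Nat.factorization_eq_zero_of_not_dvd (reg s y (hs ▸ hb) (hs ▸ hb2) hy hsy)]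
  · intro b hb hb2 _
    obtain ⟨s, hs, hbs⟩ := inner_of_two hZ hm hF hb hb2
    have h1 := v_Fx_inner (by omega) Nat.prime_two hF' hbs (hs ▸ hb) (hs ▸ hb2) (hs ▸ hb2)
    rw [ho, v_psp_char (by omega) hF']
    have h2 : 3 ^ 2 ≤ m ^ 2 := Nat.pow_le_pow_left hm 2
    rw [max_self]
    omega

/-- **The row of `Sp_8(2)`.** -/
theorem row_eight (hZ : center (PSp 4 F) = ⊥) (hF : Fintype.card F = 2) : _root_.Cfsg.Agent.H160.PD.Row (PSp 4 F) := by
  have h17 : Ppd (Fintype.card F) (2 * 4) 17 := by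
    rw [hF]
    refine ppd_of (by norm_num) (by norm_num) (by norm_num) (by norm_num) ?_
    intro j hj0 hj3
    interval_cases j <;> norm_num
  have hc : ∀ y : Matrix.symplecticGroup (Fin 4) F, orderOf y = 17 →
      Nat.card ↥(centralizer ({y} : Set (Matrix.symplecticGroup (Fin 4) F))) ∣ 17 := by
    intro y hy
    have := card_cent_zero hy h17 (by norm_num)
    rw [hF] at this
    simpa only [_root_.Nat.reducePow, _root_.Nat.reduceAdd] using this
  refine row_small hZ (by norm_num) hF (r := 17) (j := 4) (by norm_num) (by norm_num) (by norm_num) le_rfl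
    (by norm_num) ?_ ?_
  · intro y hy h
    exact absurd (h.trans (hc y hy)) (by norm_num)
  · intro s y hs _ hy hsy
    have h1 : orderOf s ∣ 17 := by
      refine dvd_trans ?_ (hc y hy)
      have hmem : s ∈ centralizer ({y} : Set (Matrix.symplecticGroup (Fin 4) F)) :=
        mem_centralizer_singleton_iff.2 hsy
      rw [← Subgroup.orderOf_mk s hmem]
      exact _root_.orderOf_dvd_natCard _
    have h2 : orderOf s = 17 := (Nat.prime_dvd_prime_iff_eq hs (by norm_num)).1 h1
    intro h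
    exact absurd (h.trans (hc s h2)) (by norm_num)

section Six

/-- involutions do not commute with elements of order seven of `Sp_6(2)` -/
theorem no_invol (hF : Fintype.card F = 2) {g y : Matrix.symplecticGroup (Fin 3) F} (hg : g * g = 1) (hg1 : g ≠ 1)
    (hy : orderOf y = 7) (hgy : g * y = y * g) : False := by
  classical
  have h7 : Ppd (Fintype.card F) 3 7 := by
    rw [hF]
    refine ppd_of (by norm_num) (by norm_num) (by norm_num) (by norm_num) ?_
    intro j hj0 hj3
    interval_cases j <;> norm_num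
  have hch : CharP F 2 := charP_of_card (f := 1) Nat.prime_two (by rw [hF, pow_one])
  have h2 : (2 : F) = 0 := by exact_mod_cast CharP.cast_eq_zero F 2
  have hneg : ∀ a : F, -a = a := fun a => by linear_combination (-a) * h2
  set Y := op 3 F y with hY
  set G := op 3 F g with hG
  have hpow : Y ^ 7 = 1 := by rw [hY, ← map_pow, ← hy, pow_orderOf_eq_one, map_one]
  have hfr : finrank F (Fin 3 ⊕ Fin 3 → F) = 6 := finrank_V
  have hB : ∀ a b, sympBilin 3 F (Y a) (Y b) = sympBilin 3 F a b := op_form y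
  have hBg : ∀ a b, sympBilin 3 F (G a) (G b) = sympBilin 3 F a b := op_form g
  have hsw : ∀ a b, sympBilin 3 F a b = sympBilin 3 F b a := fun a b => by
    rw [sympBilin_apply, sympBilin_apply, sympForm_swap, hneg]
  -- `V = W ⊕ C`
  have hinf : W Y ⊓ C Y = ⊥ := by
    rw [eq_bot_iff]
    intro w hw
    rw [Submodule.mem_bot]
    exact disj_of hpow h7 hw.1 (mem_C.1 hw.2)
  have hrn : finrank F (W Y) + finrank F (C Y) = 6 := by
    rw [← hfr]
    exact LinearMap.finrank_range_add_finrank_ker (Y - 1)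
  have hsup : W Y ⊔ C Y = ⊤ := by
    apply Submodule.eq_top_of_finrank_eq
    have h3 := Submodule.finrank_sup_add_finrank_inf_eq (W Y) (C Y)
    rw [hinf, finrank_bot] at h3
    omega
  -- the form on `C`
  have heven : Even (finrank F (C Y)) := by
    let β : LinearMap.BilinForm F (C Y) := (sympBilin 3 F).domRestrict₁₂ (C Y) (C Y)
    have hβ : ∀ a b : C Y, β a b = sympBilin 3 F a b := fun _ _ => rfl
    have halt : β.IsAlt := fun a => by
      rw [hβ]; exact sympBilin_isAlt _
    have h3 := Cfsg.Agent.H174.even_finrank_range_of_isAlt β halt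
    have hker : LinearMap.ker β = ⊥ := by
      rw [LinearMap.ker_eq_bot']
      intro a ha
      apply Subtype.ext
      refine nondeg _ fun v => ?_
      rw [hsw]
      have hv : v ∈ W Y ⊔ C Y := hsup ▸ Submodule.mem_top
      obtain ⟨w, hw, c, hc, rfl⟩ := Submodule.mem_sup.1 hv
      rw [map_add, Sit.orth (sympBilin 3 F) hB a.2 hw, zero_add]
      have := LinearMap.congr_fun ha ⟨c, hc⟩
      exact this
    have h4 := LinearMap.finrank_range_add_finrank_ker β
    rw [hker, finrank_bot, add_zero] at h4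
    rwa [h4] at h3
  have hC : C Y = ⊥ := by
    have h3 := dvd_finrank_of hpow h7 ⊤ (fun _ _ => Submodule.mem_top)
    rw [top_inf_eq, finrank_top, hfr] at h3
    have h4 : finrank F (C Y) ≠ 6 := by
      intro h5
      have h6 : C Y = ⊤ := Submodule.eq_top_of_finrank_eq (by rw [h5, hfr])
      have h7 : y = 1 := by
        apply SpOp.op_injective
        rw [map_one]
        refine LinearMap.ext fun v => ?_
        exact mem_C.1 (h6 ▸ Submodule.mem_top : v ∈ C Y)
      rw [h7, orderOf_one] at hy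
      omega
    apply Submodule.finrank_eq_zero.1
    obtain ⟨c, hc⟩ := heven
    obtain ⟨d, hd⟩ := h3
    omega
  have hsurj : ∀ v, ∃ a, Y a - a = v := by
    intro v
    have h3 : W Y = ⊤ := by
      rw [hC, sup_bot_eq] at hsup
      exact hsup
    exact mem_W.1 (h3 ▸ Submodule.mem_top : v ∈ W Y)
  have hGG : ∀ a, G (G a) = a := by
    intro a
    rw [hG, ← Module.End.mul_apply, ← map_mul, hg, map_one]
    rfl
  have hGY : ∀ a, G (Y a) = Y (G a) := comm_op hgy
  have hGs : ∀ a b, sympBilin 3 F (G a) b = sympBilin 3 F (G b) a := by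
    intro a b
    rw [← hBg (G a) b, hGG, hsw]
  have hQ : ∀ v, sympBilin 3 F (G v) v = 0 := by
    intro v
    obtain ⟨a, rfl⟩ := hsurj v
    have h3 : sympBilin 3 F (G (Y a)) (Y a) = sympBilin 3 F (G a) a := by rw [hGY, hB]
    rw [map_sub, map_sub, map_sub, LinearMap.sub_apply, LinearMap.sub_apply, h3, hGs a (Y a)]
    linear_combination (sympBilin 3 F (G a) a - sympBilin 3 F (G (Y a)) a) * h2
  -- the form
  let β : LinearMap.BilinForm F (Fin 3 ⊕ Fin 3 → F) := (sympBilin 3 F).comp (G - 1)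
  have hβ : ∀ a b, β a b = sympBilin 3 F (G a - a) b := fun _ _ => rfl
  have halt : β.IsAlt := fun a => by
    rw [hβ, map_sub, LinearMap.sub_apply, hQ, sympBilin_isAlt, sub_zero]
  have h3 := Cfsg.Agent.H174.even_finrank_range_of_isAlt β halt
  have hker : LinearMap.ker β = LinearMap.ker (G - 1) := by
    ext a
    rw [LinearMap.mem_ker, LinearMap.mem_ker]
    constructor
    · intro ha
      refine nondeg _ fun v => ?_
      rw [hsw]
      exact LinearMap.congr_fun ha v
    · intro ha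
      refine LinearMap.ext fun v => ?_
      have h5 : G a - a = 0 := ha
      rw [hβ, h5, map_zero]
  have h4 := LinearMap.finrank_range_add_finrank_ker β
  have h5 := LinearMap.finrank_range_add_finrank_ker (G - 1)
  rw [hker, hfr] at h4
  rw [hfr] at h5
  have h6 : LinearMap.range (G - 1) ≤ LinearMap.ker (G - 1) := by
    rintro _ ⟨a, rfl⟩
    rw [LinearMap.mem_ker, LinearMap.sub_apply, LinearMap.sub_apply, Module.End.one_apply, Module.End.one_apply,
      map_sub, hGG]
    have h8 : a - G a - (G a - a) = (2 : F) • (a - G a) := by module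
    rw [h8, h2, zero_smul]
  have h8 := Submodule.finrank_mono h6
  have h9 := dvd_finrank_of hpow h7 (LinearMap.ker (G - 1)) (by
    intro a ha
    have h10 : G a - a = 0 := ha
    change G (Y a) - Y a = 0
    rw [hGY, ← map_sub, h10, map_zero])
  rw [hC, inf_bot_eq, finrank_bot, Nat.sub_zero] at h9
  have h10 : finrank F (LinearMap.ker (G - 1)) ≠ 6 := by
    intro h11
    have h12 : LinearMap.ker (G - 1) = ⊤ := Submodule.eq_top_of_finrank_eq (by rw [h11, hfr])
    apply hg1
    apply SpOp.op_injective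
    rw [map_one]
    refine LinearMap.ext fun v => ?_
    have h13 : G v - v = 0 := (h12 ▸ Submodule.mem_top : v ∈ LinearMap.ker (G - 1))
    exact sub_eq_zero.1 h13
  obtain ⟨c, hc⟩ := h3
  obtain ⟨d, hd⟩ := h9
  omega

/-- **The row of `Sp_6(2)`.** -/
theorem row_six (hZ : center (PSp 3 F) = ⊥) (hF : Fintype.card F = 2) : _root_.Cfsg.Agent.H160.PD.Row (PSp 3 F) := by
  have h5 : Ppd (Fintype.card F) (2 * (3 - 1)) 5 := by
    rw [hF]
    refine ppd_of (by norm_num) (by norm_num) (by norm_num) (by norm_num) ?_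
    intro j hj0 hj3
    interval_cases j <;> norm_num
  have hcard : Nat.card (Matrix.symplecticGroup (Fin 3) F) = 2 ^ 9 * 3 ^ 4 * 5 * 7 := by
    rw [LieClassical.SympCount.card_symplecticGroup, hF]
    simp only [Finset.prod_range_succ, _root_.Nat.reducePow, _root_.Finset.range_one, _root_.Finset.prod_singleton, _root_.zero_add, _root_.mul_one, _root_.Nat.add_one_sub_one, _root_.Nat.reduceAdd, _root_.Nat.reduceMul]
  haveI : Fact (Nat.Prime 2) := ⟨Nat.prime_two⟩
  have hc : ∀ y : Matrix.symplecticGroup (Fin 3) F, orderOf y = 7 →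
      ¬ 2 ∣ Nat.card ↥(centralizer ({y} : Set (Matrix.symplecticGroup (Fin 3) F))) := by
    intro y hy h
    obtain ⟨⟨g, hg⟩, hgo⟩ := exists_prime_orderOf_dvd_card' 2 h
    rw [Subgroup.orderOf_mk] at hgo
    refine no_invol hF (g := g) (y := y) ?_ ?_ hy (mem_centralizer_singleton_iff.1 hg)
    · rw [← sq, ← hgo, pow_orderOf_eq_one]
    · rintro rfl
      rw [orderOf_one] at hgo
      omega
  refine row_small hZ le_rfl hF (r := 7) (j := 3) (by norm_num) (by norm_num) (by norm_num) le_rfl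
    (by norm_num) hc ?_
  intro s y hs hs2 hy hsy
  have hpd : orderOf s ∣ 2 ^ 9 * 3 ^ 4 * 5 * 7 := by rw [← hcard]; exact _root_.orderOf_dvd_natCard s
  have hpc : orderOf s = 3 ∨ orderOf s = 5 ∨ orderOf s = 7 := by
    rcases hs.dvd_mul.1 hpd with h1 | h1
    · rcases hs.dvd_mul.1 h1 with h1 | h1
      · rcases hs.dvd_mul.1 h1 with h1 | h1
        · exact absurd ((Nat.prime_dvd_prime_iff_eq hs Nat.prime_two).1 (hs.dvd_of_dvd_pow h1)) hs2
        · exact Or.inl ((Nat.prime_dvd_prime_iff_eq hs Nat.prime_three).1 (hs.dvd_of_dvd_pow h1))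
      · exact Or.inr (Or.inl ((Nat.prime_dvd_prime_iff_eq hs Nat.prime_five).1 h1))
    · exact Or.inr (Or.inr ((Nat.prime_dvd_prime_iff_eq hs (by norm_num)).1 h1))
  rcases hpc with h | h | h
  · exact absurd hsy (RowPSp.no_comm_six hF h hy)
  · exfalso
    have h1 := card_cent_one h h5 le_rfl
    rw [hF] at h1
    have h2 : 7 ∣ Nat.card ↥(centralizer ({s} : Set (Matrix.symplecticGroup (Fin 3) F))) := by
      have hmem : y ∈ centralizer ({s} : Set (Matrix.symplecticGroup (Fin 3) F)) :=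
        mem_centralizer_singleton_iff.2 hsy.symm
      rw [← hy, ← Subgroup.orderOf_mk y hmem]
      exact _root_.orderOf_dvd_natCard _
    exact absurd (h2.trans h1) (by norm_num)
  · exact hc s h

end Six

end Cfsg.Agent.H767.PD
end

-- part: H767/PD/Fld
section
/-!
# Fixed points of the field automorphisms of `PSp_2m(q)` (helper767, S4246 row PSp)
-/

set_option autoImplicit false
set_option linter.unusedSectionVars false

namespace Cfsg.Agent.H767.PD

open Cfsg Module Matrix Subgroup Cfsg.Agent.H568 Cfsg.Agent.H689 Cfsg.Agent.H458 Cfsg.Agent.H458.Zs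
open Cfsg.Agent.H458.SpOp Cfsg.Agent.H458.SpAut
open Cfsg.Agent.ClassicalGeometry.SympBasic Cfsg.Agent.ClassicalGeometry.SympAutSemi
open Cfsg.Agent.ClassicalGeometry.SympGamma
open Cfsg.Agent.H160.PD (v Fx mem_Fx Uniq out Good)

/-- the `p`-part of `|PGSp_2m(p^a)|` -/
theorem v_pgsp {F : Type} [Field F] [Fintype F] {m : ℕ} (hm : 1 ≤ m) {p a : ℕ} (hp : p.Prime)
    (hF : Fintype.card F = p ^ a) : v p (PGSp m F) ≤ m ^ 2 * a := by
  have hne : Nonempty (Fin m ⊕ Fin m) := ⟨Sum.inl ⟨0, by omega⟩⟩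
  have hJ : (J (Fin m) F) ≠ 0 := by
    intro h
    have := (isUnit_det_J (Fin m) F).ne_zero
    rw [h, det_zero] at this
    exact this rfl
  obtain ⟨d, hd, h3⟩ := Cfsg.Agent.H999.PslGraphSplit.card_proj hJ
  have h4 : Nat.card (PGSp m F) * Nat.card Fˣ = Nat.card ↥(Matrix.symplecticGroup (Fin m) F) * d := by
    rw [← Nat.card_congr (Cfsg.Agent.H999.PslGraphTwo.isoJ (m := m) (F := F)).toEquiv]
    exact h3
  have hu : Nat.card Fˣ ≠ 0 := Nat.card_pos.ne'
  have hd0 : d ≠ 0 := by rintro rfl; exact hu (zero_dvd_iff.1 hd)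
  have hpd : ¬ p ∣ d := by
    intro h
    have h5 := h.trans hd
    rw [Nat.card_units, Nat.card_eq_fintype_card, ← pow_one (Fintype.card F)] at h5
    exact not_dvd_sub hp (card_ne_one hp hF).2 Fintype.card_pos one_ne_zero h5
  have h5 : Nat.card (PGSp m F) ∣ Nat.card ↥(Matrix.symplecticGroup (Fin m) F) * d := ⟨_, h4.symm⟩
  have h6 := v_le_of_dvd (t := p) h5 (mul_ne_zero Nat.card_pos.ne' hd0)
  rw [Nat.factorization_mul Nat.card_pos.ne' hd0, Finsupp.add_apply, Nat.factorization_eq_zero_of_not_dvd hpd,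
    add_zero] at h6
  exact h6.trans (v_sp hp hF).le

variable {m : ℕ} {F : Type} [Field F] [Fintype F] {p f : ℕ}

local notation "Sp" => Matrix.symplecticGroup (Fin m) F

/-- **The `p`-part of the fixed points of the field automorphisms.** -/
theorem v_Fx_field (hZ : center (PSp m F) = ⊥) (hm : 2 ≤ m) (h22 : m = 2 → 3 ≤ Fintype.card F) [hp : Fact p.Prime]
    (hF : Fintype.card F = p ^ f) {b : MulAut (PSp m F)} (hb : (orderOf b).Prime) (hbp : orderOf b ≠ p)
    {g : semiSim m F} {φ : F ≃+* F} {c : F} (hc : c ≠ 0) (hs : IsSemi g.1 φ c) (hφ : φ ≠ RingEquiv.refl F)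
    (hg : Psi m F g = b) : v p (Fx b) ≤ m ^ 2 * (f / orderOf b) ∧ orderOf b ≤ f := by
  obtain ⟨hf, -⟩ := card_ne_one hp.1 hF
  haveI := charP_of_card hp.1 hF
  haveI : Fact (orderOf b).Prime := ⟨hb⟩
  have hnot : ¬ IsInnerDiagonalAutPSp b := by
    intro h
    have h1 : b ∈ inndiagPSp m F := Subgroup.subset_closure h
    obtain ⟨h', ⟨e, he, hh⟩, hb'⟩ := H966.PSpAut.mem_inndiag.1 h1
    obtain ⟨a, ha⟩ := exists_scal_of_Psi_eq_one (by omega : 1 ≤ m) (h'⁻¹ * g)
      (by rw [map_mul, map_inv, hb', hg, inv_mul_cancel])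
    have h2 : g = h' * (h'⁻¹ * g) := by rw [mul_inv_cancel_left]
    have h3 := hh.mul (isSemi_scal (m := m) a)
    have h4 : g.1 = h'.1 * scal m F a := by
      rw [← ha]
      exact congrArg Subtype.val h2
    rw [← h4] at h3
    exact hφ (IsSemi.unique (by omega : 1 ≤ m) hs h3).1
  obtain ⟨σ, α, hσ, hα⟩ := S2730.exists_phi hm h22 hbp b rfl hnot
  have htf : orderOf b ∣ f := by
    rw [← hσ, ← Lib.FieldAutCard.card_ringAut hf hF]
    exact _root_.orderOf_dvd_natCard σ
  have hle : orderOf b ≤ f := Nat.le_of_dvd hf htf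
  refine ⟨?_, hle⟩
  have hcl : IsFieldAutClassPSp b := by
    refine ⟨α⁻¹, σ, ?_, ?_⟩
    · rintro rfl
      have : orderOf (RingEquiv.refl F) = 1 := orderOf_one
      rw [this] at hσ
      exact hb.one_lt.ne hσ
    · have h1 : α⁻¹ * b * α⁻¹⁻¹ = H206.PspFix.phi m F σ := by
        rw [inv_inv]
        nth_rw 1 [hα]
        group
      rw [h1]
      exact H966.PSpAut.eq_Psi_frob.2 rfl
  have hft : f / orderOf b ≠ 0 := (Nat.div_pos hle hb.pos).ne'
  letI : Fintype (GaloisField p (f / orderOf b)) := Fintype.ofFinite _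
  have hcard : Fintype.card (GaloisField p (f / orderOf b)) = p ^ (f / orderOf b) := by
    rw [← Nat.card_eq_fintype_card]
    exact GaloisField.card p _ hft
  obtain ⟨-, ⟨iso⟩, -⟩ := S2712.result hF hf hm h22 b hcl hb rfl (GaloisField p (f / orderOf b)) hcard
  refine le_trans ?_ (v_pgsp (by omega : 1 ≤ m) hp.1 hcard)
  have hinn : ∀ s : PSp m F, MulAut.conj s ∈ inndiagPSp m F := by
    intro s
    obtain ⟨A, rfl⟩ := surj_pr (m := m) (F := F) s
    have hr : rho m F A ∈ semiSim m F := ⟨RingEquiv.refl F, 1, one_ne_zero, isSemi_rho A⟩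
    exact H966.PSpAut.mem_inndiag.2 ⟨⟨rho m F A, hr⟩, ⟨1, one_ne_zero, isSemi_rho A⟩, H966.PSpAut.Psi_rho A hr⟩
  let θ : Fx b →* ↥(inndiagPSp m F ⊓ centralizer {b}) :=
    { toFun := fun s => ⟨MulAut.conj (s : PSp m F), hinn s, by
        change _ ∈ centralizer _
        rw [mem_centralizer_singleton_iff]
        have h1 := H160.PD.mul_conj_mul_inv b (s : PSp m F)
        rw [s.2, mul_inv_eq_iff_eq_mul] at h1
        exact h1.symm⟩
      map_one' := Subtype.ext (map_one _)
      map_mul' := fun s t => Subtype.ext (map_mul _ _ _) }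
  have hθ : Function.Injective θ := by
    intro s t h
    exact Subtype.ext (H160.PD.conj_injective hZ (congrArg Subtype.val h))
  have hfin : Finite (PGSp m (GaloisField p (f / orderOf b))) := Finite.of_equiv _ iso.toEquiv
  refine v_le_of_dvd ?_ Nat.card_pos.ne'
  rw [← Nat.card_congr iso.toEquiv]
  exact card_dvd_of_injective θ hθ

end Cfsg.Agent.H767.PD
end

-- part: H767/PD/TwoDim
section
/-!
# The row of `PSp_4(q)` (helper767, S4246 row PSp)
-/

set_option autoImplicit false
set_option linter.unusedSectionVars false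

namespace Cfsg.Agent.H767.PD

open Cfsg Module Matrix Subgroup Cfsg.Agent.H568 Cfsg.Agent.H689 Cfsg.Agent.H458 Cfsg.Agent.H458.Zs
open Cfsg.Agent.H458.SpOp Cfsg.Agent.H458.SpAut
open Cfsg.Agent.ClassicalGeometry.SympBasic Cfsg.Agent.ClassicalGeometry.SympAutSemi
open Cfsg.Agent.H160.PD (v Fx mem_Fx Uniq out Good One Row)

variable {F : Type} [Field F] [Fintype F] {p f : ℕ}

theorem v_out_le (hZ : center (PSp 2 F) = ⊥) (h3 : 3 ≤ Fintype.card F) [hp : Fact p.Prime]
    (hF : Fintype.card F = p ^ f) : (out (PSp 2 F)).factorization p ≤ f := by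
  obtain ⟨hf, -⟩ := card_ne_one hp.1 hF
  have h1 : f.factorization p < f := Nat.factorization_lt p (by omega)
  by_cases h : p = 2
  · rw [out_eq hZ le_rfl (fun _ => h3) hF, if_pos ⟨rfl, h⟩, Nat.factorization_mul
      (mul_ne_zero (by norm_num) (gcd_ne _)) (by omega), Nat.factorization_mul (by norm_num) (gcd_ne _),
      Finsupp.add_apply, Finsupp.add_apply, gcd_fact_char hf, h, Nat.prime_two.factorization_self]
    rw [h] at h1
    omega
  · rw [v_out_char hZ le_rfl (fun _ => h3) hF (by omega)]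
    omega

/-- the `2`-parts -/
theorem two_num {q f p : ℕ} (hp : 1 < p) (hq : q = p ^ f) (hf : 1 ≤ f) (hodd : Odd q) :
    (q ^ 2 + 1).factorization 2 + f.factorization 2 + 3 <
      (q ^ (2 * 1) - 1).factorization 2 + (q ^ (2 * 2) - 1).factorization 2 := by
  have hq1 : 1 < q := by rw [hq]; exact Nat.one_lt_pow (by omega) hp
  have hne : q ^ 2 - 1 ≠ 0 := by
    have : 1 < q ^ 2 := Nat.one_lt_pow (by norm_num) hq1
    omega
  have h1 : q ^ (2 * 2) - 1 = (q ^ 2 + 1) * (q ^ 2 - 1) := by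
    rw [pow_mul]
    have := Nat.sq_sub_sq (q ^ 2) 1
    rw [one_pow] at this
    exact this
  have h2 : 3 ≤ (q ^ 2 - 1).factorization 2 := by
    rw [← Nat.prime_two.pow_dvd_iff_le_factorization hne]
    obtain ⟨k, rfl⟩ := hodd
    obtain ⟨c, hc⟩ := Nat.even_mul_succ_self k
    refine ⟨c, ?_⟩
    have h3 : (2 * k + 1) ^ 2 = 4 * (k * (k + 1)) + 1 := by ring
    rw [h3, hc]
    omega
  have h3 : 1 + f.factorization 2 ≤ (q ^ 2 - 1).factorization 2 := by
    have h4 : 2 ∣ (p ^ f) ^ 2 - 1 := by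
      rw [← hq]
      exact fact_dvd_of h2
    rw [hq]
    exact lte hp Nat.prime_two hf (by norm_num) h4
  rw [h1, Nat.factorization_mul (by omega) hne, Finsupp.add_apply, mul_one]
  omega
where
  fact_dvd_of {n : ℕ} (h : 3 ≤ n.factorization 2) : 2 ∣ n := by
    by_contra h1
    rw [Nat.factorization_eq_zero_of_not_dvd h1] at h
    omega

/-- **The row of `PSp_4(q)`.** -/
theorem row_two (hZ : center (PSp 2 F) = ⊥) (h3 : 3 ≤ Fintype.card F) [hp : Fact p.Prime]
    (hF : Fintype.card F = p ^ f) : _root_.Cfsg.Agent.H160.PD.Row (PSp 2 F) := by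
  obtain ⟨hf, hpq⟩ := card_ne_one hp.1 hF
  have h22 : 2 = 2 → 3 ≤ Fintype.card F := fun _ => h3
  obtain ⟨r, h0⟩ := exists_ppd (q := p) (k := 2 * 2 * f) hp.1.two_le (by omega) (by omega)
  have h0' : Ppd (Fintype.card F) (2 * 2) r := by
    rw [hF]; exact ppd_field (by omega) (by rw [mul_comm]; exact h0)
  have hle0 := h0.le (by omega)
  have hr2 : r ≠ 2 := by omega
  have hvo := v_out_le hZ h3 hF
  have hvS : v p (PSp 2 F) = 2 ^ 2 * f := v_psp_char (by norm_num) hF
  -- the elements commuting with an element of order `r`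
  have hs : ∀ s y : Matrix.symplecticGroup (Fin 2) F, (orderOf s).Prime → orderOf s ≠ 2 → orderOf y = r →
      s * y = y * s → Nat.card ↥(centralizer ({s} : Set (Matrix.symplecticGroup (Fin 2) F))) ∣
        Fintype.card F ^ 2 + 1 := by
    intro s y hs hs2 hy hsy
    have h1 : orderOf s ∣ Fintype.card F ^ 2 + 1 :=
      orderOf_dvd_of_pow_eq_one (pow_eq_one hy h0' (by norm_num) hsy)
    exact card_cent_zero rfl (RowPSp.ppd_four Fintype.card_pos hs hs2 h1) (by norm_num)
  have hnd : ¬ p ∣ Fintype.card F ^ 2 + 1 := not_dvd_add hp.1 hpq (by norm_num)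
  -- the `2`-part
  have htwo : p ≠ 2 → (Fintype.card F ^ 2 + 1).factorization 2 + (out (PSp 2 F)).factorization 2 <
      v 2 (PSp 2 F) := by
    intro hp2
    have hodd : Odd (Fintype.card F) := by
      rw [hF]
      exact (hp.1.odd_of_ne_two hp2).pow
    have hg : Nat.gcd 2 (Fintype.card F - 1) = 2 := by
      apply Nat.gcd_eq_left
      obtain ⟨k, hk⟩ := hodd
      exact ⟨k, by omega⟩
    have h1 : v 2 (PSp 2 F) + 1 = v 2 (Matrix.symplecticGroup (Fin 2) F) := by
      rw [v, v, ← card_psp (m := 2) (F := F) (by norm_num), hg, Nat.factorization_mul Nat.card_pos.ne' (by norm_num),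
        Finsupp.add_apply, Nat.prime_two.factorization_self]
    have h2q : ¬ 2 ∣ Fintype.card F := by
      rw [← even_iff_two_dvd, Nat.not_even_iff_odd]
      exact hodd
    have h2 := v_sp_eq (m := 2) h2q
    rw [Finset.sum_range_succ, Finset.sum_range_succ, Finset.sum_range_zero, zero_add, zero_add] at h2
    have h4 : (out (PSp 2 F)).factorization 2 = 1 + f.factorization 2 := by
      rw [out_eq hZ le_rfl h22 hF, if_neg (by omega), one_mul, ← hF, hg, Nat.factorization_mul (by norm_num)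
        (by omega), Finsupp.add_apply, Nat.prime_two.factorization_self]
    have h5 := two_num hp.1.one_lt hF hf hodd
    rw [h4]
    simp only [one_add_one_eq_two] at h2
    omega
  refine One.row hZ (p := p) (r := r) (c := 0) (e := 0) (m := 0) ?_
  refine
    { prime := hp.1
      good := good_of hZ le_rfl h22 hF le_rfl le_rfl h0'
      cent := fun x hx => (v_cent_zero le_rfl hp.1 hF h0' hx).le
      reg := ?_
      syl := ?_
      odd := ?_
      inv := ?_
      two₀ := ?_
      two₁ := ?_ }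
  · intro b hb hb2 hbp x hx hbx
    obtain ⟨s, y, hso, hbs, hy, -, hsy⟩ := inner_of_fix hZ le_rfl h22 hF h0 (by omega) (by omega) hr2
      hb hb2 hx hbx
    refine (v_Fx_le hbs p).trans ?_
    rw [v, Nat.factorization_eq_zero_of_not_dvd]
    intro h
    exact hnd (h.trans (hs s y (hso ▸ hb) (hso ▸ hb2) hy hsy))
  · intro b hb hb2 hbp
    rw [hvS, max_self]
    have hodd : Odd (orderOf b) := hb.odd_of_ne_two hb2
    rcases inner_or_field le_rfl h22 hodd (pow_orderOf_eq_one b) with ⟨s', hs'⟩ | ⟨g, φ, c, hc, hs, hφ, hg⟩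
    · have hso : orderOf s' = orderOf b := by
        rw [hs']
        exact (orderOf_conj hZ s').symm
      obtain ⟨s, rfl, hs⟩ := exists_lift (by norm_num) hb hb2 s' hso
      have h1 := v_Fx_inner le_rfl hp.1 hF hs' (hs ▸ hb) (hs ▸ hb2) (hs ▸ hbp)
      omega
    · obtain ⟨h1, h2⟩ := v_Fx_field hZ le_rfl h22 hF hb hbp hc hs hφ hg
      have h4 : f / orderOf b ≤ f / 3 := Nat.div_le_div_left (by have := hb.two_le; omega) (by norm_num)
      omega
  · intro hp2 H hH hr
    have h1 := odd_zero le_rfl hF h0' H hH hr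
    have h2 : (2 * 2).factorization p = 0 := by
      apply Nat.factorization_eq_zero_of_not_dvd
      intro h
      rcases hp.1.dvd_mul.1 h with h | h <;> exact hp2 ((Nat.prime_dvd_prime_iff_eq hp.1 Nat.prime_two).1 h)
    omega
  · intro hp2 s' hs'
    obtain ⟨s, rfl⟩ := surj_pr (m := 2) (F := F) s'
    have hk2 : ∀ g : Matrix.symplecticGroup (Fin 2) F, pr 2 F g = 1 → g ^ 2 = 1 := by
      intro g hg
      have h1 := Quot.pow_card_ker (pr 2 F) hg
      have h2 : Nat.card (pr 2 F).ker ∣ 2 := by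
        rw [ker_pr, LieClassical.SympCenter.card_center (by norm_num)]
        exact Nat.gcd_dvd_left _ _
      exact orderOf_dvd_iff_pow_eq_one.1 ((orderOf_dvd_of_pow_eq_one h1).trans h2)
    have h1 : s ^ 4 = 1 := by
      have h2 := hk2 (s ^ 2) (by rw [map_pow]; exact orderOf_dvd_iff_pow_eq_one.1 hs'.dvd)
      rw [← pow_mul] at h2
      exact h2
    have h2 := v_cent_le le_rfl hp.1 hF (s := s) (N := 4) (by
      intro h
      have h5 : p ∣ 2 ^ 2 := h
      exact hp2 ((Nat.prime_dvd_prime_iff_eq hp.1 Nat.prime_two).1 (hp.1.dvd_of_dvd_pow h5))) h1 (by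
      intro lam hl _
      have h5 : s ∈ (pr 2 F).ker := by
        rw [ker_pr, mem_center_iff]
        intro g
        apply eq_of_op
        intro x
        rw [map_mul, map_mul, Module.End.mul_apply, Module.End.mul_apply, hl, hl, map_smul]
      rw [MonoidHom.mem_ker] at h5
      rw [h5, orderOf_one] at hs'
      omega)
    have h5 := v_le_of_dvd (t := p) (card_cent_pr s) Nat.card_pos.ne'
    have h6 : (out (PSp 2 F)).factorization p < f := by
      rw [v_out_char hZ le_rfl h22 hF (by omega)]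
      exact Nat.factorization_lt p (by omega)
    rw [hvS, max_self]
    simp only [v] at h2 h5 ⊢
    omega
  · intro hp2 x hx
    have h1 := v_le_of_dvd (t := 2) (cent_zero_pr le_rfl h0' hx) (by omega)
    have h2 := htwo hp2
    omega
  · intro hp2 b hb hb2 x hx hbx
    obtain ⟨s, y, hso, hbs, hy, -, hsy⟩ := inner_of_fix hZ le_rfl h22 hF h0 (by omega) (by omega) hr2
      hb hb2 hx hbx
    have h1 := v_Fx_le hbs 2
    have h5 := v_le_of_dvd (t := 2) (hs s y (hso ▸ hb) (hso ▸ hb2) hy hsy) (by omega)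
    have h2 := htwo hp2
    omega

end Cfsg.Agent.H767.PD
end

-- part: H767/PD/RowPsp
section
/-!
# S4246: the row of the symplectic groups (helper767)
-/

set_option autoImplicit false
set_option linter.unusedSectionVars false

namespace Cfsg.Agent.H767.PD

open Cfsg Subgroup Cfsg.Agent.H458

universe u

theorem row_std {F : Type} [Field F] [Fintype F] {m : ℕ} (hm : 2 ≤ m) (h22 : m = 2 → 3 ≤ Fintype.card F) :
    H160.PD.Row (PSp m F) := by
  haveI : IsSimpleGroup (PSp m F) := S0270.result m hm h22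
  have hZ : center (PSp m F) = ⊥ := H160.PD.center_eq_bot (RowPSp.not_comm hm h22)
  obtain ⟨p, hp⟩ := CharP.exists F
  obtain ⟨f, hpp, hF⟩ := FiniteField.card F p
  haveI : Fact p.Prime := ⟨hpp⟩
  have hf := f.pos
  by_cases h2 : m = 2
  · subst h2
    exact row_two hZ (h22 rfl) hF
  by_cases h3 : m = 3 ∧ Fintype.card F = 2
  · obtain ⟨rfl, h3⟩ := h3
    exact row_six hZ h3
  by_cases h4 : m = 4 ∧ Fintype.card F = 2
  · obtain ⟨rfl, h4⟩ := h4
    exact row_eight hZ h4
  have key : ∀ k : ℕ, 2 ≤ k → k * (f : ℕ) = 3 → (f : ℕ) = 1 ∧ k = 3 := by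
    intro k hk h
    have h5 : (f : ℕ) < 2 := by
      by_contra hcon
      have := Nat.mul_le_mul hk (not_lt.1 hcon)
      omega
    have h6 : (f : ℕ) = 1 := by omega
    rw [h6] at h
    exact ⟨h6, by omega⟩
  refine row_three hZ (by omega) hF ?_ ?_
  · rintro ⟨rfl, h⟩
    obtain ⟨h5, h6⟩ := key m hm (by rw [mul_assoc] at h; omega)
    exact h3 ⟨h6, by rw [hF, h5, pow_one]⟩
  · rintro ⟨rfl, h⟩
    obtain ⟨h5, h6⟩ := key (m - 1) (by (clear * - hm h2; omega)) (by rw [mul_assoc] at h; omega)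
    exact h4 ⟨by omega, by rw [hF, h5, pow_one]⟩

/-- **The row of the symplectic groups.** -/
theorem row_psp (K : Type u) [Group K] [Finite K] [IsSimpleGroup K] (h : IsPSp K) : Cfsg.Agent.H160.PD.Row K := by
  obtain ⟨F, _, _, m, hm, h22, ⟨e⟩⟩ := h
  exact (row_std hm h22).congr e

end Cfsg.Agent.H767.PD
end
end

-- part: H898/PDLin
section
prune_inst 0x31207d047ca2000000008012a0201c62fa000502004884000c420f060f896c2209c0a860bab0050210aa80854831006003000010c20000000a0004000119008010819606b148a008000096000000000000000000000000000000000000010004000000002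
set_option linter.all false
open scoped Cfsg.Agent.FastGrp

/-!
# S4246, orthogonal groups: `p`-groups of isometries (helper898)

* `NS B` : `B` symmetric and nondegenerate;
* `card_le` : a `p`-group acting faithfully by isometries on a nondegenerate symmetric space of dimension `N` over a
  field with `q` elements of characteristic `p` odd has order at most `q ^ ((N - 1) ^ 2 / 4)`.
-/

set_option autoImplicit false
set_option linter.unusedSectionVars false

namespace Cfsg.Agent.H898.PDLin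

open Module Cfsg.Agent.H200.LinFix

universe v w

variable {F : Type*} [Field F]

/-- symmetric and nondegenerate -/
structure NS {V : Type*} [AddCommGroup V] [Module F V] (B : LinearMap.BilinForm F V) : Prop where
  symm : ∀ u v, B u v = B v u
  nd : ∀ v, (∀ u, B u v = 0) → v = 0

section basic

variable {V : Type*} [AddCommGroup V] [Module F V] {B : LinearMap.BilinForm F V}

theorem NS.partner (hB : NS B) (h2 : (2 : F) ≠ 0) {u : V} (hu : u ≠ 0) (huu : B u u = 0) :
    ∃ v, B u v = 1 ∧ B v v = 0 := by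
  obtain ⟨w, hw⟩ : ∃ w, B w u ≠ 0 := by
    by_contra h
    push Not at h
    exact hu (hB.nd u h)
  have hw' : B u w ≠ 0 := by rw [hB.symm]; exact hw
  obtain ⟨w', h1⟩ : ∃ w', B u w' = 1 := ⟨(B u w)⁻¹ • w, by rw [map_smul, smul_eq_mul, inv_mul_cancel₀ hw']⟩
  have h1' : B w' u = 1 := by rw [hB.symm]; exact h1
  refine ⟨w' - (B w' w' / 2) • u, ?_, ?_⟩
  · rw [map_sub, map_smul, huu, h1, smul_zero, sub_zero]
  · simp only [map_sub, map_smul, LinearMap.sub_apply, LinearMap.smul_apply, h1, h1', huu, smul_eq_mul]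
    field_simp
    ring

/-- restriction of a representation to an invariant subspace -/
def res {P : Type*} [Group P] (ρ : P →* Module.End F V) (W : Submodule F V) (hW : ∀ g, ∀ w ∈ W, ρ g w ∈ W) :
    P →* Module.End F W where
  toFun g := (ρ g).restrict (hW g)
  map_one' := by
    ext w
    rw [LinearMap.coe_restrict_apply, map_one]
    rfl
  map_mul' g h := by
    ext w
    rw [LinearMap.coe_restrict_apply, map_mul]
    rfl

theorem mem_ker_res {P : Type*} [Group P] {ρ : P →* Module.End F V} {W : Submodule F V}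
    {hW : ∀ g, ∀ w ∈ W, ρ g w ∈ W} {g : P} : g ∈ (res ρ W hW).ker ↔ ∀ w ∈ W, ρ g w = w := by
  rw [MonoidHom.mem_ker]
  constructor
  · intro h w hw
    have h1 := congrArg Subtype.val (LinearMap.congr_fun h ⟨w, hw⟩)
    exact h1
  · intro h
    ext w
    exact h w w.2

theorem iso_res {P : Type*} [Group P] {ρ : P →* Module.End F V} {W : Submodule F V}
    {hW : ∀ g, ∀ w ∈ W, ρ g w ∈ W} {g : P} (hg : Isom B (ρ g)) : Isom (B.restrict W) (res ρ W hW g) :=
  fun u v => hg u v

/-- **A `p`-group fixes a nonzero vector.** -/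
theorem exists_fixed {P : Type*} [Group P] [Finite P] {p : ℕ} [hp : Fact p.Prime] (hP : IsPGroup p P)
    (ρ : P →* Module.End F V) (hpF : (p : F) = 0) [Finite V] [Nontrivial V] : ∃ u : V, u ≠ 0 ∧ ∀ g, ρ g u = u := by
  let _ : MulAction P V := MulAction.compHom V ρ
  have hsm : ∀ (g : P) (v : V), g • v = ρ g v := fun _ _ => rfl
  have hd : p ∣ Nat.card V := by
    obtain ⟨x, hx⟩ := exists_ne (0 : V)
    have h1 : addOrderOf x = p := by
      apply addOrderOf_eq_prime
      · rw [← Nat.cast_smul_eq_nsmul F, hpF, zero_smul]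
      · exact hx
    rw [← h1]
    exact addOrderOf_dvd_natCard x
  obtain ⟨b, hb, hb0⟩ := hP.exists_fixed_point_of_prime_dvd_card_of_fixed_point V hd (a := 0)
    (fun g => by rw [hsm, map_zero])
  exact ⟨b, hb0.symm, fun g => hb g⟩

/-- a subspace on which a `p`-group has no fixed vectors is zero -/
theorem eq_bot_of_fixed {P : Type*} [Group P] [Finite P] {p : ℕ} [hp : Fact p.Prime] (hP : IsPGroup p P)
    (ρ : P →* Module.End F V) (hpF : (p : F) = 0) [Finite V] {W : Submodule F V} (hW : ∀ g, ∀ w ∈ W, ρ g w ∈ W)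
    (h : ∀ w ∈ W, (∀ g, ρ g w = w) → w = 0) : W = ⊥ := by
  by_contra hne
  have hn : Nontrivial W := Submodule.nontrivial_iff_ne_bot.2 hne
  obtain ⟨u, hu, hfix⟩ := exists_fixed hP (res ρ W hW) hpF
  exact hu (Subtype.ext (h u u.2 fun g => congrArg Subtype.val (hfix g)))

/-! ### the orthogonal complement of a hyperbolic pair -/

/-- `{u, v}^⊥` -/
def W2 (B : LinearMap.BilinForm F V) (u v : V) : Submodule F V := LinearMap.ker ((B u).prod (B v))

theorem mem_W2 {u v w : V} : w ∈ W2 B u v ↔ B u w = 0 ∧ B v w = 0 := by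
  rw [W2, LinearMap.mem_ker, LinearMap.prod_apply]
  exact Prod.mk_eq_zero

variable {u v : V}

/-- decomposition along a hyperbolic pair -/
theorem decomp2 (hB : NS B) (huu : B u u = 0) (huv : B u v = 1) (hvv : B v v = 0) (x : V) :
    x - B v x • u - B u x • v ∈ W2 B u v := by
  have hvu : B v u = 1 := by rw [hB.symm]; exact huv
  rw [mem_W2]
  constructor
  · rw [map_sub, map_sub, map_smul, map_smul, huu, huv, smul_zero, sub_zero, smul_eq_mul, mul_one, sub_self]
  · rw [map_sub, map_sub, map_smul, map_smul, hvu, hvv, smul_zero, sub_zero, smul_eq_mul, mul_one, sub_self]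

theorem nsW2 (hB : NS B) (huu : B u u = 0) (huv : B u v = 1) (hvv : B v v = 0) : NS (B.restrict (W2 B u v)) := by
  refine ⟨fun a b => hB.symm a b, ?_⟩
  rintro ⟨x, hx⟩ h
  apply Subtype.ext
  apply hB.nd
  intro y
  have h1 := h ⟨_, decomp2 hB huu huv hvv y⟩
  change B (y - B v y • u - B u y • v) x = 0 at h1
  rw [mem_W2] at hx
  rw [map_sub, map_sub, map_smul, map_smul, LinearMap.sub_apply, LinearMap.sub_apply, LinearMap.smul_apply,
    LinearMap.smul_apply, hx.1, hx.2, smul_zero, smul_zero, sub_zero, sub_zero] at h1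
  exact h1

theorem finrank_W2 [FiniteDimensional F V] (hB : NS B) (huu : B u u = 0) (huv : B u v = 1) (hvv : B v v = 0) :
    finrank F (W2 B u v) + 2 = finrank F V := by
  have hvu : B v u = 1 := by rw [hB.symm]; exact huv
  have h1 := LinearMap.finrank_range_add_finrank_ker ((B u).prod (B v))
  have h2 : LinearMap.range ((B u).prod (B v)) = ⊤ := by
    rw [LinearMap.range_eq_top]
    rintro ⟨a, b⟩
    refine ⟨b • u + a • v, ?_⟩
    rw [LinearMap.prod_apply]
    simp [huu, huv, hvu, hvv]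
  rw [h2, finrank_top, finrank_prod, finrank_self] at h1
  rw [W2]
  omega

/-! ### the transfer to `{u, v}^⊥` of the isometries fixing `u` -/

/-- the endomorphism `w ↦ g w - B(v, g w) u` -/
def tr1 (B : LinearMap.BilinForm F V) (u v : V) (g : Module.End F V) : Module.End F V :=
  g - ((B v).comp g).smulRight u

theorem tr1_apply (g : Module.End F V) (w : V) : tr1 B u v g w = g w - B v (g w) • u := rfl

theorem tr1_mem (hB : NS B) (huu : B u u = 0) (huv : B u v = 1) {g : Module.End F V} (hg : Isom B g) (hgu : g u = u)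
    {w : V} (hw : w ∈ W2 B u v) : tr1 B u v g w ∈ W2 B u v := by
  have hvu : B v u = 1 := by rw [hB.symm]; exact huv
  rw [mem_W2] at hw ⊢
  rw [tr1_apply]
  constructor
  · have h1 := hg u w
    rw [hgu, hw.1] at h1
    rw [map_sub, map_smul, h1, huu, smul_zero, sub_zero]
  · rw [map_sub, map_smul, hvu, smul_eq_mul, mul_one, sub_self]

/-- the representation on `{u, v}^⊥` -/
def tr2 {P : Type*} [Group P] (hB : NS B) (huu : B u u = 0) (huv : B u v = 1) (ρ : P →* Module.End F V)
    (hiso : ∀ g, Isom B (ρ g)) (hfix : ∀ g, ρ g u = u) : P →* Module.End F (W2 B u v) where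
  toFun g := (tr1 B u v (ρ g)).restrict fun _ hw => tr1_mem hB huu huv (hiso g) (hfix g) hw
  map_one' := by
    ext w
    rw [LinearMap.coe_restrict_apply, tr1_apply, map_one, Module.End.one_apply, (mem_W2.1 w.2).2, zero_smul, sub_zero]
    rfl
  map_mul' g h := by
    ext w
    rw [Module.End.mul_apply, LinearMap.coe_restrict_apply, LinearMap.coe_restrict_apply, LinearMap.coe_restrict_apply,
      tr1_apply, tr1_apply, tr1_apply, map_mul, Module.End.mul_apply, map_sub, map_smul, hfix, map_sub, map_smul,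
      smul_eq_mul, (show B v u = 1 by rw [hB.symm]; exact huv), mul_one, sub_smul]
    abel

theorem tr2_apply {P : Type*} [Group P] (hB : NS B) (huu : B u u = 0) (huv : B u v = 1) (ρ : P →* Module.End F V)
    (hiso : ∀ g, Isom B (ρ g)) (hfix : ∀ g, ρ g u = u) (g : P) (w : W2 B u v) :
    ((tr2 hB huu huv ρ hiso hfix g w : W2 B u v) : V) = ρ g w - B v (ρ g w) • u := rfl

theorem iso_tr2 {P : Type*} [Group P] (hB : NS B) (huu : B u u = 0) (huv : B u v = 1) (ρ : P →* Module.End F V)
    (hiso : ∀ g, Isom B (ρ g)) (hfix : ∀ g, ρ g u = u) (g : P) :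
    Isom (B.restrict (W2 B u v)) (tr2 hB huu huv ρ hiso hfix g) := by
  intro a b
  change B (ρ g a - B v (ρ g a) • u) (ρ g b - B v (ρ g b) • u) = B a b
  have h1 : B u (ρ g b) = 0 := by
    have h := hiso g u b
    rw [hfix, (mem_W2.1 b.2).1] at h
    exact h
  have h2 : B (ρ g a) u = 0 := by
    have h := hiso g a u
    rw [hfix, hB.symm a, (mem_W2.1 a.2).1] at h
    exact h
  rw [map_sub, map_smul, map_sub, map_smul, LinearMap.sub_apply, LinearMap.sub_apply, LinearMap.smul_apply,
    LinearMap.smul_apply, h1, h2, huu, hiso g a b]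
  simp

/-- **The kernel of the action on `u^⊥ / u`** injects into `{u, v}^⊥`. -/
theorem card_ker_tr2 {P : Type*} [Group P] [Finite V] (h2 : (2 : F) ≠ 0) (hB : NS B) (huu : B u u = 0) (huv : B u v = 1)
    (hvv : B v v = 0) (ρ : P →* Module.End F V) (hρ : Function.Injective ρ)
    (hiso : ∀ g, Isom B (ρ g)) (hfix : ∀ g, ρ g u = u) :
    Nat.card (tr2 hB huu huv ρ hiso hfix).ker ≤ Nat.card (W2 B u v) := by
  have hvu : B v u = 1 := by rw [hB.symm]; exact huv
  -- the value at `v`
  have huv' : ∀ g, B u (ρ g v) = 1 := fun g => by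
    have h := hiso g u v
    rwa [hfix, huv] at h
  let κ : (tr2 hB huu huv ρ hiso hfix).ker → W2 B u v := fun g =>
    ⟨ρ g v - B v (ρ g v) • u - B u (ρ g v) • v, decomp2 hB huu huv hvv _⟩
  apply Nat.card_le_card_of_injective κ
  intro g h hgh
  apply Subtype.ext
  apply hρ
  have hκ : ρ g v - B v (ρ g v) • u = ρ h v - B v (ρ h v) • u := by
    have h1 := congrArg Subtype.val hgh
    change ρ g v - B v (ρ g v) • u - B u (ρ g v) • v = ρ h v - B v (ρ h v) • u - B u (ρ h v) • v at h1
    rw [huv', huv'] at h1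
    exact sub_left_inj.1 h1
  -- the coefficient of `u` is determined
  have hform : ∀ k : P, ρ k v = (ρ k v - B v (ρ k v) • u - v) + B v (ρ k v) • u + v := fun k => by abel
  have hc : ∀ k : P, 2 * B v (ρ k v) = - B (ρ k v - B v (ρ k v) • u - v) (ρ k v - B v (ρ k v) • u - v) := by
    intro k
    have h1 : B (ρ k v) (ρ k v) = 0 := by rw [hiso k, hvv]
    have h3 := decomp2 hB huu huv hvv (ρ k v)
    rw [huv', one_smul] at h3
    set w := ρ k v - B v (ρ k v) • u - v with hw
    rw [mem_W2] at h3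
    set c := B v (ρ k v) with hcdef
    have h4 : ρ k v = w + c • u + v := by rw [hw]; abel
    have h5 : B w u = 0 := by rw [hB.symm]; exact h3.1
    have h6 : B w v = 0 := by rw [hB.symm]; exact h3.2
    rw [h4] at h1
    simp only [map_add, map_smul, LinearMap.add_apply, LinearMap.smul_apply, h5, h6, h3.1, h3.2, huu, huv, hvu, hvv,
      smul_eq_mul] at h1
    linear_combination h1
  have hcc : B v (ρ g v) = B v (ρ h v) := by
    have h1 := hc g
    rw [hκ, ← hc h] at h1
    exact mul_left_cancel₀ h2 h1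
  have hv : ρ g v = ρ h v := by
    rw [hcc] at hκ
    exact sub_left_inj.1 hκ
  -- the action on `W2`
  have hW : ∀ k ∈ (tr2 hB huu huv ρ hiso hfix).ker, ∀ w ∈ W2 B u v, ρ k w = w + B v (ρ k w) • u := by
    intro k hk w hw
    have h1 := congrArg Subtype.val (LinearMap.congr_fun (MonoidHom.mem_ker.1 hk) ⟨w, hw⟩)
    rw [tr2_apply] at h1
    change ρ k w - B v (ρ k w) • u = w at h1
    rw [← sub_eq_iff_eq_add]
    exact h1
  have hW' : ∀ k ∈ (tr2 hB huu huv ρ hiso hfix).ker, ∀ w ∈ W2 B u v, B v (ρ k w) = - B w (ρ k v) := by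
    intro k hk w hw
    have h1 := hiso k w v
    rw [hB.symm w v, (mem_W2.1 hw).2, hW k hk w hw, map_add, map_smul, LinearMap.add_apply, LinearMap.smul_apply, huv',
      smul_eq_mul, mul_one] at h1
    linear_combination h1
  refine LinearMap.ext fun x => ?_
  have h3 := decomp2 hB huu huv hvv x
  set w := x - B v x • u - B u x • v with hw
  have h4 : x = w + B v x • u + B u x • v := by rw [hw]; abel
  rw [h4]
  simp only [map_add, map_smul, hfix, hv]
  rw [hW g g.2 w h3, hW h h.2 w h3, hW' g g.2 w h3, hW' h h.2 w h3, hv]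

/-! ### the complement of a nonsingular vector -/

theorem finrank_ker1 [FiniteDimensional F V] {u : V} (huu : B u u ≠ 0) :
    finrank F (LinearMap.ker (B u)) + 1 = finrank F V := by
  have h1 := LinearMap.finrank_range_add_finrank_ker (B u)
  have h2 : LinearMap.range (B u) = ⊤ := by
    rw [LinearMap.range_eq_top]
    intro a
    refine ⟨(a / B u u) • u, ?_⟩
    rw [map_smul, smul_eq_mul, div_mul_cancel₀ _ huu]
  rw [h2, finrank_top, finrank_self] at h1
  omega

theorem decomp1 {u : V} (huu : B u u ≠ 0) (x : V) : x - (B u x / B u u) • u ∈ LinearMap.ker (B u) := by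
  rw [LinearMap.mem_ker, map_sub, map_smul, smul_eq_mul, div_mul_cancel₀ _ huu, sub_self]

theorem ns_ker1 (hB : NS B) {u : V} (huu : B u u ≠ 0) : NS (B.restrict (LinearMap.ker (B u))) := by
  refine ⟨fun a b => hB.symm a b, ?_⟩
  rintro ⟨x, hx⟩ h
  apply Subtype.ext
  apply hB.nd
  intro y
  have h1 := h ⟨_, decomp1 huu y⟩
  change B (y - (B u y / B u u) • u) x = 0 at h1
  rw [LinearMap.mem_ker] at hx
  rw [map_sub, map_smul, LinearMap.sub_apply, LinearMap.smul_apply, hx, smul_zero, sub_zero] at h1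
  exact h1

end basic

theorem arith0 (N : ℕ) : N + (N + 2 - 3) ^ 2 / 4 ≤ (N + 2 - 1) ^ 2 / 4 := by
  rcases N with _ | N
  · norm_num
  · have h1 : N + 1 + 2 - 3 = N := by omega
    have h2 : N + 1 + 2 - 1 = N + 2 := by omega
    rw [h1, h2]
    have h3 : (N + 2) ^ 2 = N ^ 2 + (N + 1) * 4 := by ring
    rw [h3, Nat.add_mul_div_right _ _ (by norm_num)]
    omega

/-- **`p`-groups of isometries.** -/
theorem card_le [Finite F] (h2 : (2 : F) ≠ 0) {p : ℕ} [hp : Fact p.Prime] (hpF : (p : F) = 0) :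
    ∀ (N : ℕ) {V : Type v} [AddCommGroup V] [Module F V] [Finite V] (B : LinearMap.BilinForm F V) (_ : NS B)
      (_ : finrank F V ≤ N) {P : Type w} [Group P] [Finite P] (_ : IsPGroup p P) (ρ : P →* Module.End F V)
      (_ : Function.Injective ρ) (_ : ∀ g, Isom B (ρ g)), Nat.card P ≤ Nat.card F ^ ((N - 1) ^ 2 / 4) := by
  intro N
  induction N using Nat.strong_induction_on with
  | _ N ih =>
    intro V _ _ _ B hB hN P _ _ hP ρ hρ hiso
    have hfd : FiniteDimensional F V := inferInstance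
    have hq : 1 ≤ Nat.card F := Nat.card_pos
    rcases subsingleton_or_nontrivial V with hV | hV
    · have h1 : Nat.card P = 1 := by
        rw [Nat.card_eq_one_iff_unique]
        refine ⟨⟨fun a b => hρ ?_⟩, ⟨1⟩⟩
        ext x
        exact Subsingleton.elim _ _
      rw [h1]
      exact Nat.one_le_pow _ _ hq
    · obtain ⟨u, hu, hfix⟩ := exists_fixed hP ρ hpF
      by_cases huu : B u u = 0
      · obtain ⟨v, huv, hvv⟩ := hB.partner h2 hu huu
        have hf := finrank_W2 hB huu huv hvv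
        set τ := tr2 hB huu huv ρ hiso hfix with hτ
        have hk := card_ker_tr2 h2 hB huu huv hvv ρ hρ hiso hfix
        rw [Module.natCard_eq_pow_finrank (K := F) (V := W2 B u v)] at hk
        have h3 : Nat.card (P ⧸ τ.ker) ≤ Nat.card F ^ ((N - 2 - 1) ^ 2 / 4) := by
          refine ih (N - 2) (by omega) (B.restrict (W2 B u v)) (nsW2 hB huu huv hvv) (by omega)
            (hP.to_quotient _) (QuotientGroup.lift τ.ker τ le_rfl) ?_ ?_
          · intro a b hab
            obtain ⟨a, rfl⟩ := QuotientGroup.mk_surjective a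
            obtain ⟨b, rfl⟩ := QuotientGroup.mk_surjective b
            rw [QuotientGroup.lift_mk', QuotientGroup.lift_mk'] at hab
            rw [QuotientGroup.eq, MonoidHom.mem_ker, map_mul, ← hab, ← map_mul, inv_mul_cancel, map_one]
          · intro a
            obtain ⟨a, rfl⟩ := QuotientGroup.mk_surjective a
            rw [QuotientGroup.lift_mk']
            exact iso_tr2 hB huu huv ρ hiso hfix a
        have h4 : finrank F (W2 B u v) ≤ N - 2 := by omega
        obtain ⟨M, rfl⟩ := Nat.exists_eq_add_of_le' (show 2 ≤ N by omega)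
        calc Nat.card P = Nat.card (P ⧸ τ.ker) * Nat.card τ.ker := Subgroup.card_eq_card_quotient_mul_card_subgroup _
          _ ≤ Nat.card F ^ ((M + 2 - 2 - 1) ^ 2 / 4) * Nat.card F ^ finrank F (W2 B u v) := Nat.mul_le_mul h3 hk
          _ = Nat.card F ^ ((M + 2 - 2 - 1) ^ 2 / 4 + finrank F (W2 B u v)) := (pow_add _ _ _).symm
          _ ≤ Nat.card F ^ ((M + 2 - 1) ^ 2 / 4) := by
            apply Nat.pow_le_pow_right hq
            have h5 := arith0 M
            have h6 : M + 2 - 3 = M + 2 - 2 - 1 := by omega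
            rw [h6] at h5
            omega
      · have hf := finrank_ker1 huu
        have hW : ∀ g, ∀ w ∈ LinearMap.ker (B u), ρ g w ∈ LinearMap.ker (B u) := by
          intro g w hw
          rw [LinearMap.mem_ker] at hw ⊢
          have h := hiso g u w
          rwa [hfix, hw] at h
        have h3 : Nat.card P ≤ Nat.card F ^ ((N - 1 - 1) ^ 2 / 4) := by
          refine ih (N - 1) (by omega) (B.restrict (LinearMap.ker (B u))) (ns_ker1 hB huu) (by omega) hP
            (res ρ _ hW) ?_ (fun g => iso_res (hiso g))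
          rw [← MonoidHom.ker_eq_bot_iff, eq_bot_iff]
          intro g hg
          rw [mem_ker_res] at hg
          rw [Subgroup.mem_bot]
          apply hρ
          rw [map_one]
          refine LinearMap.ext fun x => ?_
          have h4 := hg _ (decomp1 huu x)
          rw [map_sub, map_smul, hfix] at h4
          exact sub_left_inj.1 h4
        refine h3.trans (Nat.pow_le_pow_right hq ?_)
        apply Nat.div_le_div_right
        exact Nat.pow_le_pow_left (by omega) 2

end Cfsg.Agent.H898.PDLin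

private theorem dce_e80e6e6821af : _root_.True := by
  try have : _root_.True := by simp only [_root_.Cfsg.Agent.H898.PDLin.W2.eq_1]
  exact _root_.True.intro
end
end

-- part: H311/PD/Minus2_mg
section
prune_inst 0x10000000000002
set_option linter.all false
open scoped Cfsg.Agent.FastGrp

-- part: H311/PD/Minus
section
/-!
# S4246, row `POmega^-_{2n}(q)`, abstract form (helper311)
-/

set_option autoImplicit false
set_option linter.unusedSectionVars false

namespace Cfsg.Agent.H311.PD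

open QuadraticMap Module Subgroup Cfsg.Agent.LieClassical.OrthCore Cfsg.Agent.LieClassical.OrthTrans
open Cfsg.Agent.ClassicalGeometry.OrthSemi Cfsg.Agent.ClassicalGeometry.OrthAut1
open Cfsg.Agent.H200.LinFix Cfsg.Agent.H200.RowOrth
open Cfsg.Agent.H160.PD (v v_mono v_eq_zero v_pos Fx mem_Fx out Good Two One NoOdd Inc)

variable {F V : Type*} [Field F] [AddCommGroup V] [Module F V] {Q : QuadraticForm F V} [Finite V]

/-- A nonzero singular vector in `K y`, minus type. -/
theorem sing_K_minus {n : ℕ} (hn : 3 ≤ n)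
    (hsing : Nat.card {v : V // Q v = 0} = (Nat.card F ^ n + 1) * (Nat.card F ^ (n - 1) - 1) + 1)
    {l : ℕ} [hl : Fact l.Prime] (hd : Ordd l (Nat.card F) (2 * (n - 1)))
    {y : ↥(E Q)} (hy : y ^ l = 1) : ∃ v ∈ K (en Q y), v ≠ 0 ∧ Q v = 0 := by
  by_contra hcon
  push Not at hcon
  have h2 := card_sing_modEq (Q := Q) hy
  have h3 : Nat.card {v : V // v ∈ K (en Q y) ∧ Q v = 0} = 1 := by
    rw [Nat.card_eq_one_iff_unique]
    refine ⟨⟨fun a b => Subtype.ext ?_⟩, ⟨⟨0, Submodule.zero_mem _, QuadraticMap.map_zero _⟩⟩⟩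
    have h4 : ∀ a : {v : V // v ∈ K (en Q y) ∧ Q v = 0}, (a : V) = 0 := fun a => by
      by_contra h
      exact hcon a a.2.1 h a.2.2
    rw [h4 a, h4 b]
  rw [h3, hsing] at h2
  have h4 : l ∣ (Nat.card F ^ n + 1) * (Nat.card F ^ (n - 1) - 1) + 1 - 1 :=
    (Nat.modEq_iff_dvd' (by omega)).1 h2.symm
  rw [Nat.add_sub_cancel, hl.out.dvd_mul] at h4
  rcases h4 with h4 | h4
  · have h5 : l ∣ Nat.card F ^ (2 * n) - 1 := by
      have h6 : Nat.card F ^ (2 * n) - 1 = (Nat.card F ^ n + 1) * (Nat.card F ^ n - 1) := by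
        rw [mul_comm 2 n, pow_mul]
        exact Nat.sq_sub_sq (Nat.card F ^ n) 1
      rw [h6]
      exact Dvd.dvd.mul_right h4 _
    have h6 := Nat.dvd_of_mul_dvd_mul_left (by norm_num) (hd _ h5)
    have h7 : n - 1 ∣ 1 := by
      have h8 : n = (n - 1) + 1 := by omega
      rw [h8] at h6
      rw [Nat.add_sub_cancel] at h6
      exact (Nat.dvd_add_right dvd_rfl).1 h6
    have := Nat.le_of_dvd one_pos h7
    omega
  · have h5 := Nat.le_of_dvd (by omega) (hd _ h4)
    omega

/-! ### the two tori -/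

section tori

variable [Finite F] {p f n : ℕ} [hp : Fact p.Prime]

/-- the data of the minus type -/
structure Dat (Q : QuadraticForm F V) (p f n : ℕ) : Prop where
  good : LieClassical.OrthTrans.Good Q
  hf : 1 ≤ f
  card : Nat.card F = p ^ f
  hn : 4 ≤ n
  dim : finrank F V = 2 * n
  sing : Nat.card {v : V // Q v = 0} = (Nat.card F ^ n + 1) * (Nat.card F ^ (n - 1) - 1) + 1
  char : (p : F) = 0

/-- **Elements of type `2n`.** -/
theorem cent_first (D : Dat Q p f n) {l : ℕ} [hl : Fact l.Prime] (hl2 : l ≠ 2) (hlF : (l : F) ≠ 0)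
    (hd : Ordd l (Nat.card F) (2 * n)) {y : ↥(E Q)} (hy : y ^ l = 1) (hy1 : y ≠ 1) :
    Irr (en Q y) (R (en Q y)) ∧ finrank F (R (en Q y)) = 2 * n ∧ K (en Q y) = ⊥ ∧
      Nat.card (centralizer ({y} : Set ↥(E Q))) ∣ Nat.card F ^ n + 1 := by
  have hfd : FiniteDimensional F V := inferInstance
  have hV := D.dim
  have hn := D.hn
  have hVe : finrank F V < 2 * (2 * n) := by omega
  have h1 := irr_R hd hlF hVe hy
  have h2 := finrank_R_eq hd hlF hVe hy hy1
  refine ⟨h1, h2, ?_, card_cent_irr D.good hl2 hlF hy hy1 h1 h2 hV⟩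
  have h3 := finrank_add (en Q y)
  exact Submodule.finrank_eq_zero.1 (by omega)

/-- **Elements of type `2n - 2`.** -/
theorem cent_second (D : Dat Q p f n) {l : ℕ} [hl : Fact l.Prime] (hl2 : l ≠ 2) (hlF : (l : F) ≠ 0)
    (hd : Ordd l (Nat.card F) (2 * (n - 1))) {y : ↥(E Q)} (hy : y ^ l = 1) (hy1 : y ≠ 1) :
    Irr (en Q y) (R (en Q y)) ∧ finrank F (R (en Q y)) = 2 * (n - 1) ∧ finrank F (K (en Q y)) = 2 ∧
      (∃ e ∈ K (en Q y), e ≠ 0 ∧ Q e = 0) ∧
      Nat.card (centralizer ({y} : Set ↥(E Q))) ∣ (Nat.card F ^ (n - 1) + 1) * (2 * (Nat.card F - 1)) := by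
  have hfd : FiniteDimensional F V := inferInstance
  have hV := D.dim
  have hn := D.hn
  have hVe : finrank F V < 2 * (2 * (n - 1)) := by omega
  have h1 := irr_R hd hlF hVe hy
  have h2 := finrank_R_eq hd hlF hVe hy hy1
  have h3 := finrank_add (en Q y)
  have h4 : finrank F (K (en Q y)) = 2 := by omega
  obtain ⟨e, he, he0, hQe⟩ := sing_K_minus (Q := Q) (by omega) D.sing hd hy
  exact ⟨h1, h2, h4, ⟨e, he, he0, hQe⟩, card_cent_plane D.good hl2 hlF hy hy1 h1 h2 h4 he he0 hQe⟩

theorem v_first (D : Dat Q p f n) {l : ℕ} [hl : Fact l.Prime] (hl2 : l ≠ 2) (hlF : (l : F) ≠ 0)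
    (hd : Ordd l (Nat.card F) (2 * n)) {y : ↥(E Q)} (hy : y ^ l = 1) (hy1 : y ≠ 1) :
    v p (centralizer ({y} : Set ↥(E Q))) = 0 := by
  have hfinE : Finite ↥(E Q) := finite_E
  apply v_eq_zero
  intro h
  have h1 := h.trans (cent_first D hl2 hlF hd hy hy1).2.2.2
  rw [D.card] at h1
  have := D.hn
  exact not_dvd_pow_add_one hp.out D.hf (by omega) h1

theorem v_second (D : Dat Q p f n) {l : ℕ} [hl : Fact l.Prime] (hl2 : l ≠ 2) (hlF : (l : F) ≠ 0)
    (hd : Ordd l (Nat.card F) (2 * (n - 1))) {y : ↥(E Q)} (hy : y ^ l = 1) (hy1 : y ≠ 1) :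
    v p (centralizer ({y} : Set ↥(E Q))) ≤ 1 := by
  have hfinE : Finite ↥(E Q) := finite_E
  have h1 := (cent_second D hl2 hlF hd hy hy1).2.2.2.2
  have hn := D.hn
  have hq : 1 < Nat.card F := Finite.one_lt_card
  rw [D.card] at h1
  refine (fac_mono (t := p) ?_ h1).trans (fac_plane hp.out D.hf (by omega))
  rw [← D.card]
  exact mul_ne_zero (Nat.succ_ne_zero _) (by omega)

/-- **The centralisers of the elements of odd prime order commuting with an element of type `2n`.** -/
theorem v_comm_first (D : Dat Q p f n) {l : ℕ} [hl : Fact l.Prime] (hl2 : l ≠ 2) (hlF : (l : F) ≠ 0)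
    (hd : Ordd l (Nat.card F) (2 * n)) {y : ↥(E Q)} (hy : y ^ l = 1) (hy1 : y ≠ 1) {s : ℕ} [hs : Fact s.Prime]
    (hs2 : s ≠ 2) {t : ↥(E Q)} (ht : t ^ s = 1) (ht1 : t ≠ 1) (hty : t * y = y * t) :
    K (en Q t) = ⊥ ∧ s ∣ Nat.card F ^ n + 1 ∧ ¬ s ∣ Nat.card F - 1 := by
  have hfd : FiniteDimensional F V := inferInstance
  have hV := D.dim
  have ht' : en Q t ≠ 1 := fun h => ht1 (en_injective (h.trans (map_one _).symm))
  obtain ⟨hirr, hdim, hK, -⟩ := cent_first D hl2 hlF hd hy hy1
  rcases comm_elt D.good hl2 hlF hy hirr ht hty with h | ⟨h, m, hm, hpm⟩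
  · exfalso
    apply ht'
    rw [← R_eq_bot, eq_bot_iff]
    refine (R_le_K hlF hy hty h).trans ?_
    rw [hK]
  · rw [hdim] at hm
    have hmn : m = n := by omega
    subst hmn
    have h1 := Submodule.finrank_mono h
    have h2 := finrank_add (en Q t)
    refine ⟨Submodule.finrank_eq_zero.1 (by omega), hpm, fun h3 => ?_⟩
    have h4 : s ∣ Nat.card F ^ m - 1 := by
      have h5 := Nat.sub_dvd_pow_sub_pow (Nat.card F) 1 m
      rw [one_pow] at h5
      exact h3.trans h5
    have h5 := Nat.dvd_sub hpm h4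
    have h6 : 1 ≤ Nat.card F ^ m := Nat.one_le_pow _ _ Nat.card_pos
    have h7 : Nat.card F ^ m + 1 - (Nat.card F ^ m - 1) = 2 := by omega
    rw [h7] at h5
    exact hs2 ((Nat.prime_dvd_prime_iff_eq hs.out Nat.prime_two).1 h5)

/-- **The centralisers of the elements of odd prime order commuting with an element of type `2n - 2`.** -/
theorem v_comm_second (D : Dat Q p f n) {l : ℕ} [hl : Fact l.Prime] (hl2 : l ≠ 2) (hlF : (l : F) ≠ 0)
    (hd : Ordd l (Nat.card F) (2 * (n - 1))) {y : ↥(E Q)} (hy : y ^ l = 1) (hy1 : y ≠ 1) {s : ℕ} [hs : Fact s.Prime]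
    (hs2 : s ≠ 2) (hsF : (s : F) ≠ 0) {t : ↥(E Q)} (ht : t ^ s = 1) (ht1 : t ≠ 1) (hty : t * y = y * t) :
    v p (centralizer ({t} : Set ↥(E Q))) + f * (finrank F V - 2) ≤ v p ↥(E Q) + f := by
  have hfd : FiniteDimensional F V := inferInstance
  have hV := D.dim
  have hn := D.hn
  have hf := D.hf
  have hG := D.good
  have hy' : en Q y ^ l = 1 := by rw [← map_pow, hy, map_one]
  have ht'' : en Q t ^ s = 1 := by rw [← map_pow, ht, map_one]
  have ht' : en Q t ≠ 1 := fun h => ht1 (en_injective (h.trans (map_one _).symm))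
  obtain ⟨hirr, hdim, hK, ⟨e, he, he0, hQe⟩, -⟩ := cent_second D hl2 hlF hd hy hy1
  have hnd : ∀ v ∈ K (en Q y), (∀ u ∈ K (en Q y), polarBilin Q u v = 0) → v = 0 := fun w hw h =>
    nondeg_K (isom_en y) (polar_nondeg hG) hy' hlF hw h
  rcases comm_elt D.good hl2 hlF hy hirr ht hty with h | ⟨h, m, hm, hpm⟩
  · -- `t` is trivial on `R y`
    have h1 := R_le_K hlF hy hty h
    have h2 := Submodule.finrank_mono h1
    have h3 := finrank_R_ne_one hG hs2 hsF ht
    have h4 : finrank F (R (en Q t)) ≠ 0 := fun h => ht' (R_eq_bot.1 (Submodule.finrank_eq_zero.1 h))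
    have h5 : R (en Q t) = K (en Q y) := Submodule.eq_of_le_of_finrank_le h1 (by omega)
    have h6 := v_plane (p := p) hG hf D.card (H := centralizer ({t} : Set ↥(E Q))) hK hnd he he0 hQe
      (fun g hg x hx => by
        rw [← h5] at hx ⊢
        exact R_inv (s := en Q g) (by rw [← map_mul, ← map_mul, mem_centralizer_singleton_iff.1 hg]) hx)
    omega
  · rw [hdim] at hm
    have hmn : m = n - 1 := by omega
    subst hmn
    have hsq : ¬ s ∣ Nat.card F - 1 := by
      intro h3
      have h4 : s ∣ Nat.card F ^ (n - 1) - 1 := by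
        have h5 := Nat.sub_dvd_pow_sub_pow (Nat.card F) 1 (n - 1)
        rw [one_pow] at h5
        exact h3.trans h5
      have h5 := Nat.dvd_sub hpm h4
      have h6 : 1 ≤ Nat.card F ^ (n - 1) := Nat.one_le_pow _ _ Nat.card_pos
      have h7 : Nat.card F ^ (n - 1) + 1 - (Nat.card F ^ (n - 1) - 1) = 2 := by omega
      rw [h7] at h5
      exact hs2 ((Nat.prime_dvd_prime_iff_eq hs.out Nat.prime_two).1 h5)
    have hKK : K (en Q t) ≤ K (en Q y) := by
      intro w hw
      obtain ⟨k, hk, r, hr, rfl⟩ := decomp hy' hlF w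
      have h2 : r = 0 := by
        refine nondeg_R (isom_en y) (polar_nondeg hG) hy' hlF hr (fun x hx => ?_)
        have h3 : polarBilin Q (k + r) x = 0 := perp_KR (isom_en t) hw (h hx)
        have h4 : polarBilin Q k x = 0 := perp_KR (isom_en y) hk hx
        rw [map_add, LinearMap.add_apply, h4, zero_add] at h3
        rw [polarBilin_apply_apply, polar_comm]
        exact h3
      rw [h2, add_zero]
      exact hk
    refine v_cent hG hf D.card hsF ht hsq (fun u hu hQu hu0 w hw huw => ?_)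
    obtain ⟨u', hu', huu', -, -, hdec⟩ := exists_pair hK hnd (hKK hu) hu0 hQu
    have h2 := hdec w (hKK hw)
    rw [huw, zero_smul, add_zero] at h2
    rw [h2]
    exact Submodule.smul_mem _ _ (Submodule.mem_span_singleton_self u)

end tori

end Cfsg.Agent.H311.PD
end

-- part: H311/PD/Minus2
section
/-!
# S4246, row `POmega^-_{2n}(q)`: the two primes (helper311)
-/

set_option autoImplicit false
set_option linter.unusedSectionVars false

namespace Cfsg.Agent.H311.PD

open QuadraticMap Module Subgroup Cfsg.Agent.LieClassical.OrthCore Cfsg.Agent.LieClassical.OrthTrans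
open Cfsg.Agent.ClassicalGeometry.OrthSemi Cfsg.Agent.ClassicalGeometry.OrthAut1
open Cfsg.Agent.H200.LinFix Cfsg.Agent.H200.RowOrth
open Cfsg.Agent.H160.PD (v v_mono v_eq_zero v_pos Fx mem_Fx out Good Two One NoOdd Inc noOdd_of_uniq odd_bound_of_uniq)

variable {F V : Type*} [Field F] [AddCommGroup V] [Module F V] {Q : QuadraticForm F V} [Finite V]

section tori

variable [Finite F] {p f n : ℕ} [hp : Fact p.Prime]

/-- all the data of the minus type -/
structure Dat2 (Q : QuadraticForm F V) (p f n : ℕ) : Prop extends Dat Q p f n where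
  ord : Nat.gcd 4 ((p ^ f) ^ n + 1) * Nat.card (P Q) = (p ^ f) ^ (n * (n - 1)) * ((p ^ f) ^ n + 1) *
      ∏ i ∈ Finset.range (n - 1), ((p ^ f) ^ (2 * (i + 1)) - 1)
  out : ∃ c, out (P Q) = c * f ∧ (c = 2 ∨ (p ≠ 2 ∧ (c = 4 ∨ c = 8)))
  aut : ∀ a : MulAut (P Q), ∃ M : Gam Q, a = Psi Q M
  simple : IsSimpleGroup (P Q)
  na : ¬ IsMulCommutative (P Q)

/-- a primitive prime -/
structure Prm (F : Type*) [Field F] (p f e l : ℕ) : Prop where
  prime : l.Prime
  two : l ≠ 2
  sup : ∀ m, l ∣ p ^ m - 1 → f * e ∣ m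
  dvd : l ∣ (p ^ f) ^ e - 1
  le : f * e + 1 ≤ l
  ord : Ordd l (Nat.card F) e
  cast : (l : F) ≠ 0

theorem exists_prm (hF : Nat.card F = p ^ f) (hpF : (p : F) = 0) (hf : 1 ≤ f) {e : ℕ} (he : 3 ≤ e)
    (h6 : ¬ (p = 2 ∧ f * e = 6)) : ∃ l, Prm F p f e l := by
  obtain ⟨l, hl, hl2, h1, h2, h3, h4, h5⟩ := exists_super hp.out hf he h6
  have := Fact.mk hl
  have hc : CharP F p := (CharP.charP_iff_prime_eq_zero hp.out).2 hpF
  exact ⟨l, hl, hl2, h1, h2, h3, hF ▸ h4, natCast_ne_of_not_dvd hp.out h5⟩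

theorem Prm.ne_char {e l : ℕ} (h : Prm F p f e l) (hpF : (p : F) = 0) : l ≠ p := by
  rintro rfl
  exact h.cast hpF

/-- irreducibility over the prime field -/
theorem Prm.irrZ (hF : Nat.card F = p ^ f) {e l : ℕ} (h : Prm F p f e l) (hV : finrank F V < 2 * e) (y : ↥(E Q))
    (hy : y ^ l = 1) : IrrZ (en Q y) (R (en Q y)) := by
  have := Fact.mk h.prime
  by_cases hy1 : y = 1
  · subst hy1
    intro U hU _
    left
    rw [eq_bot_iff]
    intro u hu
    have h2 := hU u hu
    rw [map_one, R_eq_bot.2 rfl] at h2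
    exact h2
  · have hy' : en Q y ^ l = 1 := by rw [← map_pow, hy, map_one]
    exact irrZ_of hp.out hF h.sup h.cast hy' (finrank_R_eq h.ord h.cast hV hy hy1).le

/-- lifting an element of order `l` -/
theorem exists_lift_ord (hG : LieClassical.OrthTrans.Good Q) {l : ℕ} (hl : l.Prime) (hl2 : l ≠ 2) {x : P Q}
    (hx : orderOf x = l) : ∃ y : ↥(E Q), y ^ l = 1 ∧ y ≠ 1 ∧ (QuotientGroup.mk y : P Q) = x := by
  have := Fact.mk hl
  obtain ⟨y, hy, hyx⟩ := lift_pow hG x (hl.odd_of_ne_two hl2) (by rw [← hx, pow_orderOf_eq_one])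
  refine ⟨y, hy, ?_, hyx⟩
  rintro rfl
  rw [← hyx, QuotientGroup.mk_one, orderOf_one] at hx
  exact hl.one_lt.ne hx

theorem Dat2.out_char (D : Dat2 Q p f n) : (H160.PD.out (P Q)).factorization p ≤ f := by
  obtain ⟨c, h1, h2⟩ := D.out
  rw [h1]
  exact fac_out_char hp.out D.hf h2

theorem Dat2.out_odd (D : Dat2 Q p f n) {t : ℕ} (ht : t.Prime) (ht2 : t ≠ 2) :
    (H160.PD.out (P Q)).factorization t = f.factorization t := by
  obtain ⟨c, h1, h2⟩ := D.out
  rw [h1]
  exact fac_out_odd ht ht2 D.hf h2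

theorem Dat2.out_char_odd (D : Dat2 Q p f n) (hp2 : p ≠ 2) : (H160.PD.out (P Q)).factorization p + 1 ≤ f := by
  rw [D.out_odd hp.out hp2]
  have hf := D.hf
  exact Nat.factorization_lt p (by omega)

theorem Dat2.v_char (D : Dat2 Q p f n) : v p (P Q) = f * (n * (n - 1)) := by
  have hfinE : Finite ↥(E Q) := finite_E
  have hfinP : Finite (P Q) := inferInstance
  exact fac_minus_char hp.out D.hf D.hn Nat.card_pos.ne' D.ord

theorem Dat2.v_odd (D : Dat2 Q p f n) {t : ℕ} (ht : t.Prime) (ht2 : t ≠ 2) (htp : t ≠ p) :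
    v t (P Q) = ((p ^ f) ^ n + 1).factorization t + ((p ^ f) ^ (n - 1) + 1).factorization t +
      ((p ^ f) ^ (n - 1) - 1).factorization t +
        (∏ i ∈ Finset.range (n - 2), ((p ^ f) ^ (2 * (i + 1)) - 1)).factorization t := by
  have hfinE : Finite ↥(E Q) := finite_E
  have hfinP : Finite (P Q) := inferInstance
  exact fac_minus_odd ht ht2 hp.out htp D.hf D.hn Nat.card_pos.ne' D.ord

theorem Dat2.good_first (D : Dat2 Q p f n) {t : ℕ} (ht : t.Prime) (ht2 : t ≠ 2) (htp : t ≠ p)
    (hd : t ∣ (p ^ f) ^ n + 1) : (H160.PD.out (P Q)).factorization t < v t (P Q) := by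
  have hn := D.hn
  have h1 := fac_prim ht ht2 hp.out D.hf (show 1 ≤ n by omega) hd
  rw [D.out_odd ht ht2, D.v_odd ht ht2 htp]
  omega

theorem Dat2.good_second (D : Dat2 Q p f n) {t : ℕ} (ht : t.Prime) (ht2 : t ≠ 2) (htp : t ≠ p)
    (hd : t ∣ (p ^ f) ^ (n - 1) + 1) : (H160.PD.out (P Q)).factorization t < v t (P Q) := by
  have hn := D.hn
  have h1 := fac_prim ht ht2 hp.out D.hf (show 1 ≤ n - 1 by omega) hd
  rw [D.out_odd ht ht2, D.v_odd ht ht2 htp]
  omega

theorem Prm.dvd_first (D : Dat2 Q p f n) {l : ℕ} (h : Prm F p f (2 * n) l) : l ∣ (p ^ f) ^ n + 1 := by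
  have := Fact.mk h.prime
  have hn := D.hn
  exact dvd_add_one (by omega) (D.card ▸ h.ord) h.dvd

theorem Prm.dvd_second (D : Dat2 Q p f n) {l : ℕ} (h : Prm F p f (2 * (n - 1)) l) : l ∣ (p ^ f) ^ (n - 1) + 1 := by
  have := Fact.mk h.prime
  have hn := D.hn
  exact dvd_add_one (by omega) (D.card ▸ h.ord) h.dvd

/-- the normalisers of the elements of type `2n` -/
theorem Dat2.norm_first (D : Dat2 Q p f n) {l : ℕ} (h : Prm F p f (2 * n) l) {x : P Q} (hx : orderOf x = l) :
    Nat.card (normalizer ((zpowers x : Subgroup (P Q)) : Set (P Q))) ∣ ((p ^ f) ^ n + 1) * (2 * n) := by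
  have := Fact.mk h.prime
  have hV := D.dim
  obtain ⟨y, hy, hy1, rfl⟩ := exists_lift_ord D.good h.prime h.two hx
  have h1 := cent_first D.toDat h.two h.cast h.ord hy hy1
  have h2 := card_normalizer D.good h.two h.cast hy hy1 h1.1
  refine h2.trans ?_
  rw [h1.2.1, ← D.card]
  exact Nat.mul_dvd_mul_right h1.2.2.2 _

/-- the normalisers of the elements of type `2n - 2` -/
theorem Dat2.norm_second (D : Dat2 Q p f n) {l : ℕ} (h : Prm F p f (2 * (n - 1)) l) {x : P Q} (hx : orderOf x = l) :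
    Nat.card (normalizer ((zpowers x : Subgroup (P Q)) : Set (P Q))) ∣
      ((p ^ f) ^ (n - 1) + 1) * (2 * (p ^ f - 1)) * (2 * (n - 1)) := by
  have := Fact.mk h.prime
  have hV := D.dim
  obtain ⟨y, hy, hy1, rfl⟩ := exists_lift_ord D.good h.prime h.two hx
  have h1 := cent_second D.toDat h.two h.cast h.ord hy hy1
  have h2 := card_normalizer D.good h.two h.cast hy hy1 h1.1
  refine h2.trans ?_
  rw [h1.2.1, ← D.card]
  exact Nat.mul_dvd_mul_right h1.2.2.2.2 _

theorem Dat2.uniq (D : Dat2 Q p f n) {e l : ℕ} (h : Prm F p f e l) (hV : finrank F V < 2 * e) :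
    H160.PD.Uniq (P Q) l := by
  have hfinE : Finite ↥(E Q) := finite_E
  have := Fact.mk h.prime
  obtain ⟨P', hP'⟩ := cyclic_sylow D.good h.two h.cast h.ord hV
  exact uniq_of_sylow P' hP'

/-- **`NoOdd`.** -/
theorem Dat2.noOdd (D : Dat2 Q p f n) {r s : ℕ} (hr : Prm F p f (2 * n) r) (hs : Prm F p f (2 * (n - 1)) s) :
    NoOdd (P Q) r s := by
  have hfinE : Finite ↥(E Q) := finite_E
  have hn := D.hn
  have hf := D.hf
  have hV := D.dim
  have hrF := Fact.mk hr.prime
  have hsF := Fact.mk hs.prime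
  have h1 := hr.dvd_first D
  have h2 := hs.dvd_second D
  have hrl : 2 * n + 1 ≤ r := by
    have h3 := hr.le
    have h4 : 1 * (2 * n) ≤ f * (2 * n) := Nat.mul_le_mul_right _ hf
    omega
  have hsl : 2 * (n - 1) + 1 ≤ s := by
    have h3 := hs.le
    have h4 : 1 * (2 * (n - 1)) ≤ f * (2 * (n - 1)) := Nat.mul_le_mul_right _ hf
    omega
  have e1 : ¬ s ∣ (p ^ f) ^ n + 1 := fun h => arith_succ (p := s) hs.two (by omega) h h2
  have e2 : ¬ r ∣ (p ^ f) ^ (n - 1) + 1 := fun h => arith_succ (p := r) hr.two (by omega) h1 h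
  refine noOdd_of_uniq hr.prime hs.prime (fun h => e1 (h ▸ h1)) (D.uniq hr (by omega)) (D.uniq hs (by omega))
    (fun x hx hd => ?_) (fun x hx hd => ?_)
  · have h3 := hd.trans (D.norm_first hr hx)
    rcases hs.prime.dvd_mul.1 h3 with h4 | h4
    · exact e1 h4
    · rcases hs.prime.dvd_mul.1 h4 with h5 | h5
      · exact hs.two ((Nat.prime_dvd_prime_iff_eq hs.prime Nat.prime_two).1 h5)
      · have := Nat.le_of_dvd (by omega) h5
        omega
  · have h3 := hd.trans (D.norm_second hs hx)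
    rcases hr.prime.dvd_mul.1 h3 with h4 | h4
    · rcases hr.prime.dvd_mul.1 h4 with h5 | h5
      · exact e2 h5
      · rcases hr.prime.dvd_mul.1 h5 with h6 | h6
        · exact hr.two ((Nat.prime_dvd_prime_iff_eq hr.prime Nat.prime_two).1 h6)
        · have h7 := hr.ord 1 (by rw [pow_one, D.card]; exact h6)
          have := Nat.le_of_dvd one_pos h7
          omega
    · have := Nat.le_of_dvd (by omega) h4
      omega

/-- **`Inc`.** -/
theorem Dat2.inc (D : Dat2 Q p f n) {r s : ℕ} (hr : Prm F p f (2 * n) r) (hs : Prm F p f (2 * (n - 1)) s) :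
    Inc (P Q) r s := by
  have hfinE : Finite ↥(E Q) := finite_E
  have hfd : FiniteDimensional F V := inferInstance
  have hn := D.hn
  have hV := D.dim
  have hrF := Fact.mk hr.prime
  have hsF := Fact.mk hs.prime
  have := D.simple
  intro b hb hb2 x hx hbx x' hx' hbx'
  have hbF := Fact.mk hb
  obtain ⟨t, y, ht, ht1, hbt, hy, hy1, -, hty⟩ := lift_aut D.good D.na D.aut hb hb2 hr.two
    (fun y hy => hr.irrZ D.card (by omega) y hy) hx hbx
  obtain ⟨z, hz, hz1, hzx⟩ := exists_lift_ord D.good hs.prime hs.two hx'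
  have htz : t * z = z * t := by
    rw [hbt, MulAut.conj_apply, mul_inv_eq_iff_eq_mul, ← hzx] at hbx'
    exact (comm_of_mk D.good (hs.prime.odd_of_ne_two hs.two) hz hbx'.symm).symm
  obtain ⟨hKt, hd, -⟩ := v_comm_first D.toDat hr.two hr.cast hr.ord hy hy1 hb2 ht ht1 hty
  have hirr := (cent_second D.toDat hs.two hs.cast hs.ord hz hz1).1
  have hdim := (cent_second D.toDat hs.two hs.cast hs.ord hz hz1).2.1
  rcases comm_elt D.good hs.two hs.cast hz hirr ht htz with h | ⟨-, m, hm, hpm⟩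
  · have h1 : R (en Q z) ≤ K (en Q t) := fun w hw => mem_K.2 (h w hw)
    rw [hKt, le_bot_iff] at h1
    rw [h1, finrank_bot] at hdim
    omega
  · rw [hdim] at hm
    have hmn : m = n - 1 := by omega
    subst hmn
    exact arith_succ (p := orderOf b) hb2 (by omega) hd hpm

/-- **`syl₀`.** -/
theorem Dat2.syl_first (D : Dat2 Q p f n) {r : ℕ} (hr : Prm F p f (2 * n) r) {b : MulAut (P Q)}
    (hb : (orderOf b).Prime) (hb2 : orderOf b ≠ 2) (hbp : orderOf b ≠ p) {x : P Q} (hx : orderOf x = r)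
    (hbx : b x = x) : v p (Fx b) + f * (2 * n - 2) ≤ v p (P Q) + f := by
  have hfinE : Finite ↥(E Q) := finite_E
  have hn := D.hn
  have hV := D.dim
  have hrF := Fact.mk hr.prime
  have := D.simple
  have hbF := Fact.mk hb
  have hbcast : ((orderOf b : ℕ) : F) ≠ 0 := by
    have hc : CharP F p := (CharP.charP_iff_prime_eq_zero hp.out).2 D.char
    refine natCast_ne_of_not_dvd hp.out fun h => hbp ((Nat.prime_dvd_prime_iff_eq hb hp.out).1 h)
  obtain ⟨t, y, ht, ht1, hbt, hy, hy1, -, hty⟩ := lift_aut D.good D.na D.aut hb hb2 hr.two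
    (fun y hy => hr.irrZ D.card (by omega) y hy) hx hbx
  obtain ⟨hKt, hd, hq⟩ := v_comm_first D.toDat hr.two hr.cast hr.ord hy hy1 hb2 ht ht1 hty
  have h1 := v_cent D.good D.hf D.card hbcast ht hq (fun u hu _ hu0 => by
    rw [hKt] at hu
    exact absurd hu hu0)
  have h2 := v_centralizer_mk D.good (hb.odd_of_ne_two hb2) ht p
  have h3 : v p (Fx b) ≤ v p (centralizer ({(QuotientGroup.mk t : P Q)} : Set (P Q))) := by
    rw [← Fx_conj, ← hbt]
  rw [v_P_char D.good D.char]
  rw [hV] at h1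
  omega

/-- **`syl₁`.** -/
theorem Dat2.syl_second (D : Dat2 Q p f n) {r : ℕ} (hr : Prm F p f (2 * (n - 1)) r) {b : MulAut (P Q)}
    (hb : (orderOf b).Prime) (hb2 : orderOf b ≠ 2) (hbp : orderOf b ≠ p) {x : P Q} (hx : orderOf x = r)
    (hbx : b x = x) : v p (Fx b) + f * (2 * n - 2) ≤ v p (P Q) + f := by
  have hfinE : Finite ↥(E Q) := finite_E
  have hn := D.hn
  have hV := D.dim
  have hrF := Fact.mk hr.prime
  have := D.simple
  have hbF := Fact.mk hb
  have hbcast : ((orderOf b : ℕ) : F) ≠ 0 := by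
    have hc : CharP F p := (CharP.charP_iff_prime_eq_zero hp.out).2 D.char
    refine natCast_ne_of_not_dvd hp.out fun h => hbp ((Nat.prime_dvd_prime_iff_eq hb hp.out).1 h)
  obtain ⟨t, y, ht, ht1, hbt, hy, hy1, -, hty⟩ := lift_aut D.good D.na D.aut hb hb2 hr.two
    (fun y hy => hr.irrZ D.card (by omega) y hy) hx hbx
  have h1 := v_comm_second D.toDat hr.two hr.cast hr.ord hy hy1 hb2 hbcast ht ht1 hty
  have h2 := v_centralizer_mk D.good (hb.odd_of_ne_two hb2) ht p
  have h3 : v p (Fx b) ≤ v p (centralizer ({(QuotientGroup.mk t : P Q)} : Set (P Q))) := by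
    rw [← Fx_conj, ← hbt]
  rw [v_P_char D.good D.char]
  rw [hV] at h1
  omega

end tori

end Cfsg.Agent.H311.PD
end

-- part: H898/PDLin2
section
/-!
# S4246, orthogonal groups: isometries of odd order (helper898)

* `even_R` : `dim [V, s]` is even for an isometry `s` of odd order prime to the characteristic;
* `triv_of_noTI` : a `p`-group normalised by `y`, no nonzero `y`-invariant totally isotropic subspaces;
* `card_dvd_unitary` : groups of isometries commuting with an irreducible isometry;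
* `card_dvd_three` : `t`-groups of isometries in dimension `3`;
* `pow_of_conj` : `y x = x ^ k y`, `x` irreducible on `R x`: `x ^ (k ^ dim R x) = x`.
-/

set_option autoImplicit false
set_option linter.unusedSectionVars false

namespace Cfsg.Agent.H898.PDLin

open Module Cfsg.Agent.H200.LinFix

variable {F : Type*} [Field F] {V : Type*} [AddCommGroup V] [Module F V] {B : LinearMap.BilinForm F V}

theorem ns_R [Finite V] (hB : NS B) {s : Module.End F V} (hs : Isom B s) {m : ℕ} (hmF : (m : F) ≠ 0)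
    (hsm : s ^ m = 1) : NS (B.restrict (R s)) :=
  ⟨fun a b => hB.symm a b, fun v hv => Subtype.ext (nondeg_R hs hB.nd hsm hmF v.2 fun u hu => hv ⟨u, hu⟩)⟩

theorem ns_K [Finite V] (hB : NS B) {s : Module.End F V} (hs : Isom B s) {m : ℕ} (hmF : (m : F) ≠ 0)
    (hsm : s ^ m = 1) : NS (B.restrict (K s)) :=
  ⟨fun a b => hB.symm a b, fun v hv => Subtype.ext (nondeg_K hs hB.nd hsm hmF v.2 fun u hu => hv ⟨u, hu⟩)⟩

theorem fix_of_sq' [Finite V] {s : Module.End F V} {m : ℕ} (hm : Odd m) (hsm : s ^ m = 1) {w : V} (h : s (s w) = w) : s w = w := by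
  apply fix_of_coprime (m := 2) (n := m) h (by rw [hsm]; rfl)
  exact (Nat.coprime_two_left).2 hm

/-- **`dim [V, s]` is even.** -/
theorem even_R [Finite V] (hB : NS B) {s : Module.End F V} (hs : Isom B s) {m : ℕ} (hm : Odd m) (hmF : (m : F) ≠ 0)
    (hsm : s ^ m = 1) : Even (finrank F (R s)) := by
  have hfd : FiniteDimensional F V := inferInstance
  have hm1 : 1 ≤ m := hm.pos
  have hinv : ∀ v, s ((s ^ (m - 1)) v) = v := fun v => by
    rw [← Module.End.mul_apply, ← pow_succ', Nat.sub_add_cancel hm1, hsm, Module.End.one_apply]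
  have hRp : ∀ k : ℕ, ∀ w ∈ R s, (s ^ k) w ∈ R s := fun k w hw => R_inv (by rw [← pow_succ, ← pow_succ']) hw
  let D : Module.End F (R s) := (s - s ^ (m - 1)).restrict fun w hw =>
    Submodule.sub_mem _ (by simpa using hRp 1 w hw) (hRp _ w hw)
  let A : LinearMap.BilinForm F (R s) := (B.restrict (R s)).compRight D
  have hA : ∀ u v : R s, A u v = B u (s v) - B u ((s ^ (m - 1)) v) := fun u v => by
    change B u (s v - (s ^ (m - 1)) v) = _
    rw [map_sub]
  have hswap : ∀ u v : V, B u ((s ^ (m - 1)) v) = B (s u) v := fun u v => by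
    conv_rhs => rw [← hinv v]
    exact (hs u _).symm
  have hAalt : A.IsAlt := by
    intro v
    rw [hA, hswap, hB.symm (s v), sub_self]
  obtain ⟨k, hk⟩ := ClassicalGeometry.TwoFamilies.exists_finrank_eq_ker_add A hAalt
  have hker : LinearMap.ker A = ⊥ := by
    rw [LinearMap.ker_eq_bot']
    intro u hu
    have h1 : ∀ v : R s, A v u = 0 := fun v => by
      rw [← LinearMap.IsAlt.neg hAalt u v, hu, LinearMap.zero_apply, neg_zero]
    have h2 : s u - (s ^ (m - 1)) u = 0 := by
      apply nondeg_R hs hB.nd hsm hmF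
      · exact Submodule.sub_mem _ (by simpa using hRp 1 u u.2) (hRp _ u u.2)
      · intro v hv
        have h3 := h1 ⟨v, hv⟩
        rw [hA] at h3
        rw [map_sub]
        exact h3
    have h3 : s (s u) = u := by
      rw [sub_eq_zero.1 h2, hinv]
    exact Subtype.ext (eq_zero_of_mem hsm hmF (fix_of_sq' hm hsm h3) u.2)
  rw [hker, finrank_bot, zero_add] at hk
  exact ⟨k, hk⟩

/-! ### `p`-groups normalised by an isometry -/

theorem triv_of_noTI [Finite V] (hB : NS B) {P : Type*} [Group P] [Finite P] {p : ℕ} [hp : Fact p.Prime]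
    (hP : IsPGroup p P) (ρ : P →* Module.End F V) (hpF : (p : F) = 0) (hiso : ∀ g, Isom B (ρ g))
    {y y' : Module.End F V} (hy : Isom B y) (hyy : ∀ v, y (y' v) = v)
    (hn : ∀ g, ∃ g', ∀ v, ρ g (y v) = y (ρ g' v)) (hn' : ∀ g, ∃ g', ∀ v, ρ g (y' v) = y' (ρ g' v))
    (hti : ∀ U : Submodule F V, (∀ u ∈ U, y u ∈ U) → (∀ u ∈ U, ∀ v ∈ U, B u v = 0) → (∀ g, ∀ u ∈ U, ρ g u = u) →
      U = ⊥) : ∀ g v, ρ g v = v := by
  let U₀ : Submodule F V :=
    { carrier := {v | ∀ g, ρ g v = v}
      add_mem' := fun {a b} ha hb g => by rw [map_add, ha g, hb g]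
      zero_mem' := fun g => map_zero _
      smul_mem' := fun c v hv g => by rw [map_smul, hv g] }
  let U₁ : Submodule F V :=
    { carrier := {v | ∀ u ∈ U₀, B u v = 0}
      add_mem' := fun {a b} ha hb u hu => by rw [map_add, ha u hu, hb u hu, add_zero]
      zero_mem' := fun u _ => map_zero _
      smul_mem' := fun c v hv u hu => by rw [map_smul, hv u hu, smul_zero] }
  have hy0 : ∀ u ∈ U₀, y u ∈ U₀ := by
    intro u hu g
    obtain ⟨g', hg'⟩ := hn g
    rw [hg', hu g']
  have hy0' : ∀ u ∈ U₀, y' u ∈ U₀ := by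
    intro u hu g
    obtain ⟨g', hg'⟩ := hn' g
    rw [hg', hu g']
  have hy1 : ∀ u ∈ U₁, y u ∈ U₁ := by
    intro v hv u hu
    have h1 := hy (y' u) v
    rw [hyy] at h1
    rw [h1]
    exact hv _ (hy0' u hu)
  have hbot : U₀ ⊓ U₁ = ⊥ := hti _ (fun u hu => ⟨hy0 u hu.1, hy1 u hu.2⟩) (fun u hu v hv => hv.2 u hu.1)
    (fun g u hu => hu.1 g)
  have hP1 : ∀ g, ∀ v ∈ U₁, ρ g v ∈ U₁ := by
    intro g v hv u hu
    have h1 := hiso g u v
    rw [hu g] at h1
    rw [h1]
    exact hv u hu
  have h4 : U₁ = ⊥ := eq_bot_of_fixed hP ρ hpF hP1 fun w hw hfix => by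
    have h5 : w ∈ U₀ ⊓ U₁ := ⟨hfix, hw⟩
    rw [hbot] at h5
    exact h5
  have hfd : FiniteDimensional F V := inferInstance
  have h5 : U₀ = ⊤ := by
    have h6 : LinearMap.BilinForm.orthogonal B U₀ = U₁ := by
      ext v
      rfl
    have hnd : B.Nondegenerate :=
      ⟨fun v hv => hB.nd v fun u => by rw [hB.symm]; exact hv u, fun v hv => hB.nd v hv⟩
    have h7 := LinearMap.BilinForm.finrank_orthogonal hnd U₀
    rw [h6, h4, finrank_bot] at h7
    have h8 : finrank F U₀ ≤ finrank F V := Submodule.finrank_le _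
    exact Submodule.eq_top_of_finrank_eq (by omega)
  intro g v
  have h6 : v ∈ U₀ := h5 ▸ Submodule.mem_top
  exact h6 g

/-! ### splitting along two subspaces -/

theorem card_le_two [Finite V] [Finite F] (h2 : (2 : F) ≠ 0) {p : ℕ} [hp : Fact p.Prime] (hpF : (p : F) = 0)
    {P : Type*} [Group P] [Finite P] (hP : IsPGroup p P) (ρ : P →* Module.End F V) (hρ : Function.Injective ρ)
    (hiso : ∀ g, Isom B (ρ g)) {W₁ W₂ : Submodule F V} (h₁ : ∀ g, ∀ w ∈ W₁, ρ g w ∈ W₁)
    (h₂ : ∀ g, ∀ w ∈ W₂, ρ g w ∈ W₂) (hW : W₁ ⊔ W₂ = ⊤) (hn₁ : NS (B.restrict W₁)) (hn₂ : NS (B.restrict W₂))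
    {a b : ℕ} (ha : finrank F W₁ ≤ a) (hb : finrank F W₂ ≤ b) :
    Nat.card P ≤ Nat.card F ^ ((a - 1) ^ 2 / 4 + (b - 1) ^ 2 / 4) := by
  set τ := res ρ W₁ h₁ with hτ
  have h3 : Nat.card (P ⧸ τ.ker) ≤ Nat.card F ^ ((a - 1) ^ 2 / 4) := by
    refine card_le h2 hpF a (B.restrict W₁) hn₁ ha (hP.to_quotient _) (QuotientGroup.lift τ.ker τ le_rfl) ?_ ?_
    · intro a b hab
      obtain ⟨a, rfl⟩ := QuotientGroup.mk_surjective a
      obtain ⟨b, rfl⟩ := QuotientGroup.mk_surjective b
      rw [QuotientGroup.lift_mk', QuotientGroup.lift_mk'] at hab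
      rw [QuotientGroup.eq, MonoidHom.mem_ker, map_mul, ← hab, ← map_mul, inv_mul_cancel, map_one]
    · intro a
      obtain ⟨a, rfl⟩ := QuotientGroup.mk_surjective a
      rw [QuotientGroup.lift_mk']
      exact iso_res (hiso a)
  have h4 : Nat.card τ.ker ≤ Nat.card F ^ ((b - 1) ^ 2 / 4) := by
    refine card_le h2 hpF b (B.restrict W₂) hn₂ hb (hP.to_subgroup τ.ker)
      (res (ρ.comp τ.ker.subtype) W₂ fun g => h₂ g) ?_ (fun g => iso_res (hiso g))
    rw [← MonoidHom.ker_eq_bot_iff, eq_bot_iff]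
    intro g hg'
    have hg : ∀ w ∈ W₂, ρ g w = w := mem_ker_res.1 hg'
    rw [Subgroup.mem_bot]
    apply Subtype.ext
    apply hρ
    rw [OneMemClass.coe_one, map_one]
    refine LinearMap.ext fun x => ?_
    obtain ⟨w₁, hw₁, w₂, hw₂, rfl⟩ := Submodule.mem_sup.1 (show x ∈ W₁ ⊔ W₂ by rw [hW]; exact Submodule.mem_top)
    have h5 : ρ g w₂ = w₂ := hg w₂ hw₂
    have h6 := mem_ker_res.1 g.2 w₁ hw₁
    rw [map_add, h5, h6]
    rfl
  calc Nat.card P = Nat.card (P ⧸ τ.ker) * Nat.card τ.ker := Subgroup.card_eq_card_quotient_mul_card_subgroup _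
    _ ≤ Nat.card F ^ ((a - 1) ^ 2 / 4) * Nat.card F ^ ((b - 1) ^ 2 / 4) := Nat.mul_le_mul h3 h4
    _ = Nat.card F ^ ((a - 1) ^ 2 / 4 + (b - 1) ^ 2 / 4) := (pow_add _ _ _).symm

theorem sup_KR [Finite V] {s : Module.End F V} {m : ℕ} (hmF : (m : F) ≠ 0) (hsm : s ^ m = 1) : R s ⊔ K s = ⊤ := by
  have hfd : FiniteDimensional F V := inferInstance
  rw [sup_comm]
  exact (isCompl hsm hmF).sup_eq_top

theorem arith1 {n j : ℕ} (hj : 1 ≤ j) (hjn : j ≤ n) :
    (j + j - 1) ^ 2 / 4 + (2 * n + 1 - (j + j) - 1) ^ 2 / 4 ≤ n * (n - 1) := by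
  obtain ⟨i, rfl⟩ := Nat.exists_eq_add_of_le' hj
  obtain ⟨k, rfl⟩ := Nat.exists_eq_add_of_le hjn
  have h1 : i + 1 + (i + 1) - 1 = 2 * i + 1 := by omega
  have h2 : 2 * (i + 1 + k) + 1 - (i + 1 + (i + 1)) - 1 = 2 * k := by omega
  have h3 : i + 1 + k - 1 = i + k := by omega
  rw [h1, h2, h3]
  have h4 : (2 * i + 1) ^ 2 / 4 = i * (i + 1) := by
    rw [show (2 * i + 1) ^ 2 = 1 + i * (i + 1) * 4 by ring, Nat.add_mul_div_right _ _ (by norm_num)]
    norm_num
  have h5 : (2 * k) ^ 2 / 4 = k ^ 2 := by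
    rw [show (2 * k) ^ 2 = k ^ 2 * 4 by ring, Nat.mul_div_cancel _ (by norm_num)]
  rw [h4, h5]
  linarith only [Nat.zero_le (i * k)]

/-- **The `p`-part of the centraliser of an isometry of odd order**, dimension `2 n + 1`. -/
theorem card_le_comm [Finite V] [Finite F] (hB : NS B) (h2 : (2 : F) ≠ 0) {p : ℕ} [hp : Fact p.Prime]
    (hpF : (p : F) = 0) {P : Type*} [Group P] [Finite P] (hP : IsPGroup p P) (ρ : P →* Module.End F V)
    (hρ : Function.Injective ρ) (hiso : ∀ g, Isom B (ρ g)) {n : ℕ} (hV : finrank F V = 2 * n + 1)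
    {s : Module.End F V} (hs : Isom B s) {m : ℕ} (hm : Odd m) (hmF : (m : F) ≠ 0) (hsm : s ^ m = 1) (hs1 : s ≠ 1)
    (hc : ∀ g, ρ g * s = s * ρ g) : Nat.card P ≤ Nat.card F ^ (n * (n - 1)) := by
  have hfd : FiniteDimensional F V := inferInstance
  obtain ⟨j, hj⟩ := even_R hB hs hm hmF hsm
  have h1 := finrank_add s
  have h3 : finrank F (R s) ≠ 0 := by
    intro h0
    rw [Submodule.finrank_eq_zero, R_eq_bot] at h0
    exact hs1 h0
  refine (card_le_two h2 hpF hP ρ hρ hiso (fun g w hw => R_inv (hc g) hw) (fun g w hw => K_inv (hc g) hw)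
    (sup_KR hmF hsm) (ns_R hB hs hmF hsm) (ns_K hB hs hmF hsm) hj.le
    (show finrank F (K s) ≤ 2 * n + 1 - (j + j) by omega)).trans (Nat.pow_le_pow_right Nat.card_pos ?_)
  exact arith1 (by omega) (by omega)

/-- a `p`-group commuting with `y` acts trivially on `R y` if `y` is irreducible there -/
theorem fix_of_irr [Finite V] {p : ℕ} [hp : Fact p.Prime] (hpF : (p : F) = 0) {P : Type*} [Group P]
    [Finite P] (hP : IsPGroup p P) (ρ : P →* Module.End F V) {y : Module.End F V} (hirr : Irr y (R y))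
    (hc : ∀ g, ρ g * y = y * ρ g) (g : P) {w : V} (hw : w ∈ R y) : ρ g w = w := by
  let U₀ : Submodule F V :=
    { carrier := {v | v ∈ R y ∧ ∀ g, ρ g v = v}
      add_mem' := fun {a b} ha hb => ⟨Submodule.add_mem _ ha.1 hb.1, fun g => by rw [map_add, ha.2 g, hb.2 g]⟩
      zero_mem' := ⟨Submodule.zero_mem _, fun g => map_zero _⟩
      smul_mem' := fun c v hv => ⟨Submodule.smul_mem _ _ hv.1, fun g => by rw [map_smul, hv.2 g]⟩ }
  rcases hirr U₀ (fun u hu => hu.1) (fun u hu => ⟨R_inv rfl hu.1, fun g => by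
    rw [← Module.End.mul_apply, hc, Module.End.mul_apply, hu.2 g]⟩) with h | h
  · have h1 : R y = ⊥ := eq_bot_of_fixed hP ρ hpF (fun g w hw => R_inv (hc g) hw) fun w hw hfix => by
      have h2 : w ∈ U₀ := ⟨hw, hfix⟩
      rw [h] at h2
      exact h2
    rw [h1, Submodule.mem_bot] at hw
    rw [hw, map_zero]
  · rw [← h] at hw
    exact hw.2 g

/-- **The `p`-part of the centraliser of an irreducible isometry.** -/
theorem card_le_irr [Finite V] [Finite F] (hB : NS B) (h2 : (2 : F) ≠ 0) {p : ℕ} [hp : Fact p.Prime]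
    (hpF : (p : F) = 0) {P : Type*} [Group P] [Finite P] (hP : IsPGroup p P) (ρ : P →* Module.End F V)
    (hρ : Function.Injective ρ) (hiso : ∀ g, Isom B (ρ g)) {y : Module.End F V} (hy : Isom B y) {m : ℕ}
    (hmF : (m : F) ≠ 0) (hym : y ^ m = 1) (hirr : Irr y (R y)) (hc : ∀ g, ρ g * y = y * ρ g) {a : ℕ}
    (ha : finrank F (K y) ≤ a) : Nat.card P ≤ Nat.card F ^ ((a - 1) ^ 2 / 4) := by
  refine card_le h2 hpF a (B.restrict (K y)) (ns_K hB hy hmF hym) ha hP
    (res ρ (K y) fun g w hw => K_inv (hc g) hw) ?_ (fun g => iso_res (hiso g))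
  rw [← MonoidHom.ker_eq_bot_iff, eq_bot_iff]
  intro g hg
  rw [mem_ker_res] at hg
  rw [Subgroup.mem_bot]
  apply hρ
  rw [map_one]
  refine LinearMap.ext fun x => ?_
  obtain ⟨w₁, hw₁, w₂, hw₂, rfl⟩ := Submodule.mem_sup.1 (show x ∈ R y ⊔ K y by
    rw [sup_KR hmF hym]; exact Submodule.mem_top)
  rw [map_add, fix_of_irr hpF hP ρ hirr hc g hw₁, hg w₂ hw₂]
  rfl

/-! ### groups commuting with an irreducible isometry -/

section unitary

variable [Finite V] [Nontrivial V] {g : Module.End F V}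

/-- a finite group commuting with an irreducible endomorphism is cyclic -/
theorem isCyclic_of_comm (hirr : ∀ U : Submodule F V, (∀ u ∈ U, g u ∈ U) → U = ⊥ ∨ U = ⊤) {A : Type*} [Group A]
    [Finite A] (ρ : A →* Module.End F V) (hρ : Function.Injective ρ) (hc : ∀ a, ρ a * g = g * ρ a) : IsCyclic A := by
  have hP : Fact (Irreducible (minpoly F g)) := ⟨irreducible_minpoly hirr⟩
  have hnt : Nontrivial (Module.End F V) := Module.End.instNontrivial
  have hinj : Function.Injective (phi g) := (phi g).toRingHom.injective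
  choose f hf using fun a => exists_phi hirr (hc a)
  let φ : A →* KK g :=
    { toFun := f
      map_one' := hinj (by rw [← hf, map_one, map_one])
      map_mul' := fun a b => hinj (by rw [← hf, map_mul, map_mul, ← hf, ← hf]) }
  refine isCyclic_of_injective_ringHom φ fun a b hab => hρ ?_
  rw [hf, hf]
  exact congrArg (phi g) hab

theorem card_dvd_unitary [Finite F] (hirr : ∀ U : Submodule F V, (∀ u ∈ U, g u ∈ U) → U = ⊥ ∨ U = ⊤)
    (b : LinearMap.BilinForm F V) (hinv : ∀ u v, b (g u) (g v) = b u v) (hb : ∀ v, (∀ u, b u v = 0) → v = 0)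
    {l : ℕ} (hl : g ^ (l + 1) = 1) (h2 : g ^ 2 ≠ 1) {A : Type*} [Group A] [Finite A]
    (ρ : A →* Module.End F V) (hρ : Function.Injective ρ) (hc : ∀ a, ρ a * g = g * ρ a)
    (hiso : ∀ a, Isom b (ρ a)) : ∃ m, finrank F V = 2 * m ∧ Nat.card A ∣ Nat.card F ^ m + 1 := by
  obtain ⟨m, hm, h⟩ := _root_.Cfsg.Agent.H200.LinFix.unitary hirr b hinv hb hl h2
  refine ⟨m, hm, ?_⟩
  have hcyc := isCyclic_of_comm hirr ρ hρ hc
  obtain ⟨a, ha⟩ := hcyc.exists_ofOrder_eq_natCard
  rw [← ha]
  apply orderOf_dvd_of_pow_eq_one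
  apply hρ
  rw [map_pow, map_one]
  exact h (ρ a) (hc a) (hiso a)

end unitary

/-- the same on `R y` -/
theorem card_dvd_R [Finite V] [Finite F] (hB : NS B) {l : ℕ} [hl : Fact l.Prime] (hl2 : l ≠ 2) (hlF : (l : F) ≠ 0)
    {y : Module.End F V} (hy : y ^ l = 1) (hy1 : y ≠ 1) (hyb : Isom B y) (hirr : Irr y (R y)) {A : Type*} [Group A]
    [Finite A] (ρ : A →* Module.End F V) (hc : ∀ a, ρ a * y = y * ρ a) (hiso : ∀ a, Isom B (ρ a)) :
    ∃ m, finrank F (R y) = 2 * m ∧
      Nat.card (A ⧸ (res ρ (R y) fun g _ hw => R_inv (hc g) hw).ker) ∣ Nat.card F ^ m + 1 := by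
  have hfd : FiniteDimensional F V := inferInstance
  have hyW : ∀ w ∈ R y, y w ∈ R y := fun w hw => R_inv rfl hw
  have hne : R y ≠ ⊥ := fun h => hy1 (R_eq_bot.1 h)
  have hnt : Nontrivial (R y) := Submodule.nontrivial_iff_ne_bot.2 hne
  set τ := res ρ (R y) fun g _ hw => R_inv (hc g) hw with hτ
  have hpow : ∀ (n : ℕ) (w : R y), ((((y.restrict hyW) ^ n) w : R y) : V) = (y ^ n) w := by
    intro n
    induction n with
    | zero => intro w; rfl
    | succ n ih =>
      intro w
      rw [pow_succ, pow_succ, Module.End.mul_apply, Module.End.mul_apply, ih]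
      rfl
  have hns := ns_R hB hyb hlF hy
  refine card_dvd_unitary (g := y.restrict hyW) (hirr.restrict hyW) (B.restrict (R y)) (fun u v => hyb u v) hns.nd
    (l := l - 1) ?_ ?_ (QuotientGroup.lift τ.ker τ le_rfl) ?_ ?_ ?_
  · refine LinearMap.ext fun w => Subtype.ext ?_
    rw [hpow, Nat.sub_add_cancel hl.out.one_le, hy]
    rfl
  · intro h
    obtain ⟨w, hw⟩ := exists_ne (0 : R y)
    apply hw
    have h1 := congrArg Subtype.val (LinearMap.congr_fun h w)
    rw [hpow] at h1
    exact Subtype.ext (eq_zero_of_mem hy hlF (fix_of_sq hl2 hy h1) w.2)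
  · intro a b hab
    obtain ⟨a, rfl⟩ := QuotientGroup.mk_surjective a
    obtain ⟨b, rfl⟩ := QuotientGroup.mk_surjective b
    rw [QuotientGroup.lift_mk', QuotientGroup.lift_mk'] at hab
    rw [QuotientGroup.eq, MonoidHom.mem_ker, map_mul, ← hab, ← map_mul, inv_mul_cancel, map_one]
  · intro a
    obtain ⟨a, rfl⟩ := QuotientGroup.mk_surjective a
    rw [QuotientGroup.lift_mk']
    ext w
    exact LinearMap.congr_fun (hc a) w
  · intro a
    obtain ⟨a, rfl⟩ := QuotientGroup.mk_surjective a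
    rw [QuotientGroup.lift_mk']
    exact iso_res (hiso a)

end Cfsg.Agent.H898.PDLin
end

-- part: H898/PDLin3
section
/-!
# S4246, orthogonal groups: further linear algebra (helper898)
-/

set_option autoImplicit false
set_option linter.unusedSectionVars false

namespace Cfsg.Agent.H898.PDLin

open Module Cfsg.Agent.H200.LinFix

variable {F : Type*} [Field F] {V : Type*} [AddCommGroup V] [Module F V] {B : LinearMap.BilinForm F V}

/-! ### `t`-groups in dimension three -/

theorem natCast_orderOf_ne {T : Type*} [Group T] [Finite T] {t : ℕ} [ht : Fact t.Prime] (htF : (t : F) ≠ 0)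
    (hT : IsPGroup t T) (s : T) : ((orderOf s : ℕ) : F) ≠ 0 := by
  obtain ⟨k, hk⟩ := IsPGroup.iff_orderOf.1 hT s
  rw [hk, Nat.cast_pow]
  exact pow_ne_zero _ htF

theorem odd_orderOf {T : Type*} [Group T] [Finite T] {t : ℕ} [ht : Fact t.Prime] (ht2 : t ≠ 2)
    (hT : IsPGroup t T) (s : T) : Odd (orderOf s) := by
  obtain ⟨k, hk⟩ := IsPGroup.iff_orderOf.1 hT s
  rw [hk]
  exact (ht.out.odd_of_ne_two ht2).pow

/-- the elements of a `t`-group of isometries act trivially on nondegenerate lines -/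
theorem triv_of_le_one [Finite V] (hB : NS B) (hV : finrank F V ≤ 1) {s : Module.End F V} (hs : Isom B s) {m : ℕ}
    (hm : Odd m) (hmF : (m : F) ≠ 0) (hsm : s ^ m = 1) : s = 1 := by
  have hfd : FiniteDimensional F V := inferInstance
  obtain ⟨k, hk⟩ := even_R hB hs hm hmF hsm
  have h1 : finrank F (R s) ≤ finrank F V := Submodule.finrank_le _
  rw [← R_eq_bot, ← Submodule.finrank_eq_zero (R := F)]
  omega

/-- **`t`-groups of isometries in dimension `≤ 3`.** -/
theorem card_dvd_three [Finite V] [Finite F] (hB : NS B) {t : ℕ} [ht : Fact t.Prime] (ht2 : t ≠ 2) (htF : (t : F) ≠ 0)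
    {T : Type*} [Group T] [Finite T] (hT : IsPGroup t T) (ρ : T →* Module.End F V) (hρ : Function.Injective ρ)
    (hiso : ∀ g, Isom B (ρ g)) (hV : finrank F V ≤ 3) : Nat.card T ∣ Nat.card F ^ 2 - 1 := by
  classical
  have hfd : FiniteDimensional F V := inferInstance
  rcases subsingleton_or_nontrivial T with hs | hs
  · rw [Nat.card_eq_one_iff_unique.2 ⟨hs, ⟨1⟩⟩]
    exact one_dvd _
  have hc := hT.center_nontrivial
  have hcp : IsPGroup t ↥(Subgroup.center T) := hT.to_subgroup _
  have hd : t ∣ Nat.card ↥(Subgroup.center T) := by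
    obtain ⟨k, hk⟩ := IsPGroup.iff_card.1 hcp
    have h1 : 1 < Nat.card ↥(Subgroup.center T) := Finite.one_lt_card_iff_nontrivial.2 hc
    rw [hk] at h1 ⊢
    apply dvd_pow_self
    rintro rfl
    simp at h1
  obtain ⟨⟨z, hz⟩, hzo⟩ := exists_prime_orderOf_dvd_card' t hd
  rw [Subgroup.orderOf_mk] at hzo
  have hcomm : ∀ s : T, ρ s * ρ z = ρ z * ρ s := fun s => by
    rw [← map_mul, ← map_mul, Subgroup.mem_center_iff.1 hz s]
  have hpow : ∀ s : T, ρ s ^ orderOf s = 1 := fun s => by rw [← map_pow, pow_orderOf_eq_one, map_one]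
  have hev : ∀ s : T, Even (finrank F (R (ρ s))) := fun s =>
    even_R hB (hiso s) (odd_orderOf ht2 hT s) (natCast_orderOf_ne htF hT s) (hpow s)
  have hne : ∀ s : T, s ≠ 1 → finrank F (R (ρ s)) ≠ 0 := fun s hs h0 => by
    rw [Submodule.finrank_eq_zero, R_eq_bot] at h0
    exact hs (hρ (h0.trans (map_one ρ).symm))
  have hz1 : z ≠ 1 := by
    rintro rfl
    rw [orderOf_one] at hzo
    exact ht.out.one_lt.ne hzo
  have hle : ∀ s : T, finrank F (R (ρ s)) ≤ finrank F V := fun s => Submodule.finrank_le _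
  have hadd : ∀ s : T, finrank F (K (ρ s)) + finrank F (R (ρ s)) = finrank F V := fun s => finrank_add _
  have hR2 : ∀ s : T, s ≠ 1 → finrank F (R (ρ s)) = 2 := fun s hs => by
    obtain ⟨k, hk⟩ := hev s
    have h1 := hne s hs
    have h2 := hle s
    omega
  have hK1 : finrank F (K (ρ z)) ≤ 1 := by
    have h1 := hadd z
    have h2 := hR2 z hz1
    omega
  -- trivial action on `K z`
  have hKfix : ∀ s : T, K (ρ z) ≤ K (ρ s) := by
    intro s w hw
    have hinv : ∀ g : T, ∀ w ∈ K (ρ z), ρ g w ∈ K (ρ z) := fun g w hw => K_inv (hcomm g) hw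
    have h1 : res ρ (K (ρ z)) hinv s = 1 := by
      refine triv_of_le_one (ns_K hB (hiso z) (natCast_orderOf_ne htF hT z) (hpow z)) hK1 (iso_res (hiso s))
        (odd_orderOf ht2 hT s) (natCast_orderOf_ne htF hT s) ?_
      rw [← map_pow, pow_orderOf_eq_one, map_one]
    exact mem_K.2 (congrArg Subtype.val (LinearMap.congr_fun h1 ⟨w, hw⟩))
  have hKeq : ∀ s : T, s ≠ 1 → K (ρ s) = K (ρ z) := fun s hs => by
    symm
    apply Submodule.eq_of_le_of_finrank_le (hKfix s)
    have h1 := hadd s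
    have h2 := hadd z
    rw [hR2 s hs] at h1
    rw [hR2 z hz1] at h2
    omega
  -- the free action
  have hinvR : ∀ g : T, ∀ w ∈ R (ρ z), ρ g w ∈ R (ρ z) := fun g w hw => R_inv (hcomm g) hw
  have hinj : ∀ g : T, ∀ w : V, ρ g w = 0 → w = 0 := fun g w h => by
    have h1 : ρ g⁻¹ (ρ g w) = w := by
      rw [← Module.End.mul_apply, ← map_mul, inv_mul_cancel, map_one, Module.End.one_apply]
    rw [← h1, h, map_zero]
  let act : MulAction T {w : R (ρ z) // w ≠ 0} :=
    { smul := fun g w => ⟨⟨ρ g w.1, hinvR g _ w.1.2⟩, fun h => w.2 (Subtype.ext (hinj g _ (congrArg Subtype.val h)))⟩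
      one_smul := fun w => Subtype.ext (Subtype.ext (by
        change ρ 1 (w.1 : V) = w.1
        rw [map_one]; rfl))
      mul_smul := fun g h w => Subtype.ext (Subtype.ext (by
        change ρ (g * h) (w.1 : V) = ρ g (ρ h w.1)
        rw [map_mul]; rfl)) }
  have hfree : ∀ w : {w : R (ρ z) // w ≠ 0}, MulAction.stabilizer T w = ⊥ := by
    intro w
    rw [eq_bot_iff]
    intro g hg
    rw [Subgroup.mem_bot]
    by_contra hg1
    have h1 : ρ g (w.1 : V) = w.1 := congrArg (fun x : {w : R (ρ z) // w ≠ 0} => (x.1 : V)) hg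
    have h2 : (w.1 : V) ∈ K (ρ z) := by
      rw [← hKeq g hg1]
      exact mem_K.2 h1
    exact w.2 (Subtype.ext (eq_zero_of_mem (hpow z) (natCast_orderOf_ne htF hT z) (mem_K.1 h2) w.1.2))
  have h1 : Nat.card T ∣ Nat.card {w : R (ρ z) // w ≠ 0} := by
    have e := MulAction.selfEquivOrbitsQuotientProd hfree
    rw [Nat.card_congr e, Nat.card_prod]
    exact dvd_mul_left _ _
  have h2 : Nat.card {w : R (ρ z) // w ≠ 0} = Nat.card F ^ 2 - 1 := by
    have h3 : Nat.card (R (ρ z)) = Nat.card F ^ 2 := by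
      rw [Module.natCard_eq_pow_finrank (K := F), hR2 z hz1]
    have h4 := Nat.card_congr (Equiv.sumCompl (fun w : R (ρ z) => w = 0))
    rw [Nat.card_sum, Nat.card_unique, h3] at h4
    have h5 : Nat.card {w : R (ρ z) // ¬ w = 0} = Nat.card {w : R (ρ z) // w ≠ 0} := rfl
    omega
  rwa [h2] at h1

/-! ### conjugation to a power -/

section conj

variable [Finite V] [Nontrivial V] {g : Module.End F V}

end conj

/-! ### `p`-groups normalised by `y`, `dim K y = 3` -/

theorem zero_of_dim_le_one [Finite V] (hB : NS B) (hV : finrank F V ≤ 1) {w : V} (hw : B w w = 0) : w = 0 := by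
  have hfd : FiniteDimensional F V := inferInstance
  by_contra hw0
  apply hw0
  apply hB.nd
  intro u
  have hnt : Nontrivial V := ⟨⟨w, 0, hw0⟩⟩
  have h1 : finrank F V = 1 := by
    have := Module.finrank_pos (R := F) (M := V)
    omega
  obtain ⟨c, rfl⟩ := (finrank_eq_one_iff_of_nonzero' w hw0).1 h1 u
  rw [map_smul, LinearMap.smul_apply, hw, smul_zero]

theorem zero_of_three [Finite V] (hB : NS B) (hV : finrank F V ≤ 3) {u v : V} (huu : B u u = 0) (huv : B u v = 1)
    (hvv : B v v = 0) {w : V} (hw : w ∈ W2 B u v) (hww : B w w = 0) : w = 0 := by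
  have hfd : FiniteDimensional F V := inferInstance
  have h6 := finrank_W2 hB huu huv hvv
  exact congrArg Subtype.val (zero_of_dim_le_one (nsW2 hB huu huv hvv) (by omega) (w := ⟨w, hw⟩) hww)

/-- invariant totally isotropic subspaces lie in `K y` -/
theorem ti_le_K [Finite V] (hB : NS B) {y : Module.End F V} (hy : Isom B y) {l : ℕ} (hlF : (l : F) ≠ 0)
    (hyl : y ^ l = 1) (hirr : Irr y (R y)) {U : Submodule F V} (hU : ∀ u ∈ U, y u ∈ U)
    (hti : ∀ u ∈ U, ∀ v ∈ U, B u v = 0) : U ≤ K y := by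
  have hfd : FiniteDimensional F V := inferInstance
  intro v hv
  obtain ⟨k, hk, r, hr, rfl⟩ := decomp_mem hyl hlF hU hv
  have hr0 : r = 0 := by
    rcases hirr (R y ⊓ U) inf_le_left (fun u hu => ⟨R_inv rfl hu.1, hU u hu.2⟩) with h | h
    · rw [h] at hr
      exact hr
    · apply nondeg_R hy hB.nd hyl hlF hr.1
      intro u hu
      rw [← h] at hu
      exact hti u hu.2 r hr.2
  rw [hr0, add_zero]
  exact hk.1

theorem card_eq_one_of_triv {P : Type*} [Group P] [Finite P] (ρ : P →* Module.End F V) (hρ : Function.Injective ρ)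
    (h : ∀ g v, ρ g v = v) : Nat.card P = 1 := by
  rw [Nat.card_eq_one_iff_unique]
  refine ⟨⟨fun a b => hρ (LinearMap.ext fun v => by rw [h, h])⟩, ⟨1⟩⟩

/-- **`p`-groups normalised by `y`**, `y` irreducible on `R y` and `dim K y ≤ 3`. -/
theorem card_le_norm [Finite V] [Finite F] (hB : NS B) (h2 : (2 : F) ≠ 0) {p : ℕ} [hp : Fact p.Prime]
    (hpF : (p : F) = 0) {P : Type*} [Group P] [Finite P] (hP : IsPGroup p P) (ρ : P →* Module.End F V)
    (hρ : Function.Injective ρ) (hiso : ∀ g, Isom B (ρ g)) {y y' : Module.End F V} (hy : Isom B y) {l : ℕ}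
    (hlF : (l : F) ≠ 0) (hyl : y ^ l = 1) (hirr : Irr y (R y)) (hyy : ∀ v, y (y' v) = v) (hyy' : ∀ v, y' (y v) = v)
    (hn : ∀ g, ∃ g', ∀ v, ρ g (y v) = y (ρ g' v)) (hn' : ∀ g, ∃ g', ∀ v, ρ g (y' v) = y' (ρ g' v))
    (hK : finrank F (K y) ≤ 3) : Nat.card P ≤ Nat.card F ^ (finrank F V - 2) := by
  have hfd : FiniteDimensional F V := inferInstance
  by_cases hu : ∃ u ∈ K y, u ≠ 0 ∧ B u u = 0 ∧ ∀ g, ρ g u = u
  · obtain ⟨u, huK, hu0, huu, hfix⟩ := hu
    have hnsK := ns_K hB hy hlF hyl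
    obtain ⟨⟨v, hvK⟩, huv, hvv⟩ := hnsK.partner h2 (u := ⟨u, huK⟩) (fun h => hu0 (congrArg Subtype.val h)) huu
    change B u v = 1 at huv
    change B v v = 0 at hvv
    have hyu : y u = u := mem_K.1 huK
    have hyv : y v = v := mem_K.1 hvK
    have hyu' : y' u = u := by
      conv_lhs => rw [← hyu]
      exact hyy' u
    have hyv' : y' v = v := by
      conv_lhs => rw [← hyv]
      exact hyy' v
    have hy' : Isom B y' := fun a b => by
      rw [← hy (y' a) (y' b), hyy, hyy]
    have hW : ∀ w ∈ W2 B u v, y w ∈ W2 B u v := fun w hw => by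
      rw [mem_W2] at hw ⊢
      have h3 := hy u w
      have h4 := hy v w
      rw [hyu] at h3
      rw [hyv] at h4
      rw [h3, h4]
      exact hw
    have hW' : ∀ w ∈ W2 B u v, y' w ∈ W2 B u v := fun w hw => by
      rw [mem_W2] at hw ⊢
      have h3 := hy' u w
      have h4 := hy' v w
      rw [hyu'] at h3
      rw [hyv'] at h4
      rw [h3, h4]
      exact hw
    have hBv : ∀ z, B v (y z) = B v z := fun z => by
      have h4 := hy v z
      rwa [hyv] at h4
    have hBv' : ∀ z, B v (y' z) = B v z := fun z => by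
      have h4 := hy' v z
      rwa [hyv'] at h4
    have htriv := triv_of_noTI (B := B.restrict (W2 B u v)) (nsW2 hB huu huv hvv) hP (tr2 hB huu huv ρ hiso hfix) hpF
      (iso_tr2 hB huu huv ρ hiso hfix) (y := y.restrict hW) (y' := y'.restrict hW') (fun a b => hy a b)
      (fun w => Subtype.ext (hyy w)) (fun g => by
        obtain ⟨g', hg'⟩ := hn g
        refine ⟨g', fun w => Subtype.ext ?_⟩
        change ρ g (y w) - B v (ρ g (y w)) • u = y (ρ g' w - B v (ρ g' w) • u)
        rw [hg', hBv, map_sub, map_smul, hyu]) (fun g => by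
        obtain ⟨g', hg'⟩ := hn' g
        refine ⟨g', fun w => Subtype.ext ?_⟩
        change ρ g (y' w) - B v (ρ g (y' w)) • u = y' (ρ g' w - B v (ρ g' w) • u)
        rw [hg', hBv', map_sub, map_smul, hyu']) (fun U hU hti _ => by
        have h3 : U.map (W2 B u v).subtype ≤ K y := by
          apply ti_le_K hB hy hlF hyl hirr
          · rintro _ ⟨w, hw, rfl⟩
            exact ⟨_, hU w hw, rfl⟩
          · rintro _ ⟨w, hw, rfl⟩ _ ⟨z, hz, rfl⟩
            exact hti w hw z hz
        rw [eq_bot_iff]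
        intro w hw
        have h4 : (w : V) ∈ K y := h3 ⟨w, hw, rfl⟩
        have h5 : (⟨w, h4⟩ : K y) ∈ W2 (B.restrict (K y)) ⟨u, huK⟩ ⟨v, hvK⟩ := mem_W2.2 (mem_W2.1 w.2)
        have h7 := zero_of_three hnsK hK huu huv hvv h5 (hti w hw w hw)
        rw [Submodule.mem_bot]
        have h8 : (w : V) = 0 := congrArg Subtype.val h7
        exact Subtype.ext h8)
    have hker : (tr2 hB huu huv ρ hiso hfix).ker = ⊤ := by
      rw [eq_top_iff]
      intro g _
      rw [MonoidHom.mem_ker]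
      exact LinearMap.ext fun w => htriv g w
    have h3 := card_ker_tr2 h2 hB huu huv hvv ρ hρ hiso hfix
    rw [hker, Subgroup.card_top, Module.natCard_eq_pow_finrank (K := F) (V := W2 B u v)] at h3
    have h4 := finrank_W2 hB huu huv hvv
    rwa [show finrank F V - 2 = finrank F (W2 B u v) by omega]
  · push Not at hu
    have htriv := triv_of_noTI hB hP ρ hpF hiso hy hyy hn hn' (fun U hU hti hfix => by
      have h3 := ti_le_K hB hy hlF hyl hirr hU hti
      rw [eq_bot_iff]
      intro w hw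
      by_contra hw0
      obtain ⟨g, hg⟩ := hu w (h3 hw) hw0 (hti w hw w hw)
      exact hg (hfix g w hw))
    rw [card_eq_one_of_triv ρ hρ htriv]
    exact Nat.one_le_pow _ _ Nat.card_pos

end Cfsg.Agent.H898.PDLin
end
end

section
prune_inst 0x10000000000002

-- part: H898/PDOddC
section
set_option linter.all false
open scoped Cfsg.Agent.FastGrp

-- part: H898/PDOddA
section
/-!
# S4246, row `POmega_{2n+1}(q)`: arithmetic (helper898)
-/

set_option autoImplicit false

namespace Cfsg.Agent.H898.PDOdd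

open Cfsg.Agent.H311.PD

/-- the product without its first factor -/
theorem prod_split {q n : ℕ} (hn : 3 ≤ n) : ∏ i ∈ Finset.range (n - 2), (q ^ (2 * (i + 1)) - 1) =
    (∏ i ∈ Finset.range (n - 3), (q ^ (2 * (i + 2)) - 1)) * (q ^ 2 - 1) := by
  have h : n - 2 = (n - 3) + 1 := by omega
  rw [h, Finset.prod_range_succ']

/-- **The other primes.** -/
theorem num_odd {t p f n : ℕ} (ht : t.Prime) (ht2 : t ≠ 2) (hp : p.Prime) (htp : t ≠ p) (hf : 1 ≤ f) (hn : 3 ≤ n)
    (hd : t ∣ ∏ i ∈ Finset.range n, ((p ^ f) ^ (2 * (i + 1)) - 1)) :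
    ((∀ m, t ∣ (p ^ f) ^ m - 1 → 2 * n ∣ m) ∧ t ∣ (p ^ f) ^ n + 1) ∨
    ((∀ m, t ∣ (p ^ f) ^ m - 1 → 2 * (n - 1) ∣ m) ∧ t ∣ (p ^ f) ^ (n - 1) + 1) ∨
    ((p ^ f) ^ 2 - 1).factorization t + f.factorization t <
      ((p ^ f) ^ n - 1).factorization t + ((p ^ f) ^ (n - 1) - 1).factorization t +
        (∏ i ∈ Finset.range (n - 2), ((p ^ f) ^ (2 * (i + 1)) - 1)).factorization t := by
  have hq2 : 2 ≤ p ^ f := by
    calc 2 ≤ p := hp.two_le
      _ = p ^ 1 := (pow_one p).symm
      _ ≤ p ^ f := Nat.pow_le_pow_right hp.pos hf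
  have htq : ¬ t ∣ p ^ f := fun h => htp ((Nat.prime_dvd_prime_iff_eq ht hp).1 (ht.dvd_of_dvd_pow h))
  obtain ⟨e, he1, he⟩ := exists_ord ht htq (by omega)
  have hpos : ∀ m, 1 ≤ m → 1 < (p ^ f) ^ m := fun m hm => Nat.one_lt_pow (by omega) (by omega)
  have hsq : ∀ m, 1 ≤ m → (p ^ f) ^ (2 * m) - 1 = ((p ^ f) ^ m + 1) * ((p ^ f) ^ m - 1) := by
    intro m _
    rw [mul_comm 2 m, pow_mul]
    exact Nat.sq_sub_sq ((p ^ f) ^ m) 1
  have hne : ∏ i ∈ Finset.range (n - 3), ((p ^ f) ^ (2 * (i + 2)) - 1) ≠ 0 := by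
    rw [Finset.prod_ne_zero_iff]
    intro i _
    have := hpos (2 * (i + 2)) (by omega)
    omega
  have hne2 : (p ^ f) ^ 2 - 1 ≠ 0 := by have := hpos 2 (by omega); omega
  have hsplit : (∏ i ∈ Finset.range (n - 2), ((p ^ f) ^ (2 * (i + 1)) - 1)).factorization t =
      (∏ i ∈ Finset.range (n - 3), ((p ^ f) ^ (2 * (i + 2)) - 1)).factorization t +
        ((p ^ f) ^ 2 - 1).factorization t := by
    rw [prod_split hn, Nat.factorization_mul hne hne2, Finsupp.add_apply]
  set A := ((p ^ f) ^ 2 - 1).factorization t + f.factorization t <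
      ((p ^ f) ^ n - 1).factorization t + ((p ^ f) ^ (n - 1) - 1).factorization t +
        (∏ i ∈ Finset.range (n - 2), ((p ^ f) ^ (2 * (i + 1)) - 1)).factorization t with hA
  have direct : ∀ j, 2 ≤ j → j ≤ n - 2 → e ∣ 2 * j → A := by
    intro j hj hjn hdj
    have h1 := lte ht hf hp.one_le ((he _).2 hdj) (hpos _ (by omega))
    have h2 : ((p ^ f) ^ (2 * j) - 1).factorization t ≤
        (∏ i ∈ Finset.range (n - 3), ((p ^ f) ^ (2 * (i + 2)) - 1)).factorization t := by
      apply fac_mono (t := t) hne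
      have h3 := Finset.dvd_prod_of_mem (fun i => (p ^ f) ^ (2 * (i + 2)) - 1)
        (Finset.mem_range.2 (show j - 2 < n - 3 by omega))
      rwa [show j - 2 + 2 = j by omega] at h3
    rw [hA, hsplit]
    omega
  have dn : e ∣ n → A := by
    intro h
    have h1 := lte ht hf hp.one_le ((he _).2 h) (hpos _ (by omega))
    rw [hA, hsplit]
    omega
  have dn1 : e ∣ n - 1 → A := by
    intro h
    have h1 := lte ht hf hp.one_le ((he _).2 h) (hpos _ (by omega))
    rw [hA, hsplit]
    omega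
  have two_case : e ∣ 2 → A := by
    intro h
    rcases Nat.even_or_odd' n with ⟨k, hk | hk⟩
    · exact dn (h.trans ⟨k, hk⟩)
    · exact dn1 (h.trans ⟨k, by omega⟩)
  have small : e ≤ n - 2 ∨ e ≤ 2 → A := by
    intro h
    by_cases h2 : e ≤ 2
    · apply two_case
      interval_cases e
      · exact one_dvd _
      · exact dvd_rfl
    · exact direct e (by omega) (by omega) (dvd_mul_left _ _)
  have hpr := Nat.prime_iff.1 ht
  rw [hpr.dvd_finsetProd_iff] at hd
  obtain ⟨i, hi, hti⟩ := hd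
  rw [Finset.mem_range] at hi
  have hei := (he _).1 hti
  obtain ⟨j, hj⟩ : ∃ j, j = i + 1 := ⟨_, rfl⟩
  rw [← hj] at hti hei
  by_cases hjn : j ≤ n - 2
  · right; right
    by_cases hj2 : 2 ≤ j
    · exact direct j hj2 hjn hei
    · have hj1 : j = 1 := by omega
      rw [hj1] at hei
      exact two_case hei
  · obtain ⟨k, hk⟩ := hei
    have hk0 : k ≠ 0 := by rintro rfl; omega
    by_cases hjj : j = n
    · subst hjj
      by_cases hk1 : k = 1
      · left
        refine ⟨fun m hm => ?_, ?_⟩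
        · rw [hk, hk1, mul_one]
          exact (he m).1 hm
        · rw [hsq j (by omega)] at hti
          rcases ht.dvd_mul.1 hti with h2 | h2
          · exact h2
          · exfalso
            have h3 := Nat.le_of_dvd (by omega) ((he _).1 h2)
            rw [hk1] at hk
            omega
      · right; right
        by_cases hk2 : k = 2
        · exact dn (by rw [hk2] at hk; rw [show j = e by omega])
        · apply small
          have h4 : e * 3 ≤ e * k := Nat.mul_le_mul_left _ (by (clear * - hk0 hk1 hk2; omega))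
          (clear * - hk h4; omega)
    · have hj' : j = n - 1 := by omega
      subst hj'
      by_cases hk1 : k = 1
      · right; left
        refine ⟨fun m hm => ?_, ?_⟩
        · rw [hk, hk1, mul_one]
          exact (he m).1 hm
        · rw [hsq (n - 1) (by omega)] at hti
          rcases ht.dvd_mul.1 hti with h2 | h2
          · exact h2
          · exfalso
            have h3 := Nat.le_of_dvd (by omega) ((he _).1 h2)
            rw [hk1] at hk
            omega
      · right; right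
        by_cases hk2 : k = 2
        · exact dn1 (by rw [hk2] at hk; rw [show n - 1 = e by omega])
        · apply small
          have h4 : e * 3 ≤ e * k := Nat.mul_le_mul_left _ (by omega)
          (clear * - hk h4; omega)

section order

variable {p f n N : ℕ}

theorem fac2 {g N A D : ℕ} (hg : g ≠ 0) (hN : N ≠ 0) (hA : A ≠ 0) (hD : D ≠ 0) (h : g * N = A * D)
    (t : ℕ) : g.factorization t + N.factorization t = A.factorization t + D.factorization t := by
  have h1 : (g * N).factorization t = (A * D).factorization t := by rw [h]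
  rwa [Nat.factorization_mul hg hN, Nat.factorization_mul hA hD, Finsupp.add_apply, Finsupp.add_apply] at h1

theorem fac_odd_char (hp : p.Prime) (hp2 : p ≠ 2) (hf : 1 ≤ f) (hN : N ≠ 0)
    (h : 2 * N = (p ^ f) ^ (n ^ 2) * ∏ i ∈ Finset.range n, ((p ^ f) ^ (2 * (i + 1)) - 1)) :
    N.factorization p = f * n ^ 2 := by
  have hq2 : 2 ≤ p ^ f := by
    calc 2 ≤ p := hp.two_le
      _ = p ^ 1 := (pow_one p).symm
      _ ≤ p ^ f := Nat.pow_le_pow_right hp.pos hf
  have h2 : ¬ p ∣ 2 := fun h0 => hp2 ((Nat.prime_dvd_prime_iff_eq hp Nat.prime_two).1 h0)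
  have h3 : ¬ p ∣ ∏ i ∈ Finset.range n, ((p ^ f) ^ (2 * (i + 1)) - 1) := by
    intro h0
    rw [(Nat.prime_iff.1 hp).dvd_finsetProd_iff] at h0
    obtain ⟨i, -, hi⟩ := h0
    exact not_dvd_pow_sub_one hp hf (by omega) hi
  have h5 := fac2 two_ne_zero hN (pow_ne_zero (n ^ 2) (show p ^ f ≠ 0 by omega)) (prod_ne_zero hq2) h p
  rw [Nat.factorization_eq_zero_of_not_dvd h2, Nat.factorization_eq_zero_of_not_dvd h3, ← pow_mul,
    hp.factorization_pow, Finsupp.single_eq_same] at h5
  omega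

theorem fac_odd_odd {t : ℕ} (ht : t.Prime) (ht2 : t ≠ 2) (hp : p.Prime) (htp : t ≠ p) (hf : 1 ≤ f) (hn : 3 ≤ n)
    (hN : N ≠ 0) (h : 2 * N = (p ^ f) ^ (n ^ 2) * ∏ i ∈ Finset.range n, ((p ^ f) ^ (2 * (i + 1)) - 1)) :
    N.factorization t = ((p ^ f) ^ n + 1).factorization t + ((p ^ f) ^ (n - 1) + 1).factorization t +
      (((p ^ f) ^ n - 1).factorization t + ((p ^ f) ^ (n - 1) - 1).factorization t +
        (∏ i ∈ Finset.range (n - 2), ((p ^ f) ^ (2 * (i + 1)) - 1)).factorization t) := by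
  have hq2 : 2 ≤ p ^ f := by
    calc 2 ≤ p := hp.two_le
      _ = p ^ 1 := (pow_one p).symm
      _ ≤ p ^ f := Nat.pow_le_pow_right hp.pos hf
  have hpos : ∀ m, 1 ≤ m → 1 < (p ^ f) ^ m := fun m hm => Nat.one_lt_pow (by omega) (by omega)
  have h2 : ¬ t ∣ 2 := fun h0 => ht2 ((Nat.prime_dvd_prime_iff_eq ht Nat.prime_two).1 h0)
  have h1 : ¬ t ∣ (p ^ f) ^ (n ^ 2) := fun h0 =>
    htp ((Nat.prime_dvd_prime_iff_eq ht hp).1 (ht.dvd_of_dvd_pow (ht.dvd_of_dvd_pow h0)))
  have h6 : ∏ i ∈ Finset.range n, ((p ^ f) ^ (2 * (i + 1)) - 1) =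
      (∏ i ∈ Finset.range (n - 2), ((p ^ f) ^ (2 * (i + 1)) - 1)) *
        (((p ^ f) ^ (n - 1) + 1) * ((p ^ f) ^ (n - 1) - 1)) * (((p ^ f) ^ n + 1) * ((p ^ f) ^ n - 1)) := by
    obtain ⟨m, rfl⟩ := Nat.exists_eq_add_of_le' hn
    have e1 : m + 3 - 2 = m + 1 := by omega
    have e2 : m + 3 - 1 = m + 2 := by omega
    rw [e1, e2, show m + 3 = m + 1 + 1 + 1 from rfl, Finset.prod_range_succ, Finset.prod_range_succ]
    congr 1
    · congr 1
      rw [mul_comm 2 (m + 1 + 1), pow_mul]
      exact Nat.sq_sub_sq ((p ^ f) ^ (m + 2)) 1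
    · rw [mul_comm 2 (m + 1 + 1 + 1), pow_mul]
      exact Nat.sq_sub_sq ((p ^ f) ^ (m + 3)) 1
  have h8 : (p ^ f) ^ (n - 1) - 1 ≠ 0 := by have := hpos (n - 1) (by omega); omega
  have h9 : (p ^ f) ^ n - 1 ≠ 0 := by have := hpos n (by omega); omega
  have h5 := fac2 two_ne_zero hN (pow_ne_zero (n ^ 2) (show p ^ f ≠ 0 by omega)) (prod_ne_zero hq2) h t
  have s1 : (p ^ f) ^ (n - 1) + 1 ≠ 0 := Nat.succ_ne_zero _
  have s2 : (p ^ f) ^ n + 1 ≠ 0 := Nat.succ_ne_zero _
  rw [Nat.factorization_eq_zero_of_not_dvd h2, Nat.factorization_eq_zero_of_not_dvd h1, h6,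
    Nat.factorization_mul (mul_ne_zero (prod_ne_zero hq2) (mul_ne_zero s1 h8)) (mul_ne_zero s2 h9),
    Nat.factorization_mul (prod_ne_zero hq2) (mul_ne_zero s1 h8),
    Nat.factorization_mul s1 h8, Nat.factorization_mul s2 h9, Finsupp.add_apply, Finsupp.add_apply, Finsupp.add_apply,
    Finsupp.add_apply] at h5
  omega

end order

end Cfsg.Agent.H898.PDOdd
end

-- part: H898/PDOddB
section
/-!
# S4246, row `POmega_{2n+1}(q)`: centralisers, normalisers, subgroups of odd order (helper898)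
-/

set_option autoImplicit false
set_option linter.unusedSectionVars false

namespace Cfsg.Agent.H898.PDOdd

open QuadraticMap Module Subgroup Cfsg.Agent.LieClassical.OrthCore Cfsg.Agent.LieClassical.OrthTrans
open Cfsg.Agent.ClassicalGeometry.OrthSemi Cfsg.Agent.ClassicalGeometry.OrthAut1
open Cfsg.Agent.H200.LinFix Cfsg.Agent.H200.RowOrth Cfsg.Agent.H311.PD Cfsg.Agent.H898.PDLin
open Cfsg.Agent.H160.PD (v v_mono v_eq_zero v_pos Fx mem_Fx out Good Two NoOdd Inc noOdd_of_uniq odd_bound_of_uniq)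

variable {F V : Type*} [Field F] [AddCommGroup V] [Module F V] {Q : QuadraticForm F V} [Finite V]

/-- all the data -/
structure DatO (Q : QuadraticForm F V) (p f n : ℕ) : Prop where
  good : LieClassical.OrthTrans.Good Q
  p2 : p ≠ 2
  hf : 1 ≤ f
  card : Nat.card F = p ^ f
  hn : 3 ≤ n
  dim : finrank F V = 2 * n + 1
  char : (p : F) = 0
  ord : 2 * Nat.card (P Q) = (p ^ f) ^ (n ^ 2) * ∏ i ∈ Finset.range n, ((p ^ f) ^ (2 * (i + 1)) - 1)
  out : out (P Q) = 2 * f
  aut : ∀ a : MulAut (P Q), ∃ M : Gam Q, a = Psi Q M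
  simple : IsSimpleGroup (P Q)
  na : ¬ IsMulCommutative (P Q)

/-- the representation of a subgroup of `E Q` -/
noncomputable def rp (X : Subgroup ↥(E Q)) : ↥X →* Module.End F V := (en Q).comp X.subtype

theorem rp_apply {X : Subgroup ↥(E Q)} (g : ↥X) (v : V) : rp X g v = en Q g v := rfl

theorem rp_inj (X : Subgroup ↥(E Q)) : Function.Injective (rp X) := en_injective.comp Subtype.val_injective

theorem rp_iso (X : Subgroup ↥(E Q)) (g : ↥X) : Isom (polarBilin Q) (rp X g) := isom_en _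

theorem rp_comm {X : Subgroup ↥(E Q)} {y : ↥(E Q)} (h : X ≤ centralizer ({y} : Set ↥(E Q))) (g : ↥X) :
    rp X g * en Q y = en Q y * rp X g := by
  have h1 : (g : ↥(E Q)) * y = y * g := mem_centralizer_singleton_iff.1 (h g.2)
  change en Q g * en Q y = en Q y * en Q g
  rw [← map_mul, h1, map_mul]

section p

variable {p f n : ℕ} [hp : Fact p.Prime]

theorem v_le_of_card {X : Type*} [Group X] [Finite X] {e : ℕ} (hX : IsPGroup p X) (h : Nat.card X ≤ (p ^ f) ^ e) :
    v p X ≤ f * e := by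
  obtain ⟨k, hk⟩ := IsPGroup.iff_card.1 hX
  rw [v, hk, hp.out.factorization_pow, Finsupp.single_eq_same]
  rw [hk, ← pow_mul] at h
  exact (Nat.pow_le_pow_iff_right hp.out.one_lt).1 h

theorem v_of_psub {H : Subgroup ↥(E Q)} {e : ℕ}
    (h : ∀ X : Subgroup ↥(E Q), X ≤ H → IsPGroup p X → Nat.card X ≤ (p ^ f) ^ e) : v p H ≤ f * e := by
  have hfinE : Finite ↥(E Q) := finite_E
  obtain ⟨X, hX, hXp, hXv⟩ := exists_psub (p := p) H
  rw [← hXv]
  exact v_le_of_card hXp (h X hX hXp)

variable (D : DatO Q p f n)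
include D

theorem DatO.h2F : (2 : F) ≠ 0 := by
  intro h
  have hc : CharP F p := (CharP.charP_iff_prime_eq_zero hp.out).2 D.char
  have h1 : ((2 : ℕ) : F) = 0 := by exact_mod_cast h
  rw [CharP.cast_eq_zero_iff F p] at h1
  exact D.p2 ((Nat.prime_dvd_prime_iff_eq hp.out Nat.prime_two).1 h1)

omit hp in
theorem DatO.ns : NS (polarBilin Q) :=
  ⟨fun u v => by rw [polarBilin_apply_apply, polarBilin_apply_apply, polar_comm], polar_nondeg D.good⟩

theorem DatO.cast {t : ℕ} (ht : t.Prime) (htp : t ≠ p) : (t : F) ≠ 0 := by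
  have := Fact.mk ht
  have hc : CharP F p := (CharP.charP_iff_prime_eq_zero hp.out).2 D.char
  exact natCast_ne_of_not_dvd hp.out fun h => htp ((Nat.prime_dvd_prime_iff_eq ht hp.out).1 h)

/-- **The `p`-part of the centraliser.** -/
theorem DatO.cent_p {l : ℕ} [hl : Fact l.Prime] (hlF : (l : F) ≠ 0) {e : ℕ} (hd : Ordd l (Nat.card F) e)
    (he : 2 * n + 1 < 2 * e) {y : ↥(E Q)} (hy : y ^ l = 1) (hy1 : y ≠ 1) :
    v p (centralizer ({y} : Set ↥(E Q))) ≤ f * ((2 * n + 1 - e - 1) ^ 2 / 4) := by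
  have hfinE : Finite ↥(E Q) := finite_E
  have hfinF : Finite F := finite_F D.good
  have hfd : FiniteDimensional F V := inferInstance
  have hV := D.dim
  have hVe : finrank F V < 2 * e := by omega
  have hy' : en Q y ^ l = 1 := by rw [← map_pow, hy, map_one]
  have h1 := finrank_add (en Q y)
  rw [finrank_R_eq hd hlF hVe hy hy1, hV] at h1
  refine v_of_psub fun X hX hXp => ?_
  rw [← D.card]
  exact card_le_irr D.ns D.h2F D.char hXp (rp X) (rp_inj X) (rp_iso X) (isom_en y) hlF hy'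
    (irr_R hd hlF hVe hy) (rp_comm hX) (by omega)

/-- **The `t`-part of the centraliser.** -/
theorem DatO.cent_t {l : ℕ} [hl : Fact l.Prime] (hl2 : l ≠ 2) (hlF : (l : F) ≠ 0) {m : ℕ}
    (hd : Ordd l (Nat.card F) (2 * m)) (he : 2 * n + 1 < 2 * (2 * m)) {y : ↥(E Q)} (hy : y ^ l = 1) (hy1 : y ≠ 1)
    {t : ℕ} [ht : Fact t.Prime] {c : ℕ} (hc0 : c ≠ 0)
    (hc : ∀ X : Subgroup ↥(E Q), IsPGroup t X → X ≤ centralizer ({y} : Set ↥(E Q)) →
      (∀ g ∈ X, ∀ w ∈ R (en Q y), en Q g w = w) → Nat.card X ∣ c) :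
    v t (centralizer ({y} : Set ↥(E Q))) ≤ ((p ^ f) ^ m + 1).factorization t + c.factorization t := by
  have hfinE : Finite ↥(E Q) := finite_E
  have hfinF : Finite F := finite_F D.good
  have hfd : FiniteDimensional F V := inferInstance
  have hV := D.dim
  have hVe : finrank F V < 2 * (2 * m) := by omega
  have hy' : en Q y ^ l = 1 := by rw [← map_pow, hy, map_one]
  have hy1' : en Q y ≠ 1 := fun h => hy1 (en_injective (h.trans (map_one _).symm))
  obtain ⟨X, hX, hXt, hXv⟩ := exists_psub (p := t) (centralizer ({y} : Set ↥(E Q)))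
  rw [← hXv]
  obtain ⟨m', hm', hdvd⟩ := card_dvd_R D.ns hl2 hlF hy' hy1' (isom_en y) (irr_R hd hlF hVe hy) (rp X) (rp_comm hX)
    (rp_iso X)
  rw [finrank_R_eq hd hlF hVe hy hy1] at hm'
  have hmm : m' = m := by omega
  subst hmm
  rw [D.card] at hdvd
  set τ := res (rp X) (R (en Q y)) fun g _ hw => R_inv (rp_comm hX g) hw with hτ
  have h1 : Nat.card τ.ker ∣ c := by
    have h2 := hc (τ.ker.map X.subtype) ((hXt.to_subgroup τ.ker).map _) ((map_subtype_le _).trans hX) (by
      rintro _ ⟨g, hg, rfl⟩ w hw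
      exact mem_ker_res.1 hg w hw)
    rwa [(Nat.card_congr (τ.ker.equivMapOfInjective _ X.subtype_injective).toEquiv).symm] at h2
  have h2 : Nat.card X ∣ ((p ^ f) ^ m' + 1) * c := by
    rw [Subgroup.card_eq_card_quotient_mul_card_subgroup τ.ker]
    exact Nat.mul_dvd_mul hdvd h1
  have h3 := fac_mono (t := t) (mul_ne_zero (Nat.succ_ne_zero _) hc0) h2
  rwa [Nat.factorization_mul (Nat.succ_ne_zero _) hc0, Finsupp.add_apply] at h3

/-- a subgroup acting trivially on `R y` and on `K y` -/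
theorem DatO.eq_one_of_RK {l : ℕ} (hlF : (l : F) ≠ 0) {y : ↥(E Q)} (hy : y ^ l = 1) {g : ↥(E Q)}
    (h1 : ∀ w ∈ R (en Q y), en Q g w = w) (h2 : ∀ w ∈ K (en Q y), en Q g w = w) : g = 1 := by
  have hfd : FiniteDimensional F V := inferInstance
  have hy' : en Q y ^ l = 1 := by rw [← map_pow, hy, map_one]
  apply en_injective
  rw [map_one]
  refine LinearMap.ext fun x => ?_
  obtain ⟨a, ha, b, hb, rfl⟩ := decomp hy' hlF x
  rw [map_add, h2 a ha, h1 b hb]
  rfl

/-- elements of type `2n` -/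
theorem DatO.cent_t_first {l : ℕ} [hl : Fact l.Prime] (hl2 : l ≠ 2) (hlF : (l : F) ≠ 0)
    (hd : Ordd l (Nat.card F) (2 * n)) {y : ↥(E Q)} (hy : y ^ l = 1) (hy1 : y ≠ 1)
    {t : ℕ} [ht : Fact t.Prime] (ht2 : t ≠ 2) (htp : t ≠ p) :
    v t (centralizer ({y} : Set ↥(E Q))) ≤ ((p ^ f) ^ n + 1).factorization t := by
  have hfinE : Finite ↥(E Q) := finite_E
  have hfinF : Finite F := finite_F D.good
  have hfd : FiniteDimensional F V := inferInstance
  have hV := D.dim
  have hn := D.hn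
  have hy' : en Q y ^ l = 1 := by rw [← map_pow, hy, map_one]
  have h1 := finrank_add (en Q y)
  rw [finrank_R_eq hd hlF (by omega) hy hy1, hV] at h1
  have h2 := D.cent_t hl2 hlF hd (by omega) hy hy1 one_ne_zero (fun X hXt hX hXR => by
    rw [Nat.dvd_one, Nat.card_eq_one_iff_unique]
    have key : ∀ g ∈ X, g = 1 := fun g hg => by
      refine D.eq_one_of_RK hlF hy (hXR g hg) fun w hw => ?_
      have h3 : res (rp X) (K (en Q y)) (fun g _ hw => K_inv (rp_comm hX g) hw) ⟨g, hg⟩ = 1 := by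
        refine triv_of_le_one (ns_K D.ns (isom_en y) hlF hy') (by omega) (iso_res (rp_iso X ⟨g, hg⟩))
          (m := orderOf (⟨g, hg⟩ : ↥X)) (odd_orderOf ht2 hXt _) (natCast_orderOf_ne (D.cast ht.out htp) hXt _) ?_
        rw [← map_pow, pow_orderOf_eq_one, map_one]
      exact congrArg Subtype.val (LinearMap.congr_fun h3 ⟨w, hw⟩)
    exact ⟨⟨fun a b => Subtype.ext ((key a a.2).trans (key b b.2).symm)⟩, ⟨1⟩⟩)
  rwa [Nat.factorization_one, Finsupp.zero_apply, add_zero] at h2

/-- elements of type `2n - 2` -/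
theorem DatO.cent_t_second {l : ℕ} [hl : Fact l.Prime] (hl2 : l ≠ 2) (hlF : (l : F) ≠ 0)
    (hd : Ordd l (Nat.card F) (2 * (n - 1))) {y : ↥(E Q)} (hy : y ^ l = 1) (hy1 : y ≠ 1)
    {t : ℕ} [ht : Fact t.Prime] (ht2 : t ≠ 2) (htp : t ≠ p) :
    v t (centralizer ({y} : Set ↥(E Q))) ≤
      ((p ^ f) ^ (n - 1) + 1).factorization t + ((p ^ f) ^ 2 - 1).factorization t := by
  have hfinE : Finite ↥(E Q) := finite_E
  have hfinF : Finite F := finite_F D.good
  have hfd : FiniteDimensional F V := inferInstance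
  have hV := D.dim
  have hn := D.hn
  have hy' : en Q y ^ l = 1 := by rw [← map_pow, hy, map_one]
  have h1 := finrank_add (en Q y)
  rw [finrank_R_eq hd hlF (by omega) hy hy1, hV] at h1
  have hq : 1 < p ^ f := by
    rw [← D.card]
    exact Finite.one_lt_card
  have hq2 : 1 < (p ^ f) ^ 2 := Nat.one_lt_pow (by norm_num) hq
  refine D.cent_t hl2 hlF hd (by omega) hy hy1 (show (p ^ f) ^ 2 - 1 ≠ 0 by omega) (fun X hXt hX hXR => ?_)
  rw [← D.card]
  refine card_dvd_three (ns_K D.ns (isom_en y) hlF hy') ht2 (D.cast ht.out htp) hXt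
    (res (rp X) (K (en Q y)) (fun g _ hw => K_inv (rp_comm hX g) hw)) ?_ (fun g => iso_res (rp_iso X g)) (by omega)
  rw [← MonoidHom.ker_eq_bot_iff, eq_bot_iff]
  intro g hg
  rw [Subgroup.mem_bot]
  exact Subtype.ext (D.eq_one_of_RK hlF hy (hXR g g.2) fun w hw => mem_ker_res.1 hg w hw)

theorem DatO.v_char : v p (P Q) = f * n ^ 2 := by
  have hfinE : Finite ↥(E Q) := finite_E
  have hfinP : Finite (P Q) := inferInstance
  exact fac_odd_char hp.out D.p2 D.hf Nat.card_pos.ne' D.ord

theorem DatO.v_odd {t : ℕ} (ht : t.Prime) (ht2 : t ≠ 2) (htp : t ≠ p) :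
    v t (P Q) = ((p ^ f) ^ n + 1).factorization t + ((p ^ f) ^ (n - 1) + 1).factorization t +
      (((p ^ f) ^ n - 1).factorization t + ((p ^ f) ^ (n - 1) - 1).factorization t +
        (∏ i ∈ Finset.range (n - 2), ((p ^ f) ^ (2 * (i + 1)) - 1)).factorization t) := by
  have hfinE : Finite ↥(E Q) := finite_E
  have hfinP : Finite (P Q) := inferInstance
  exact fac_odd_odd ht ht2 hp.out htp D.hf D.hn Nat.card_pos.ne' D.ord

omit hp in
theorem DatO.out_odd {t : ℕ} (ht : t.Prime) (ht2 : t ≠ 2) :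
    (H160.PD.out (P Q)).factorization t = f.factorization t := by
  have hf := D.hf
  rw [D.out, Nat.factorization_mul two_ne_zero (by omega), Finsupp.add_apply,
    Nat.factorization_eq_zero_of_not_dvd fun h => ht2 ((Nat.prime_dvd_prime_iff_eq ht Nat.prime_two).1 h), zero_add]

theorem DatO.good_first {t : ℕ} (ht : t.Prime) (ht2 : t ≠ 2) (htp : t ≠ p)
    (hd : t ∣ (p ^ f) ^ n + 1) : (H160.PD.out (P Q)).factorization t < v t (P Q) := by
  have hn := D.hn
  have h1 := fac_prim ht ht2 hp.out D.hf (show 1 ≤ n by omega) hd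
  rw [D.out_odd ht ht2, D.v_odd ht ht2 htp]
  omega

theorem DatO.good_second {t : ℕ} (ht : t.Prime) (ht2 : t ≠ 2) (htp : t ≠ p)
    (hd : t ∣ (p ^ f) ^ (n - 1) + 1) : (H160.PD.out (P Q)).factorization t < v t (P Q) := by
  have hn := D.hn
  have h1 := fac_prim ht ht2 hp.out D.hf (show 1 ≤ n - 1 by omega) hd
  rw [D.out_odd ht ht2, D.v_odd ht ht2 htp]
  omega

theorem DatO.dvd_first {l : ℕ} (h : Prm F p f (2 * n) l) : l ∣ (p ^ f) ^ n + 1 := by
  have := Fact.mk h.prime
  have hn := D.hn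
  exact dvd_add_one (by omega) (D.card ▸ h.ord) h.dvd

theorem DatO.dvd_second {l : ℕ} (h : Prm F p f (2 * (n - 1)) l) : l ∣ (p ^ f) ^ (n - 1) + 1 := by
  have := Fact.mk h.prime
  have hn := D.hn
  exact dvd_add_one (by omega) (D.card ▸ h.ord) h.dvd

theorem DatO.uniq {e l : ℕ} (h : Prm F p f e l) (hV : finrank F V < 2 * e) : H160.PD.Uniq (P Q) l := by
  have hfinE : Finite ↥(E Q) := finite_E
  have hfinF : Finite F := finite_F D.good
  have := Fact.mk h.prime
  obtain ⟨P', hP'⟩ := cyclic_sylow D.good h.two h.cast h.ord hV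
  exact uniq_of_sylow P' hP'

/-- the prime divisors of the normalisers -/
theorem DatO.norm {e l : ℕ} (h : Prm F p f e l) (hV : finrank F V < 2 * e) {x : P Q} (hx : orderOf x = l) :
    ∃ y : ↥(E Q), y ^ l = 1 ∧ y ≠ 1 ∧ (QuotientGroup.mk y : P Q) = x ∧
      Nat.card (normalizer ((zpowers x : Subgroup (P Q)) : Set (P Q))) ∣
        Nat.card (centralizer ({y} : Set ↥(E Q))) * e := by
  have hfinE : Finite ↥(E Q) := finite_E
  have hfinF : Finite F := finite_F D.good
  have := Fact.mk h.prime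
  obtain ⟨y, hy, hy1, rfl⟩ := exists_lift_ord D.good h.prime h.two hx
  refine ⟨y, hy, hy1, rfl, ?_⟩
  have h2 := card_normalizer D.good h.two h.cast hy hy1 (irr_R h.ord h.cast hV hy)
  rwa [finrank_R_eq h.ord h.cast hV hy hy1] at h2

/-- **`NoOdd`.** -/
theorem DatO.noOdd {r s : ℕ} (hr : Prm F p f (2 * n) r) (hs : Prm F p f (2 * (n - 1)) s) :
    NoOdd (P Q) r s := by
  have hfinE : Finite ↥(E Q) := finite_E
  have hfinF : Finite F := finite_F D.good
  have hn := D.hn
  have hf := D.hf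
  have hV := D.dim
  have hrF := Fact.mk hr.prime
  have hsF := Fact.mk hs.prime
  have h1 := D.dvd_first hr
  have h2 := D.dvd_second hs
  have hrp := hr.ne_char D.char
  have hsp := hs.ne_char D.char
  have hrl : 2 * n + 1 ≤ r := by
    have h3 := hr.le
    have h4 : 1 * (2 * n) ≤ f * (2 * n) := Nat.mul_le_mul_right _ hf
    omega
  have hsl : 2 * (n - 1) + 1 ≤ s := by
    have h3 := hs.le
    have h4 : 1 * (2 * (n - 1)) ≤ f * (2 * (n - 1)) := Nat.mul_le_mul_right _ hf
    omega
  have e1 : ¬ s ∣ (p ^ f) ^ n + 1 := fun h => arith_succ (p := s) hs.two (by omega) h h2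
  have e2 : ¬ r ∣ (p ^ f) ^ (n - 1) + 1 := fun h => arith_succ (p := r) hr.two (by omega) h1 h
  have e3 : ¬ r ∣ (p ^ f) ^ 2 - 1 := fun h => by
    have h7 := Nat.le_of_dvd (by norm_num) (hr.ord 2 (by rw [D.card]; exact h))
    omega
  refine noOdd_of_uniq hr.prime hs.prime (fun h => e1 (h ▸ h1)) (D.uniq hr (by omega)) (D.uniq hs (by omega))
    (fun x hx hd => ?_) (fun x hx hd => ?_)
  · obtain ⟨y, hy, hy1, -, h3⟩ := D.norm hr (by omega) hx
    rcases hs.prime.dvd_mul.1 (hd.trans h3) with h4 | h4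
    · have h5 := D.cent_t_first hr.two hr.cast hr.ord hy hy1 (t := s) hs.two hsp
      rw [Nat.factorization_eq_zero_of_not_dvd e1] at h5
      have h6 := (v_pos hs.prime).2 h4
      omega
    · rcases hs.prime.dvd_mul.1 h4 with h5 | h5
      · exact hs.two ((Nat.prime_dvd_prime_iff_eq hs.prime Nat.prime_two).1 h5)
      · have := Nat.le_of_dvd (by omega) h5
        omega
  · obtain ⟨y, hy, hy1, -, h3⟩ := D.norm hs (by omega) hx
    rcases hr.prime.dvd_mul.1 (hd.trans h3) with h4 | h4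
    · have h5 := D.cent_t_second hs.two hs.cast hs.ord hy hy1 (t := r) hr.two hrp
      rw [Nat.factorization_eq_zero_of_not_dvd e2, Nat.factorization_eq_zero_of_not_dvd e3] at h5
      have h6 := (v_pos hr.prime).2 h4
      omega
    · have := Nat.le_of_dvd (by omega) h4
      omega

/-- an element of order `p` does not commute with an element of type `2n` -/
theorem DatO.cent_p_first {l : ℕ} (h : Prm F p f (2 * n) l) {y : ↥(E Q)} (hy : y ^ l = 1) (hy1 : y ≠ 1) :
    v p (centralizer ({y} : Set ↥(E Q))) = 0 := by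
  have := Fact.mk h.prime
  have hn := D.hn
  have h1 := D.cent_p h.cast h.ord (by omega) hy hy1
  have h2 : 2 * n + 1 - 2 * n - 1 = 0 := by omega
  rw [h2] at h1
  omega

/-- **`Inc`.** -/
theorem DatO.inc {r s : ℕ} (hr : Prm F p f (2 * n) r) (hs : Prm F p f (2 * (n - 1)) s) :
    Inc (P Q) r s := by
  have hfinE : Finite ↥(E Q) := finite_E
  have hfinF : Finite F := finite_F D.good
  have hfd : FiniteDimensional F V := inferInstance
  have hn := D.hn
  have hV := D.dim
  have hrF := Fact.mk hr.prime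
  have hsF := Fact.mk hs.prime
  have := D.simple
  intro b hb hb2 x hx hbx x' hx' hbx'
  have hbF := Fact.mk hb
  obtain ⟨t, y, ht, ht1, hbt, hy, hy1, -, hty⟩ := lift_aut D.good D.na D.aut hb hb2 hr.two
    (fun y hy => hr.irrZ D.card (by omega) y hy) hx hbx
  obtain ⟨z, hz, hz1, hzx⟩ := exists_lift_ord D.good hs.prime hs.two hx'
  have htz : t * z = z * t := by
    rw [hbt, MulAut.conj_apply, mul_inv_eq_iff_eq_mul, ← hzx] at hbx'
    exact (comm_of_mk D.good (hs.prime.odd_of_ne_two hs.two) hz hbx'.symm).symm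
  by_cases hbp : orderOf b = p
  · rw [hbp] at ht
    have h1 := D.cent_p_first hr hy hy1
    have h2 : orderOf (⟨t, mem_centralizer_singleton_iff.2 hty⟩ : centralizer ({y} : Set ↥(E Q))) = p := by
      rw [Subgroup.orderOf_mk]
      exact orderOf_eq_prime ht ht1
    have h3 : p ∣ Nat.card (centralizer ({y} : Set ↥(E Q))) := by
      rw [← h2]
      exact _root_.orderOf_dvd_natCard _
    have h4 := (v_pos hp.out).2 h3
    omega
  · have hbF' : ((orderOf b : ℕ) : F) ≠ 0 := D.cast hb hbp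
    have hRy : finrank F (R (en Q y)) = 2 * n := finrank_R_eq hr.ord hr.cast (by omega) hy hy1
    have hRz : finrank F (R (en Q z)) = 2 * (n - 1) := finrank_R_eq hs.ord hs.cast (by omega) hz hz1
    have ht' : en Q t ≠ 1 := fun h => ht1 (en_injective (h.trans (map_one _).symm))
    obtain ⟨hpn, hRt⟩ : orderOf b ∣ Nat.card F ^ n + 1 ∧ 2 * n ≤ finrank F (R (en Q t)) := by
      rcases comm_elt D.good hr.two hr.cast hy (irr_R hr.ord hr.cast (by omega) hy) ht hty with h | ⟨h, m, hm, hpm⟩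
      · exfalso
        have h1 := Submodule.finrank_mono (R_le_K hr.cast hy hty h)
        have h2 := finrank_add (en Q y)
        rw [hRy, hV] at h2
        have h3 := finrank_R_ne_one D.good hb2 hbF' ht
        apply ht'
        rw [← R_eq_bot, ← Submodule.finrank_eq_zero (R := F)]
        omega
      · rw [hRy] at hm
        have hmn : m = n := by omega
        subst hmn
        refine ⟨hpm, ?_⟩
        rw [← hRy]
        exact Submodule.finrank_mono h
    rcases comm_elt D.good hs.two hs.cast hz (irr_R hs.ord hs.cast (by omega) hz) ht htz with h | ⟨h, m, hm, hpm⟩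
    · have h1 := Submodule.finrank_mono (R_le_K hs.cast hz htz h)
      have h2 := finrank_add (en Q z)
      rw [hRz] at h2
      omega
    · rw [hRz] at hm
      have hmn : m = n - 1 := by omega
      subst hmn
      exact arith_succ (p := orderOf b) hb2 (by omega) hpn hpm

/-- **`syl`.** -/
theorem DatO.syl {e r : ℕ} (hr : Prm F p f e r) (he : 2 * n + 1 < 2 * e) {b : MulAut (P Q)}
    (hb : (orderOf b).Prime) (hb2 : orderOf b ≠ 2) (hbp : orderOf b ≠ p) {x : P Q} (hx : orderOf x = r)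
    (hbx : b x = x) : v p (Fx b) ≤ f * (n * (n - 1)) := by
  have hfinE : Finite ↥(E Q) := finite_E
  have hfinF : Finite F := finite_F D.good
  have hn := D.hn
  have hV := D.dim
  have hrF := Fact.mk hr.prime
  have := D.simple
  have hbF := Fact.mk hb
  obtain ⟨t, y, ht, ht1, hbt, hy, hy1, -, hty⟩ := lift_aut D.good D.na D.aut hb hb2 hr.two
    (fun y hy => hr.irrZ D.card (by omega) y hy) hx hbx
  have h2 := v_centralizer_mk D.good (hb.odd_of_ne_two hb2) ht p
  have h3 : v p (Fx b) ≤ v p (centralizer ({(QuotientGroup.mk t : P Q)} : Set (P Q))) := by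
    rw [← Fx_conj, ← hbt]
  refine (h3.trans h2).trans (v_of_psub fun X hX hXp => ?_)
  rw [← D.card]
  exact card_le_comm D.ns D.h2F D.char hXp (rp X) (rp_inj X) (rp_iso X) hV (isom_en t) (hb.odd_of_ne_two hb2)
    (D.cast hb hbp) (by rw [← map_pow, ht, map_one]) (fun h => ht1 (en_injective (h.trans (map_one _).symm)))
    (rp_comm hX)

/-- **The subgroups of odd order, type `2n`.** -/
theorem DatO.odd_first {r : ℕ} (hr : Prm F p f (2 * n) r) (H : Subgroup (P Q))
    (hH : Odd (Nat.card H)) (hrH : r ∣ Nat.card H) : v p H ≤ (2 * n).factorization p := by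
  have hfinE : Finite ↥(E Q) := finite_E
  have hfinF : Finite F := finite_F D.good
  have hfd : FiniteDimensional F V := inferInstance
  have hn := D.hn
  have hV := D.dim
  have hrF := Fact.mk hr.prime
  have h0 := odd_bound_of_uniq (S := P Q) (a := 0) (b := (2 * n).factorization p) hp.out hr.prime
    (hr.ne_char D.char).symm (D.uniq hr (by omega)) (fun X hX x hx hxo => ?_) (fun x hx => ?_) H hH hrH
  · omega
  · obtain ⟨y, hy, hy1, rfl⟩ := exists_lift_ord D.good hr.prime hr.two hxo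
    have hy' : en Q y ^ r = 1 := by rw [← map_pow, hy, map_one]
    have h1 := finrank_add (en Q y)
    rw [finrank_R_eq hr.ord hr.cast (by omega) hy hy1, hV] at h1
    have h2 := noNorm_of_ti D.good D.p2 D.char (ti_of_irr D.good hr.cast hy
      (irr_R hr.ord hr.cast (by omega) hy) fun v hv hvv =>
        congrArg Subtype.val (zero_of_dim_le_one (ns_K D.ns (isom_en y) hr.cast hy') (by omega)
          (w := ⟨v, hv⟩) hvv)) X hX hx
    rw [h2, v, Subgroup.card_bot, Nat.factorization_one]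
    rfl
  · obtain ⟨y, hy, hy1, -, h3⟩ := D.norm hr (by omega) hx
    refine (fac_mono (mul_ne_zero Nat.card_pos.ne' (by omega)) h3).trans ?_
    rw [Nat.factorization_mul Nat.card_pos.ne' (by omega), Finsupp.add_apply]
    have h4 := D.cent_p_first hr hy hy1
    simp only [v] at h4
    rw [h4, zero_add]

/-- **The subgroups of odd order, type `2n - 2`.** -/
theorem DatO.odd_second {r : ℕ} (hr : Prm F p f (2 * (n - 1)) r)
    (H : Subgroup (P Q)) (hH : Odd (Nat.card H)) (hrH : r ∣ Nat.card H) :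
    v p H ≤ f * (2 * n - 1) + (f + (2 * (n - 1)).factorization p) := by
  have hfinE : Finite ↥(E Q) := finite_E
  have hfinF : Finite F := finite_F D.good
  have hfd : FiniteDimensional F V := inferInstance
  have hn := D.hn
  have hV := D.dim
  have hrF := Fact.mk hr.prime
  refine odd_bound_of_uniq (S := P Q) hp.out hr.prime
    (hr.ne_char D.char).symm (D.uniq hr (by omega)) (fun X hX x hx hxo => ?_) (fun x hx => ?_) H hH hrH
  · obtain ⟨y, hy, hy1, rfl⟩ := exists_lift_ord D.good hr.prime hr.two hxo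
    have hy' : en Q y ^ r = 1 := by rw [← map_pow, hy, map_one]
    have h1 := finrank_add (en Q y)
    rw [finrank_R_eq hr.ord hr.cast (by omega) hy hy1, hV] at h1
    obtain ⟨T, hT, hmap, hnorm⟩ := Cfsg.Agent.SigZeroU5.exists_lift (Subgroup.center ↥(E Q)) le_rfl
      (not_dvd_center D.good D.p2) hX
    have hnorm' := hnorm y hx
    have hyy : ∀ w, en Q y (en Q y⁻¹ w) = w := fun w => by
      rw [← Module.End.mul_apply, ← map_mul, mul_inv_cancel, map_one, Module.End.one_apply]
    have hyy' : ∀ w, en Q y⁻¹ (en Q y w) = w := fun w => by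
      rw [← Module.End.mul_apply, ← map_mul, inv_mul_cancel, map_one, Module.End.one_apply]
    have h4 : v p T ≤ f * (2 * n - 1) := by
      apply v_le_of_card hT
      rw [← D.card]
      have h5 := card_le_norm D.ns D.h2F D.char hT (rp T) (rp_inj T) (rp_iso T) (isom_en y) hr.cast hy'
        (irr_R hr.ord hr.cast (by omega) hy) hyy hyy' (fun g => ?_) (fun g => ?_) (by omega)
      · rwa [hV, show 2 * n + 1 - 2 = 2 * n - 1 by omega] at h5
      · have h6 : y⁻¹ * (g : ↥(E Q)) * y ∈ T := by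
          rw [hnorm']
          have h7 : y * (y⁻¹ * (g : ↥(E Q)) * y) * y⁻¹ = g := by group
          rw [h7]
          exact g.2
        refine ⟨⟨_, h6⟩, fun w => ?_⟩
        rw [rp_apply, rp_apply]
        change en Q g (en Q y w) = en Q y (en Q (y⁻¹ * (g : ↥(E Q)) * y) w)
        rw [← Module.End.mul_apply, ← Module.End.mul_apply, ← map_mul, ← map_mul]
        congr 2
        group
      · have h6 : y * (g : ↥(E Q)) * y⁻¹ ∈ T := (hnorm' _).1 g.2
        refine ⟨⟨_, h6⟩, fun w => ?_⟩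
        rw [rp_apply, rp_apply]
        change en Q g (en Q y⁻¹ w) = en Q y⁻¹ (en Q (y * (g : ↥(E Q)) * y⁻¹) w)
        rw [← Module.End.mul_apply, ← Module.End.mul_apply, ← map_mul, ← map_mul]
        congr 2
        group
    refine le_trans ?_ h4
    rw [← hmap]
    exact fac_mono Nat.card_pos.ne' (Subgroup.card_map_dvd _ _)
  · obtain ⟨y, hy, hy1, -, h3⟩ := D.norm hr (by omega) hx
    refine (fac_mono (mul_ne_zero Nat.card_pos.ne' (by omega)) h3).trans ?_
    rw [Nat.factorization_mul Nat.card_pos.ne' (by omega), Finsupp.add_apply]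
    have h4 := D.cent_p hr.cast hr.ord (by omega) hy hy1
    have h5 : (2 * n + 1 - 2 * (n - 1) - 1) ^ 2 / 4 = 1 := by
      rw [show 2 * n + 1 - 2 * (n - 1) - 1 = 2 by omega]
      norm_num
    rw [h5, mul_one] at h4
    exact Nat.add_le_add_right h4 _

end p

end Cfsg.Agent.H898.PDOdd
end

-- part: H898/PDOddC
section
/-!
# S4246, row `POmega_{2n+1}(q)` (helper898)

`row_oodd` : the row of the groups `POmega_{2n+1}(q)`, `q` odd, `n ≥ 3`.
-/

set_option autoImplicit false
set_option linter.unusedSectionVars false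

namespace Cfsg.Agent.H898.PDOdd

open QuadraticMap Module Subgroup Cfsg.Agent.LieClassical.OrthCore Cfsg.Agent.LieClassical.OrthTrans
open Cfsg.Agent.ClassicalGeometry.OrthSemi Cfsg.Agent.ClassicalGeometry.OrthAut1 Cfsg.Agent.AutOrth.Main
open Cfsg.Agent.H200.LinFix Cfsg.Agent.H200.RowOrth Cfsg.Agent.H311.PD Cfsg.Agent.H898.PDLin
open Cfsg.Agent.LieClassical.QuadForms Cfsg.Agent.H208.Dict
open Cfsg.Agent.H160.PD (v v_mono v_eq_zero v_pos Fx mem_Fx out Good Two NoOdd Inc noOdd_of_uniq odd_bound_of_uniq)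

theorem three_pow (a : ℕ) : 2 * a + 1 ≤ 3 ^ a := by
  induction a with
  | zero => norm_num
  | succ a ih => rw [pow_succ]; omega

/-- `v_p(k) ≤ (k - 1) / 2` for `p ≥ 3` -/
theorem fac_half {p k : ℕ} (hp : p.Prime) (hp2 : p ≠ 2) (hk : k ≠ 0) : 2 * k.factorization p + 1 ≤ k := by
  have h1 : p ^ k.factorization p ≤ k := Nat.le_of_dvd (Nat.pos_of_ne_zero hk) (Nat.ordProj_dvd k p)
  have h2 : 3 ≤ p := by have := hp.two_le; omega
  have h3 : 3 ^ k.factorization p ≤ p ^ k.factorization p := Nat.pow_le_pow_left h2 _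
  have h4 := three_pow (k.factorization p)
  omega

theorem fac_two_mul {p k : ℕ} (hp : p.Prime) (hp2 : p ≠ 2) (hk : k ≠ 0) :
    (2 * k).factorization p = k.factorization p := by
  rw [Nat.factorization_mul two_ne_zero hk, Finsupp.add_apply, Nat.factorization_eq_zero_of_not_dvd fun h =>
    hp2 ((Nat.prime_dvd_prime_iff_eq hp Nat.prime_two).1 h), zero_add]

section abs

variable {F V : Type*} [Field F] [AddCommGroup V] [Module F V] {Q : QuadraticForm F V} [Finite V]
  {p f n : ℕ} [hp : Fact p.Prime]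

/-- **The criterion.** -/
theorem DatO.two (D : DatO Q p f n) {r s : ℕ} (hr : Prm F p f (2 * n) r) (hs : Prm F p f (2 * (n - 1)) s) :
    Two (P Q) p r s 0 f f ((2 * n).factorization p) (f * (2 * n - 1) + (f + (2 * (n - 1)).factorization p)) := by
  have hfinE : Finite ↥(E Q) := finite_E
  have hfinF : Finite F := finite_F D.good
  have hn := D.hn
  have hf := D.hf
  have hV := D.dim
  have hrF := Fact.mk hr.prime
  have hsF := Fact.mk hs.prime
  have hvS := D.v_char
  have hout : (H160.PD.out (P Q)).factorization p = f.factorization p := D.out_odd hp.out D.p2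
  have hff := fac_half hp.out D.p2 (k := f) (by omega)
  have e1 : (2 * n).factorization p = n.factorization p := fac_two_mul hp.out D.p2 (by omega)
  have e2 : (2 * (n - 1)).factorization p = (n - 1).factorization p := fac_two_mul hp.out D.p2 (by omega)
  have h1 := fac_half hp.out D.p2 (k := n) (by omega)
  have h2 := fac_half hp.out D.p2 (k := n - 1) (by omega)
  obtain ⟨m, rfl⟩ := Nat.exists_eq_add_of_le' hn
  have a1 : f * (m + 3) ^ 2 = f * ((m + 3) * (m + 3 - 1)) + f * m + 3 * f := by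
    rw [show m + 3 - 1 = m + 2 by omega]
    ring
  have a2 : f * (m + 3) ^ 2 = f * (2 * (m + 3) - 1) + f + (f * m * m + 3 * (f * m) + f * m + 3 * f) := by
    rw [show 2 * (m + 3) - 1 = 2 * m + 5 by omega]
    ring
  have a3 : m ≤ f * m := Nat.le_mul_of_pos_left _ hf
  refine
    { prime := hp.out
      good₀ := ⟨hr.prime, hr.two, D.good_first hr.prime hr.two (hr.ne_char D.char) (D.dvd_first hr)⟩
      good₁ := ⟨hs.prime, hs.two, D.good_second hs.prime hs.two (hs.ne_char D.char) (D.dvd_second hs)⟩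
      cent₀ := fun x hx => ?_
      cent₁ := fun x hx => ?_
      noOdd := D.noOdd hr hs
      inc := D.inc hr hs
      syl₀ := fun b hb hb2 hbp x hx hbx => ?_
      syl₁ := fun b hb hb2 hbp x hx hbx => ?_
      cc := ?_
      num := fun t ht ht2 htp htS htr hts => ?_
      odd₀ := fun hp2 => D.odd_first hr
      odd₁ := fun hp2 => D.odd_second hs
      n₀ := fun hp2 => ?_
      n₁ := fun hp2 => ?_
      n₀₁ := fun hp2 => ?_ }
  · obtain ⟨y, hy, hy1, rfl⟩ := exists_lift_ord D.good hr.prime hr.two hx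
    exact (v_centralizer_mk D.good (hr.prime.odd_of_ne_two hr.two) hy p).trans (D.cent_p_first hr hy hy1).le
  · obtain ⟨y, hy, hy1, rfl⟩ := exists_lift_ord D.good hs.prime hs.two hx
    refine (v_centralizer_mk D.good (hs.prime.odd_of_ne_two hs.two) hy p).trans ?_
    have h4 := D.cent_p hs.cast hs.ord (by omega) hy hy1
    have h5 : (2 * (m + 3) + 1 - 2 * (m + 3 - 1) - 1) ^ 2 / 4 = 1 := by
      rw [show 2 * (m + 3) + 1 - 2 * (m + 3 - 1) - 1 = 2 by (clear * -; omega)]
      norm_num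
    rwa [h5, mul_one] at h4
  · have h3 := D.syl hr (by omega) hb hb2 hbp hx hbx
    rw [max_self, hout, hvS, a1]
    (clear * - hff h3; omega)
  · have h3 := D.syl hs (by (clear * -; omega)) hb hb2 hbp hx hbx
    rw [max_eq_right (Nat.zero_le f), hout, hvS, a1]
    (clear * - hff h3; omega)
  · rw [hout, hvS, a1]
    (clear * - hff; omega)
  · have hd : t ∣ ∏ i ∈ Finset.range (m + 3), ((p ^ f) ^ (2 * (i + 1)) - 1) := by
      have h3 : t ∣ (p ^ f) ^ ((m + 3) ^ 2) * ∏ i ∈ Finset.range (m + 3), ((p ^ f) ^ (2 * (i + 1)) - 1) := by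
        rw [← D.ord]
        exact Dvd.dvd.mul_left htS _
      rcases ht.dvd_mul.1 h3 with h3 | h3
      · exact absurd ((Nat.prime_dvd_prime_iff_eq ht hp.out).1 (ht.dvd_of_dvd_pow (ht.dvd_of_dvd_pow h3))) htp
      · exact h3
    have htF := Fact.mk ht
    have htc : (t : F) ≠ 0 := D.cast ht htp
    rcases num_odd ht ht2 hp.out htp hf hn hd with ⟨h1, h2⟩ | ⟨h1, h2⟩ | h1
    · left
      refine ⟨D.good_first ht ht2 htp h2, fun x hx => ?_⟩
      obtain ⟨y, hy, hy1, rfl⟩ := exists_lift_ord D.good ht ht2 hx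
      refine (v_centralizer_mk D.good (ht.odd_of_ne_two ht2) hy p).trans ?_
      have h4 := D.cent_p htc (D.card ▸ h1) (by omega) hy hy1
      have h5 : (2 * (m + 3) + 1 - 2 * (m + 3) - 1) ^ 2 / 4 = 0 := by
        rw [show 2 * (m + 3) + 1 - 2 * (m + 3) - 1 = 0 by omega]
        norm_num
      rw [h5, mul_zero] at h4
      (clear * - h4; omega)
    · left
      refine ⟨D.good_second ht ht2 htp h2, fun x hx => ?_⟩
      obtain ⟨y, hy, hy1, rfl⟩ := exists_lift_ord D.good ht ht2 hx
      refine (v_centralizer_mk D.good (ht.odd_of_ne_two ht2) hy p).trans ?_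
      have h4 := D.cent_p htc (D.card ▸ h1) (by (clear * -; omega)) hy hy1
      have h5 : (2 * (m + 3) + 1 - 2 * (m + 3 - 1) - 1) ^ 2 / 4 = 1 := by
        rw [show 2 * (m + 3) + 1 - 2 * (m + 3 - 1) - 1 = 2 by (clear * -; omega)]
        norm_num
      rwa [h5, mul_one] at h4
    · right
      intro x x' hx hx'
      obtain ⟨y, hy, hy1, rfl⟩ := exists_lift_ord D.good hr.prime hr.two hx
      obtain ⟨z, hz, hz1, rfl⟩ := exists_lift_ord D.good hs.prime hs.two hx'
      have h2 := (v_centralizer_mk D.good (hr.prime.odd_of_ne_two hr.two) hy t).trans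
        (D.cent_t_first hr.two hr.cast hr.ord hy hy1 ht2 htp)
      have h3 := (v_centralizer_mk D.good (hs.prime.odd_of_ne_two hs.two) hz t).trans
        (D.cent_t_second hs.two hs.cast hs.ord hz hz1 ht2 htp)
      rw [D.out_odd ht ht2, D.v_odd ht ht2 htp]
      omega
  · rw [hout, hvS, e1, a1]
    (clear * - hff h1 a3; omega)
  · rw [hout, hvS, e2, a2]
    (clear * - hff h2 a3; omega)
  · rw [hout, hvS, e1, e2, a2]
    (clear * - hff h1 h2 a3; omega)

/-- **The row, abstract form.** -/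
theorem DatO.row (D : DatO Q p f n) : H160.PD.Row (P Q) := by
  have hfinE : Finite ↥(E Q) := finite_E
  have hfinF : Finite F := finite_F D.good
  have hn := D.hn
  have hp2 := D.p2
  have := D.simple
  obtain ⟨r, hr⟩ := exists_prm (F := F) (p := p) (f := f) (e := 2 * n) D.card D.char D.hf (by omega)
    (fun h => hp2 h.1)
  obtain ⟨s, hs⟩ := exists_prm (F := F) (p := p) (f := f) (e := 2 * (n - 1)) D.card D.char D.hf (by omega)
    (fun h => hp2 h.1)
  exact (D.two hr hs).row (H160.PD.center_eq_bot D.na)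

end abs

universe u

variable {K : Type u} [Group K] [Finite K] [IsSimpleGroup K]

/-- **Row of `POmega_{2n+1}(q)`.** -/
theorem row_oodd (h : IsPOmegaOdd K) : H160.PD.Row K := by
  obtain ⟨F, _, _, m, hm, hodd, ⟨e⟩⟩ := h
  have h2 : (2 : F) ≠ 0 := by
    intro h0
    have h3 : CharP F 2 := (CharP.charP_iff_prime_eq_zero Nat.prime_two).2 (by exact_mod_cast h0)
    have h4 := FiniteField.even_card_of_char_two ((CharP.eq F (ringChar.charP F) h3))
    rw [Nat.odd_iff] at hodd
    omega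
  have hs : IsSimpleGroup (POmega F (quadFormOdd m F)) := (e.isSimpleGroup_congr).1 inferInstance
  have hcard := S0292.result (F := F) rfl hodd m hm
  have hall := all_odd (F := F) hm h2
  obtain ⟨p, hchar⟩ := CharP.exists F
  obtain ⟨⟨f, hf0⟩, hp, hF⟩ := FiniteField.card F p
  simp only [PNat.mk_coe] at hF
  have hpF := Fact.mk hp
  have hp2 : p ≠ 2 := by
    rintro rfl
    exact h2 (by exact_mod_cast CharP.cast_eq_zero F 2)
  have haut := S0816.result (F := F) p f hf0 hF (hp.odd_of_ne_two hp2) m hm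
  refine H160.PD.Row.congr e ?_
  revert hs hcard hall haut
  rw [← coe_oddForm]
  intro hs hcard hall haut
  have hG : LieClassical.OrthTrans.Good (oddForm m F) := good_odd (by omega) h2
  have hsP := isSimple_P hG hs
  have hna := not_comm_P hG
  refine H160.PD.Row.congr (pe hG) ?_
  have hfinE : Finite ↥(E (oddForm m F)) := finite_E
  have D : DatO (oddForm m F) p f m :=
    { good := hG
      p2 := hp2
      hf := hf0
      card := by rw [Nat.card_eq_fintype_card, hF]
      hn := hm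
      dim := by
        rw [Module.finrank_fintype_fun_eq_card]
        simp only [_root_.Fintype.card_sum, _root_.Fintype.card_unique, _root_.Fintype.card_fin]
        omega
      char := CharP.cast_eq_zero F p
      ord := by
        rw [card_P hG, ← hF]
        exact hcard
      out := by
        have h1 := out_mul (H160.PD.center_eq_bot hna)
        have h2 : Nat.card (MulAut (P (oddForm m F))) = Nat.card (MulAut (POmega F ⇑(oddForm m F))) :=
          Nat.card_congr (MulAut.congr (pe hG)).symm.toEquiv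
        rw [h2, haut, ← card_P hG] at h1
        exact Nat.eq_of_mul_eq_mul_right Nat.card_pos h1
      aut := exists_gam' hG hall
      simple := hsP
      na := hna }
  exact D.row

end Cfsg.Agent.H898.PDOdd
end

private theorem dce_9bd984ac0d6f : _root_.True := by
  try have : _root_.True := by simp only [_root_.Cfsg.Agent.H160.PD.v.eq_1]
  exact _root_.True.intro
end

-- part: H874/PD/Base
section
set_option linter.all false
open scoped Cfsg.Agent.FastGrp

/-!
# Rows of S4246: tools (helper874)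
-/

set_option autoImplicit false

namespace Cfsg.Agent.H874.PD

open Subgroup Cfsg.Agent.H160.PD

variable {S : Type*} [Group S]

theorem Fx_conj (s : S) : Fx (MulAut.conj s) = centralizer {s} := by
  ext y
  rw [mem_Fx, mem_centralizer_singleton_iff, MulAut.conj_apply, mul_inv_eq_iff_eq_mul]
  exact eq_comm

theorem orderOf_conj' (hZ : center S = ⊥) (s : S) : orderOf (MulAut.conj s) = orderOf s :=
  orderOf_injective (MulAut.conj : S →* MulAut S) (conj_injective hZ) s

variable [Finite S]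

/-- an automorphism of prime order `≠ p` centralises no Sylow `p`-subgroup -/
theorem v_Fx_lt [IsSimpleGroup S] {p : ℕ} (hp : p.Prime) (h : Cfsg.IsLieTypeChar p S) {b : MulAut S}
    (hb : (orderOf b).Prime) (hbp : orderOf b ≠ p) : v p (Fx b) < v p S := by
  have := Fact.mk hp
  by_contra hlt
  have hle : v p (Fx b) ≤ v p S := by
    have h1 : Nat.card ↥(Fx b) ∣ Nat.card S := card_subgroup_dvd_card _
    exact (Nat.factorization_le_iff_dvd Nat.card_pos.ne' Nat.card_pos.ne').2 h1 p
  have heq : v p (Fx b) = v p S := le_antisymm hle (not_lt.1 hlt)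
  let Q : Sylow p ↥(Fx b) := default
  have hQ : Nat.card ↥((Q : Subgroup ↥(Fx b)).map (Fx b).subtype) = p ^ (Nat.card S).factorization p := by
    rw [← Nat.card_congr ((Q : Subgroup ↥(Fx b)).equivMapOfInjective _ (subtype_injective _)).toEquiv,
      Q.card_eq_multiplicity]
    exact congrArg _ heq
  have h1 := Cfsg.Agent.S4613.result p h b (fun h2 => hbp ((Nat.prime_dvd_prime_iff_eq hp hb).1 h2).symm)
    (Sylow.ofCard _ hQ) (by
      rintro x ⟨y, -, rfl⟩
      exact y.2)
  rw [h1, orderOf_one] at hb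
  exact hb.one_lt.ne rfl

/-- the order of an element divides the order of its centraliser -/
theorem v_eq_zero_of_order {G : Type*} [Group G] [Finite G] {A : Subgroup G} {r : ℕ} (hr : r.Prime)
    (h : ∀ y ∈ A, orderOf y ≠ r) : v r A = 0 := by
  apply v_eq_zero
  intro hd
  obtain ⟨y, hy, ho⟩ := Cfg.exists_mem hr hd
  exact h y hy ho

/-- **Characteristic two, `|Out|` odd, an isolated prime.** -/
theorem row_two [IsSimpleGroup S] (hna : ¬ IsMulCommutative S) (hL : Cfsg.IsLieTypeChar 2 S)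
    (hout : ¬ 2 ∣ out S) {l : ℕ} (hl : Good S l)
    (hin : ∀ x : S, orderOf x = l → ∀ a : MulAut S, a x = x → ∃ s : S, a = MulAut.conj s)
    (hC : ∀ x : S, orderOf x = l → ∀ y : S, (orderOf y).Prime → orderOf y ≠ 2 → x * y = y * x →
      ∀ z : S, orderOf z = 2 → y * z ≠ z * y) : Row S := by
  have hZ := Cfsg.Agent.H160.PD.center_eq_bot hna
  have key : ∀ x : S, orderOf x = l → ∀ y : S, (orderOf y).Prime → orderOf y ≠ 2 → x * y = y * x →
      v 2 (centralizer {y}) = 0 := by
    intro x hx y hy hy2 hxy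
    refine v_eq_zero_of_order Nat.prime_two fun z hz hz2 => hC x hx y hy hy2 hxy z hz2 ?_
    exact (mem_centralizer_singleton_iff.1 hz).symm
  have hout' : (out S).factorization 2 = 0 := Nat.factorization_eq_zero_of_not_dvd hout
  refine row_iso hZ (c := 0) hl (fun x hx => ?_) (fun b hb hb2 x hx hbx => ?_) (fun b hb hb2 => ?_)
  · exact (key x hx x (hx ▸ hl.prime) (hx ▸ hl.odd) rfl).le
  · obtain ⟨s, rfl⟩ := hin x hx b hbx
    rw [orderOf_conj' hZ] at hb hb2
    rw [Fx_conj]
    refine (key x hx s hb hb2 ?_).le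
    rw [MulAut.conj_apply, mul_inv_eq_iff_eq_mul] at hbx
    exact hbx.symm
  · rw [hout']
    have := v_Fx_lt Nat.prime_two hL hb hb2
    omega

end Cfsg.Agent.H874.PD
end
end
end
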