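import Mathlib
import Cfsg.Agent.H160.PD.Crit
import Cfsg.Agent.H524.RegSpor
import Cfsg.Agent.Transfer.PGroupNormal
import Cfsg.Agent.Lib.Cores
import Cfsg.Agent.OddHalf.Small.Plug
import Cfsg.Agent.OddHalf.Small.Mathieu
import Cfsg.Agent.OddHalf.Small.M24Char
import Cfsg.Agent.KFacts.MM.OutC_m3
import Cfsg.Agent.S2060
import Cfsg.Agent.S2062
import Cfsg.Agent.S2063
import Cfsg.Agent.S2064
import Cfsg.Agent.S2067
import Cfsg.Agent.Co2Type.Quad
import Cfsg.Agent.H330.MTw
import Cfsg.Agent.H393.Iso.J23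
import Cfsg.Agent.CTwoTab.HS
import Cfsg.Agent.CTwoTab.He
import Cfsg.Agent.S2061
import Cfsg.Agent.S2066
import Cfsg.Agent.S2072
import Cfsg.Agent.S2075
import Cfsg.Agent.TypeM.FactsMcL
import Cfsg.Agent.S2065
import Cfsg.Agent.S2073
import Cfsg.Agent.H661.SC.NonPrin
import Cfsg.Agent.H633.CentTwo
import Cfsg.Agent.H633.CentSporB
import Cfsg.Agent.S2068
import Cfsg.Agent.S2069
import Cfsg.Agent.S2070
import Cfsg.Agent.S2071
import Cfsg.Agent.S2077
import Cfsg.Agent.H902.DomLU_m3
import Cfsg.Agent.H364.OutLie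
import Cfsg.Agent.H489.OutSpor
import Cfsg.Agent.OrdDiv.Table
import Cfsg.Agent.S0254
import Cfsg.Agent.H680.ONThirtyOne_m3
import Cfsg.Agent.KFacts.ON.Words_m3
import Cfsg.Agent.KFacts.ON.Qs
import Cfsg.Agent.S2078
import Cfsg.Agent.H569.PD.Fi23
import Cfsg.Agent.CTwoTab.HN
import Cfsg.Agent.SigZeroHN.Main
import Cfsg.Agent.KFacts.HN.Sheet
import Cfsg.Agent.H94.CopHN
import Cfsg.Agent.LargeExtra.Base
import Cfsg.Agent.H237.EvenFi
import Cfsg.Agent.H408.SporSelf
import Cfsg.Agent.MonsterX.ThOneClass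
import Cfsg.Agent.KFacts.Th.Main
import Cfsg.Agent.H981.SCTh
import Cfsg.Agent.H603.SporElim
import Cfsg.Agent.KFacts.Baby.RowB_m3
import Cfsg.Agent.H291.SCBaby
import Cfsg.Agent.H568.SC.Mon
import Cfsg.Agent.KFacts.MonsterE
import Cfsg.Agent.H204.Ore.LyFive_m3
import Cfsg.Agent.H613.Ly5.ThirtyOne
import Cfsg.Agent.SevenCases.SporJ4
import Cfsg.Agent.KFacts.J4.SheetJ4
import Cfsg.Agent.KFacts.SuzLarge
import Cfsg.Agent.S2074
import Cfsg.Prelude.Def_Classification2
import Cfsg.Agent.H160.PD.AsmCl_m3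
import Cfsg.Agent.FastGrp
import Cfsg.Agent.Prune
set_option linter.all false

section
prune_inst 0x7ffcfff9afb835deffff7e7ffff9dffe39d4dfffefdff94bffedfbffafdf23772be5fbaf1de498ff8ed7e03630b87853fbfffeffe36bdc7ffffd5ff45ffbee5ff7ffbf0951d798340f7c6ffffbf17f8e7f3fffffffffffffffffffffffffffffffffffffffff

-- part: H184/PD/Base
section
prune_inst 0x2000200408a210000000000040001c4282000100006b00012040050204808d4000000620840004020008800400300000001000c0021000000000000001180080000a42028248a108000000002007180c00000000000000000000000000000000000000000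
set_option linter.all false
open scoped Cfsg.Agent.FastGrp

/-!
# S4246: the sporadic rows, general tools (helper184)

* `row_of_sc` : `SC S` (an element of prime order `r` with a centralizer of order `r`), `|Out S| ≤ 2`, and the
  `2`-index of `C(g)` is larger than `|Out S|` for the elements `g` of odd prime order `⇒ Row S`;
* `EvT G` : for every `2`-central involution `z` there is a normal `2`-subgroup `Q` of `C(z)` such that only
  `2`-elements of `C(z)` centralize `Q`;
* `EvT.lt` : then the `2`-index of `C(g)` is at least `4`, `g` of odd prime order.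
-/

set_option autoImplicit false
set_option linter.unusedSectionVars false

namespace Cfsg.Agent.H184.PD

open Subgroup Cfsg.Agent.H160.PD Cfsg.Agent.H524.SporTool

universe u

/-! ### automorphisms of odd prime order -/

section inner

variable {S : Type*} [Group S]

theorem inner_of_out_le [Finite S] (ho : out S ≤ 2) {b : MulAut S} (hb : (orderOf b).Prime) (hb2 : orderOf b ≠ 2) :
    ∃ g : S, MulAut.conj g = b := by
  have hN : (MulAut.conj : S →* MulAut S).range.Normal := conj_range_normal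
  have h0 : out S ≠ 0 := out_ne_zero
  have hodd : Odd (orderOf b) := hb.odd_of_ne_two hb2
  have hsq : b ^ 2 ∈ (MulAut.conj : S →* MulAut S).range := by
    have h1 : (MulAut.conj : S →* MulAut S).range.index = 1 ∨ (MulAut.conj : S →* MulAut S).range.index = 2 := by
      unfold out at ho h0
      omega
    rcases h1 with h1 | h1
    · rw [Subgroup.index_eq_one.1 h1]
      exact mem_top _
    · exact Subgroup.sq_mem_of_index_two h1 b
  obtain ⟨k, hk⟩ := hodd
  have h2 : b = (b ^ 2) ^ (k + 1) := by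
    rw [← pow_mul, show 2 * (k + 1) = (2 * k + 1) + 1 by ring, ← hk, pow_succ, pow_orderOf_eq_one, one_mul]
  have h3 : b ∈ (MulAut.conj : S →* MulAut S).range := by
    rw [h2]
    exact pow_mem hsq _
  exact h3

theorem Fx_conj (g : S) : Fx (MulAut.conj g) = centralizer ({g} : Set S) := by
  ext s
  rw [mem_Fx, mem_centralizer_singleton_iff, MulAut.conj_apply, mul_inv_eq_iff_eq_mul]
  exact eq_comm

end inner

/-! ### the elements of order `r`, `SC` -/

section sc

variable {S : Type*} [Group S] [Finite S]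

theorem card_centralizer_conj (g x : S) :
    Nat.card (centralizer ({g * x * g⁻¹} : Set S)) = Nat.card (centralizer ({x} : Set S)) := by
  have h := card_centralizer_equiv (MulAut.conj g) x
  rwa [MulAut.conj_apply] at h

/-- an element of prime order `r` with a centralizer of order `r` generates a Sylow subgroup -/
theorem sylow_of_sc {x : S} (hx : (orderOf x).Prime) (hC : Nat.card (centralizer ({x} : Set S)) = orderOf x) :
    v (orderOf x) S = 1 ∧ ∀ y : S, orderOf y = orderOf x → Nat.card (centralizer ({y} : Set S)) = orderOf x := by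
  obtain ⟨r, hr⟩ : ∃ r, r = orderOf x := ⟨_, rfl⟩
  rw [← hr] at hx hC ⊢
  have : Fact r.Prime := ⟨hx⟩
  have hCx : zpowers x = centralizer ({x} : Set S) := by
    apply eq_of_le_of_card_ge
    · rw [zpowers_le]
      exact mem_centralizer_singleton_iff.2 rfl
    · rw [hC, Nat.card_zpowers, hr]
  have hZ : IsPGroup r (zpowers x) := by
    rw [IsPGroup.iff_card]
    exact ⟨1, by rw [Nat.card_zpowers, pow_one, ← hr]⟩
  obtain ⟨P, hP⟩ := hZ.exists_le_sylow
  have hxP : x ∈ (P : Subgroup S) := hP (mem_zpowers x)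
  have hx1 : x ≠ 1 := by
    rintro rfl
    rw [orderOf_one] at hr
    exact hx.one_lt.ne' hr
  have hPx : (P : Subgroup S) = zpowers x := by
    have hnt : Nontrivial (P : Subgroup S) := ⟨⟨⟨x, hxP⟩, 1, fun h => hx1 (congrArg Subtype.val h)⟩⟩
    have hc := P.2.center_nontrivial
    obtain ⟨⟨⟨z, hzP⟩, hzc⟩, hz1⟩ := exists_ne (1 : center (P : Subgroup S))
    have hz1' : z ≠ 1 := fun h => hz1 (Subtype.ext (Subtype.ext h))
    have hzx : z ∈ zpowers x := by
      rw [hCx, mem_centralizer_singleton_iff]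
      exact (congrArg Subtype.val (mem_center_iff.1 hzc ⟨x, hxP⟩)).symm
    have hxz : x ∈ zpowers z := by
      have h3 : zpowers z = zpowers x := by
        apply eq_of_le_of_card_ge
        · rw [zpowers_le]; exact hzx
        · rw [Nat.card_zpowers, Nat.card_zpowers, ← hr]
          have h2 : orderOf z ∣ r := by
            rw [hr]
            exact orderOf_dvd_of_mem_zpowers hzx
          rcases (Nat.dvd_prime hx).1 h2 with h3 | h3
          · exact absurd (orderOf_eq_one_iff.1 h3) hz1'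
          · exact h3.ge
      rw [h3]; exact mem_zpowers x
    apply le_antisymm _ hP
    intro p hp
    rw [hCx, mem_centralizer_singleton_iff]
    obtain ⟨i, rfl⟩ := hxz
    have h4 : p * z = z * p := congrArg Subtype.val (mem_center_iff.1 hzc ⟨p, hp⟩)
    exact ((show Commute p z from h4).zpow_right i).eq
  have hv : v r S = 1 := by
    have h1 := P.card_eq_multiplicity
    have h2 : Nat.card P = r := by
      rw [show Nat.card P = Nat.card (P : Subgroup S) from rfl, hPx, Nat.card_zpowers, hr]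
    rw [h2] at h1
    have h3 : r ^ v r S = r ^ 1 := by rw [pow_one]; exact h1.symm
    exact Nat.pow_right_injective hx.two_le h3
  refine ⟨hv, fun y hy => ?_⟩
  have hY : IsPGroup r (zpowers y) := by
    rw [IsPGroup.iff_card]
    exact ⟨1, by rw [Nat.card_zpowers, pow_one, hy]⟩
  obtain ⟨P', hP'⟩ := hY.exists_le_sylow
  obtain ⟨g, hg⟩ := MulAction.exists_smul_eq S P' P
  have hgy : g * y * g⁻¹ ∈ zpowers x := by
    rw [← hPx, ← hg, Sylow.coe_subgroup_smul]
    exact Subgroup.smul_mem_pointwise_smul y (MulAut.conj g) _ (hP' (mem_zpowers y))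
  have hyo : orderOf (g * y * g⁻¹) = r := by
    rw [← hy]
    exact MulEquiv.orderOf_eq (MulAut.conj g) y
  have h3 : zpowers (g * y * g⁻¹) = zpowers x := by
    apply eq_of_le_of_card_ge
    · rw [zpowers_le]; exact hgy
    · rw [Nat.card_zpowers, Nat.card_zpowers, hyo, hr]
  have h4 : centralizer ({g * y * g⁻¹} : Set S) = centralizer ({x} : Set S) := by
    rw [← centralizer_closure, ← centralizer_closure ({x} : Set S), ← zpowers_eq_closure, ← zpowers_eq_closure, h3]
  rw [← card_centralizer_conj g y, h4, hC]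

/-- **The rows for the groups with an isolated prime and `|Out| ≤ 2`.** -/
theorem row_of_sc' (hZ : center S = ⊥) (hsc : SC S) (ho : out S ≤ 2) (h4 : 4 ∣ Nat.card S)
    (h : ∀ g : S, (orderOf g).Prime → orderOf g ≠ 2 →
      v 2 (centralizer ({g} : Set S)) + (out S).factorization 2 < v 2 S) : Row S := by
  obtain ⟨x, hx, hC⟩ := hsc
  obtain ⟨hv, hall⟩ := sylow_of_sc hx hC
  obtain ⟨r, hr⟩ : ∃ r, r = orderOf x := ⟨_, rfl⟩
  rw [← hr] at hx hC hv hall
  have h2 : 2 ≤ v 2 S := by
    rw [show (4 : ℕ) = 2 ^ 2 by norm_num] at h4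
    exact (Nat.prime_two.pow_dvd_iff_le_factorization Nat.card_pos.ne').1 h4
  have hr2 : r ≠ 2 := by
    rintro rfl
    rw [hv] at h2
    omega
  have hv0 : ∀ y : S, orderOf y = r → v 2 (centralizer ({y} : Set S)) = 0 := by
    intro y hy
    apply v_eq_zero
    rw [hall y hy]
    intro hd
    exact hr2 ((Nat.prime_dvd_prime_iff_eq Nat.prime_two hx).1 hd).symm
  refine row_iso (r := r) (c := 0) hZ ⟨hx, hr2, ?_⟩ (fun y hy => (hv0 y hy).le) ?_ ?_
  · rw [hv, Nat.lt_one_iff]
    apply Nat.factorization_eq_zero_of_not_dvd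
    intro hd
    have h5 := Nat.le_of_dvd (Nat.pos_of_ne_zero out_ne_zero) hd
    have h6 := hx.two_le
    omega
  · intro b hb hb2 y hy hby
    obtain ⟨g, rfl⟩ := inner_of_out_le ho hb hb2
    rw [Fx_conj]
    have hgo : orderOf (MulAut.conj g : MulAut S) = orderOf g := orderOf_injective _ (conj_injective hZ) g
    have hg : g ∈ centralizer ({y} : Set S) := by
      rw [mem_centralizer_singleton_iff]
      rwa [MulAut.conj_apply, mul_inv_eq_iff_eq_mul] at hby
    have hgr : orderOf g = r := by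
      have h5 : orderOf g ∣ r := by
        rw [← hall y hy]
        exact (Subgroup.orderOf_mk g hg) ▸ orderOf_dvd_natCard (⟨g, hg⟩ : centralizer ({y} : Set S))
      rw [hgo] at hb
      exact (Nat.prime_dvd_prime_iff_eq hb hx).1 h5
    exact (hv0 g hgr).le
  · intro b hb hb2
    obtain ⟨g, rfl⟩ := inner_of_out_le ho hb hb2
    have hgo : orderOf (MulAut.conj g : MulAut S) = orderOf g := orderOf_injective _ (conj_injective hZ) g
    rw [hgo] at hb hb2
    rw [Fx_conj, add_zero]
    exact h g hb hb2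

end sc

/-! ### the `2`-central involutions -/

section evt

variable {G : Type*} [Group G]

/-- a normal `2`-subgroup `Q` of `C(z)` such that only `2`-elements of `C(z)` centralize `Q` -/
def At2 (z : G) : Prop :=
  ∃ Q : Subgroup G, IsPGroup 2 Q ∧ (∀ c, c * z = z * c → ∀ q ∈ Q, c * q * c⁻¹ ∈ Q) ∧
    ∀ g, g * z = z * g → (∀ q ∈ Q, g * q = q * g) → ∃ k : ℕ, g ^ 2 ^ k = 1

/-- `At2` for the `2`-central involutions -/
def EvT (G : Type*) [Group G] : Prop :=
  ∀ z : G, orderOf z = 2 → ¬ 2 ∣ (centralizer ({z} : Set G)).index → At2 z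

theorem At2.congr {H : Type*} [Group H] (e : G ≃* H) {z : G} (h : At2 z) : At2 (e z) := by
  obtain ⟨Q, h1, h2, h3⟩ := h
  refine ⟨Q.map e.toMonoidHom, h1.map _, ?_, ?_⟩
  · rintro c hc _ ⟨q, hq, rfl⟩
    refine ⟨e.symm c * q * (e.symm c)⁻¹, h2 _ ?_ q hq, by simp⟩
    apply e.injective
    simpa using hc
  · intro g hg hgq
    obtain ⟨k, hk⟩ := h3 (e.symm g) (by apply e.injective; simpa using hg) (by
      intro q hq
      apply e.injective
      simpa using hgq (e q) ⟨q, hq, rfl⟩)
    refine ⟨k, ?_⟩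
    apply e.symm.injective
    rw [map_pow, hk, map_one]

theorem At2.conj {z : G} (h : At2 z) (g : G) : At2 (g * z * g⁻¹) := by
  have := h.congr (MulAut.conj g)
  rwa [MulAut.conj_apply] at this

theorem At2.of_isConj {z t : G} (h : At2 z) (hc : IsConj z t) : At2 t := by
  obtain ⟨g, rfl⟩ := isConj_iff.1 hc
  exact h.conj g

theorem EvT.congr {H : Type*} [Group H] (e : G ≃* H) (h : EvT G) : EvT H := by
  intro z hz hi
  have h1 := h (e.symm z) (by rw [MulEquiv.orderOf_eq, hz]) (by rwa [← index_centralizer_map e, e.apply_symm_apply])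
  have := h1.congr e
  rwa [e.apply_symm_apply] at this

/-- all `2`-central involutions are conjugate -/
theorem EvT.of_conj {z : G} (h : At2 z)
    (hc : ∀ t : G, orderOf t = 2 → ¬ 2 ∣ (centralizer ({t} : Set G)).index → IsConj z t) : EvT G :=
  fun t ht hi => h.of_isConj (hc t ht hi)

theorem two_coset {A T : Subgroup G} (h : A.relIndex T = 1 ∨ A.relIndex T = 2) {a b : G} (ha : a ∈ T) (hb : b ∈ T)
    (ha' : a ∉ A) (hb' : b ∉ A) : a⁻¹ * b ∈ A := by
  rcases h with h | h
  · exact absurd (relIndex_eq_one.1 h ha) ha'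
  · have h1 := (Subgroup.mul_mem_iff_of_index_two (H := A.subgroupOf T) h (a := ⟨a, ha⟩⁻¹) (b := ⟨b, hb⟩)).2 (by
      rw [inv_mem_iff, mem_subgroupOf, mem_subgroupOf]
      exact ⟨fun h => absurd h ha', fun h => absurd h hb'⟩)
    exact h1

variable [Finite G]

/-- a `2`-subgroup normalized by a Sylow `2`-subgroup is contained in it -/
theorem le_of_norm {p : ℕ} [Fact p.Prime] (T : Sylow p G) {Q : Subgroup G} (hQ : IsPGroup p Q)
    (hn : ∀ t ∈ (T : Subgroup G), ∀ q ∈ Q, t * q * t⁻¹ ∈ Q) : Q ≤ T := by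
  have h1 : (T : Subgroup G) ≤ normalizer (Q : Set G) := by
    intro t ht
    rw [mem_normalizer_iff]
    intro q
    refine ⟨fun hq => hn t ht q hq, fun hq => ?_⟩
    have h2 := hn t⁻¹ (inv_mem ht) _ hq
    have h3 : t⁻¹ * (t * q * t⁻¹) * t⁻¹⁻¹ = q := by group
    rwa [h3] at h2
  have h2 : IsPGroup p ↥((T : Subgroup G) ⊔ Q) := T.2.to_sup_of_normal_right' hQ h1
  have h3 : (T : Subgroup G) ⊔ Q = T := T.3 h2 le_sup_left
  rw [← h3]
  exact le_sup_right

/-- **The `2`-index of `C(g)` is at least four.** -/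
theorem EvT.lt (h : EvT G) (h4 : 2 ≤ v 2 G) {g : G} (hg : (orderOf g).Prime) (hg2 : orderOf g ≠ 2) :
    v 2 (centralizer ({g} : Set G)) + 1 < v 2 G := by
  by_contra hcon
  push Not at hcon
  have : Fact (Nat.Prime 2) := ⟨Nat.prime_two⟩
  obtain ⟨P⟩ : Nonempty (Sylow 2 (centralizer ({g} : Set G))) := inferInstance
  set A : Subgroup G := (P : Subgroup (centralizer ({g} : Set G))).map (centralizer ({g} : Set G)).subtype with hA
  have hAC : A ≤ centralizer ({g} : Set G) := map_subtype_le _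
  have hA2 : IsPGroup 2 A := P.2.map _
  have hAc : Nat.card A = 2 ^ v 2 (centralizer ({g} : Set G)) := by
    rw [hA, ← P.card_eq_multiplicity]
    exact (Nat.card_congr ((P : Subgroup (centralizer ({g} : Set G))).equivMapOfInjective _
      (subtype_injective _)).toEquiv).symm
  obtain ⟨T, hAT⟩ := hA2.exists_le_sylow
  have hTc : Nat.card (T : Subgroup G) = 2 ^ v 2 G := T.card_eq_multiplicity
  have hle : v 2 (centralizer ({g} : Set G)) ≤ v 2 G :=
    (Nat.factorization_le_iff_dvd Nat.card_pos.ne' Nat.card_pos.ne').2 (card_subgroup_dvd_card _) 2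
  have hri : A.relIndex T = 1 ∨ A.relIndex T = 2 := by
    have h1 : Nat.card A * A.relIndex T = Nat.card (T : Subgroup G) := by
      have := card_mul_index (A.subgroupOf (T : Subgroup G))
      rw [← this, relIndex]
      congr 1
      exact (Nat.card_congr (Subgroup.subgroupOfEquivOfLe hAT).toEquiv).symm
    rw [hAc, hTc] at h1
    obtain ⟨d, hd⟩ : ∃ d, v 2 G = v 2 (centralizer ({g} : Set G)) + d := ⟨_, (Nat.add_sub_of_le hle).symm⟩
    rw [hd, pow_add] at h1
    have h2 := Nat.eq_of_mul_eq_mul_left (by positivity) h1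
    have h3 : d = 0 ∨ d = 1 := by omega
    rcases h3 with rfl | rfl
    · left; simpa using h2
    · right; simpa using h2
  -- `A` is normal in `T` and not trivial
  have hAn : (A.subgroupOf (T : Subgroup G)).Normal := by
    rcases hri with h1 | h1
    · rw [subgroupOf_eq_top.2 (relIndex_eq_one.1 h1)]
      infer_instance
    · exact Subgroup.normal_of_index_eq_two h1
  have hA1 : A.subgroupOf (T : Subgroup G) ≠ ⊥ := by
    intro h0
    have h1 : Nat.card A = 1 := by
      rw [← Nat.card_congr (Subgroup.subgroupOfEquivOfLe hAT).toEquiv, h0, Subgroup.card_bot]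
    rw [hAc] at h1
    have h2 := (Nat.pow_eq_one.1 h1).resolve_left (by norm_num)
    omega
  obtain ⟨⟨z, hzT⟩, hzA, hzc, hz2⟩ :=
    Transfer.PGroupNormal.exists_mem_inf_center_orderOf T.2 (A.subgroupOf (T : Subgroup G)) hA1
  rw [mem_subgroupOf] at hzA
  have hzA' : z ∈ A := hzA
  rw [Subgroup.orderOf_mk] at hz2
  have hzT' : ∀ t ∈ (T : Subgroup G), t * z = z * t := fun t ht =>
    congrArg Subtype.val (mem_center_iff.1 hzc ⟨t, ht⟩)
  have hTz : (T : Subgroup G) ≤ centralizer ({z} : Set G) := fun t ht =>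
    mem_centralizer_singleton_iff.2 (hzT' t ht)
  have hidx : ¬ 2 ∣ (centralizer ({z} : Set G)).index := by
    intro hd
    have h1 := T.not_dvd_index
    exact h1 (hd.trans (index_dvd_of_le hTz))
  obtain ⟨Q, hQ2, hQn, hQc⟩ := h z hz2 hidx
  have hgz : g * z = z * g := (mem_centralizer_singleton_iff.1 (hAC hzA')).symm
  have hQT : Q ≤ T := le_of_norm T hQ2 fun t ht q hq => hQn t (hzT' t ht) q hq
  have hAg : ∀ a ∈ A, g * a = a * g := fun a ha => (mem_centralizer_singleton_iff.1 (hAC ha)).symm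
  have hginv : g⁻¹ * z = z * g⁻¹ := ((show Commute g z from hgz).inv_left).eq
  have key : ∀ q ∈ Q, g * q = q * g := by
    intro q hq
    by_cases hqA : q ∈ A
    · exact hAg q hqA
    · have h1 : g * q * g⁻¹ ∈ Q := hQn g hgz q hq
      have h2 : g * q * g⁻¹ ∉ A := by
        intro h3
        apply hqA
        have h4 := hAg _ h3
        have h5 : g * q * g⁻¹ = q := by
          have h6 : g * q * g⁻¹ * g = g * (g * q * g⁻¹) := h4.symm
          rw [inv_mul_cancel_right] at h6
          exact (mul_left_cancel h6).symm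
        rwa [h5] at h3
      have h3 : q⁻¹ * (g * q * g⁻¹) ∈ A := two_coset hri (hQT hq) (hQT h1) hqA h2
      obtain ⟨c, hc⟩ : ∃ c, c = q⁻¹ * (g * q * g⁻¹) := ⟨_, rfl⟩
      rw [← hc] at h3
      have hgc : g * c = c * g := hAg c h3
      have h5 : g * q * g⁻¹ = q * c := by rw [hc]; group
      have h6 : ∀ n : ℕ, g ^ n * q * (g ^ n)⁻¹ = q * c ^ n := by
        intro n
        induction n with
        | zero => simp
        | succ n ih =>
          have e1 : g ^ (n + 1) * q * (g ^ (n + 1))⁻¹ = g * (g ^ n * q * (g ^ n)⁻¹) * g⁻¹ := by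
            rw [pow_succ']; group
          rw [e1, ih]
          have e2 : g * (q * c ^ n) * g⁻¹ = (g * q * g⁻¹) * (g * c ^ n * g⁻¹) := by group
          have e3 : g * c ^ n * g⁻¹ = c ^ n := by
            rw [mul_inv_eq_iff_eq_mul]
            exact ((show Commute g c from hgc).pow_right n).eq
          rw [e2, h5, e3, mul_assoc, ← pow_succ']
      have h7 : c ^ orderOf g = 1 := by
        have e1 := h6 (orderOf g)
        rw [pow_orderOf_eq_one, one_mul, inv_one, mul_one] at e1
        exact mul_left_cancel (by rw [mul_one, ← e1])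
      obtain ⟨k, hk⟩ := hA2 ⟨c, h3⟩
      have hk' : c ^ 2 ^ k = 1 := congrArg Subtype.val hk
      have h8 : orderOf c ∣ 1 := by
        have e1 : (orderOf g).Coprime (2 ^ k) :=
          Nat.Coprime.pow_right _ ((Nat.coprime_primes hg Nat.prime_two).2 hg2)
        rw [← e1.gcd_eq_one]
        exact Nat.dvd_gcd (orderOf_dvd_of_pow_eq_one h7) (orderOf_dvd_of_pow_eq_one hk')
      have h9 : c = 1 := orderOf_eq_one_iff.1 (Nat.dvd_one.1 h8)
      rw [h9, mul_one, mul_inv_eq_iff_eq_mul] at h5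
      exact h5
  obtain ⟨k, hk⟩ := hQc g hgz key
  have h9 : orderOf g ∣ 2 ^ k := orderOf_dvd_of_pow_eq_one hk
  exact hg2 ((Nat.prime_dvd_prime_iff_eq hg Nat.prime_two).1 (hg.dvd_of_dvd_pow h9))

/-- **The rows of the sporadic groups of characteristic `2`.** -/
theorem row_of_evT (hZ : center G = ⊥) (hsc : SC G) (ho : out G ≤ 2) (h4 : 4 ∣ Nat.card G) (h : EvT G) : Row G := by
  refine row_of_sc' hZ hsc ho h4 fun g hg hg2 => ?_
  have h2 : 2 ≤ v 2 G := by
    rw [show (4 : ℕ) = 2 ^ 2 by norm_num] at h4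
    exact (Nat.prime_two.pow_dvd_iff_le_factorization Nat.card_pos.ne').1 h4
  have h5 := h.lt h2 hg hg2
  have h6 : (out G).factorization 2 ≤ 1 := by
    have h7 : out G = 1 ∨ out G = 2 := by
      have := out_ne_zero (S := G)
      omega
    rcases h7 with h7 | h7
    · rw [h7]; simp
    · rw [h7, Nat.prime_two.factorization]; simp
  omega

/-! ### groups of characteristic two type -/

theorem EvT.of_charTwo (h : IsCharacteristicTwoType G) : EvT G := by
  intro z hz _
  have hz1 : z ≠ 1 := by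
    rintro rfl
    rw [orderOf_one] at hz
    omega
  have hp : IsPGroup 2 (zpowers z) := by
    rw [IsPGroup.iff_card]
    exact ⟨1, by rw [Nat.card_zpowers, pow_one, hz]⟩
  have h1 := h.2 (zpowers z) hp (by rwa [Ne, zpowers_eq_bot])
  have hN : ∀ c : G, c * z = z * c → c ∈ normalizer ((zpowers z : Subgroup G) : Set G) := by
    intro c hc
    apply centralizer_le_normalizer
    rw [mem_centralizer_iff]
    rintro _ ⟨k, rfl⟩
    exact ((show Commute c z from hc).zpow_right k).eq.symm
  set N := normalizer ((zpowers z : Subgroup G) : Set G) with hNdef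
  have : Fact (Nat.Prime 2) := ⟨Nat.prime_two⟩
  have hQ : IsPGroup 2 (pCore 2 N) := Lib.Cores.pCore_isPGroup 2
  have hQn : (pCore 2 N).Normal := Lib.Cores.pCore_normal 2
  refine ⟨(pCore 2 N).map N.subtype, hQ.map _, ?_, ?_⟩
  · rintro c hc _ ⟨q, hq, rfl⟩
    exact ⟨(⟨c, hN c hc⟩ * q * ⟨c, hN c hc⟩⁻¹ :), hQn.conj_mem q hq _, rfl⟩
  · intro g hg hgq
    have h2 : (⟨g, hN g hg⟩ : N) ∈ pCore 2 N := by
      apply h1
      rw [mem_centralizer_iff]
      intro q hq
      exact Subtype.ext (hgq q ⟨q, hq, rfl⟩).symm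
    obtain ⟨k, hk⟩ := hQ ⟨_, h2⟩
    exact ⟨k, congrArg (fun x : pCore 2 N => ((x : N) : G)) hk⟩

end evt

end Cfsg.Agent.H184.PD
end

-- part: H184/PD/RowsA
section
set_option linter.all false
open scoped Cfsg.Agent.FastGrp

/-!
# S4246: the rows `M₁₁`, `M₂₂`, `M₂₃`, `M₂₄`, `J₃` (helper184)
-/

set_option autoImplicit false
set_option linter.unusedSectionVars false

namespace Cfsg.Agent.H184.PD

open Subgroup Cfsg Cfsg.Agent.H160.PD Cfsg.Agent.H524.SporTool

universe u

section gen

variable {S : Type*} [Group S]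

theorem SC.of_sylow' [Finite S] {r : ℕ} [hr : Fact r.Prime] (hd : r ∣ Nat.card S) (hr2 : ¬ r ^ 2 ∣ Nat.card S)
    (h : ∀ P : Sylow r S, centralizer (P : Set S) = (P : Subgroup S)) : SC S := by
  refine SC.of_zpowers hr.out hd fun P hP => ?_
  have hPp : IsPGroup r P := by
    rw [IsPGroup.iff_card]
    exact ⟨1, by rw [hP, pow_one]⟩
  obtain ⟨T, hT⟩ := hPp.exists_le_sylow
  have hTc : Nat.card (T : Subgroup S) = r := by
    obtain ⟨k, hk⟩ := IsPGroup.iff_card.1 T.2
    have h2 : k < 2 := by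
      by_contra hc
      push Not at hc
      exact hr2 ((pow_dvd_pow r hc).trans (hk ▸ card_subgroup_dvd_card _))
    have h3 : Nat.card P ≤ Nat.card (T : Subgroup S) := card_le_of_le hT
    rw [hk, hP] at h3
    have h4 : k = 1 := by
      interval_cases k
      · have := hr.out.two_le
        rw [pow_zero] at h3
        omega
      · rfl
    rw [hk, h4, pow_one]
  have hTP : P = (T : Subgroup S) := eq_of_le_of_card_ge hT (by rw [hP, hTc])
  have h5 : centralizer ((T : Subgroup S) : Set S) = (T : Subgroup S) := h T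
  rw [hTP, h5, hTc]

theorem out_congr {X Y : Type*} [Group X] [Group Y] (e : X ≃* Y) : out X = out Y := by
  have h1 : (MulAut.conj : Y →* MulAut Y).range =
      (MulAut.conj : X →* MulAut X).range.map (MulAut.congr e).toMonoidHom := by
    ext f
    constructor
    · rintro ⟨y, rfl⟩
      refine ⟨MulAut.conj (e.symm y), ⟨_, rfl⟩, ?_⟩
      ext z
      show e (e.symm y * e.symm z * (e.symm y)⁻¹) = y * z * y⁻¹
      simp
    · rintro ⟨_, ⟨x, rfl⟩, rfl⟩
      refine ⟨e x, ?_⟩
      ext z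
      show e x * z * (e x)⁻¹ = e (x * e.symm z * x⁻¹)
      simp
  unfold out
  rw [h1]
  exact (Subgroup.index_map_of_bijective (f := (MulAut.congr e).toMonoidHom) (MulAut.congr e).bijective _).symm

theorem out_of {X Y : Type*} [Group X] [Group Y] (e : X ≃* Y) {n : ℕ} (h : Nat.card (Out Y) = n) : out X = n := by
  rw [out_congr e]
  exact h

end gen

theorem center_bot' {K : Type*} [Group K] [Finite K] [IsSimpleGroup K] (h4 : 4 ∣ Nat.card K) : center K = ⊥ := by
  rcases (inferInstance : (center K).Normal).eq_bot_or_eq_top with h | h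
  · exact h
  · exfalso
    have hc : ∀ a b : K, a * b = b * a := fun a b => (mem_center_iff.1 (h ▸ mem_top a : a ∈ center K) b).symm
    have : Fact (Nat.Prime 2) := ⟨Nat.prime_two⟩
    obtain ⟨x, hx⟩ := exists_prime_orderOf_dvd_card' (G := K) 2 (dvd_trans (by norm_num) h4)
    have hn : (zpowers x).Normal := ⟨fun n hn g => by rw [hc g n, mul_inv_cancel_right]; exact hn⟩
    rcases hn.eq_bot_or_eq_top with h1 | h1
    · rw [zpowers_eq_bot] at h1
      rw [h1, orderOf_one] at hx
      omega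
    · have h2 : Nat.card K = 2 := by
        rw [← Subgroup.card_top, ← h1, Nat.card_zpowers, hx]
      rw [h2] at h4
      omega

theorem row_of_data {K : Type*} [Group K] [Finite K] [IsSimpleGroup K] (hsc : SC K) (ho : out K ≤ 2)
    (h4 : 4 ∣ Nat.card K) (h : EvT K) : Row K :=
  row_of_evT (center_bot' h4) hsc ho h4 h

theorem sc_m11 {G : Type*} [Group G] [Finite G] [IsSimpleGroup G] (h : Spor.IsoM11 G) : SC G := by
  have hc := NotCT.Orders.m11 h
  exact SC.of_card (r := 11) (by norm_num) (by rw [hc]; norm_num) fun x hx =>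
    SporadicA.M11Sylow.card_centralizer_eleven (⟨inferInstance, hc⟩ : IsM11 G) hx

theorem sc_m12 {G : Type*} [Group G] [Finite G] [IsSimpleGroup G] (h : Spor.IsoM12 G) : SC G := by
  have hc := NotCT.Orders.m12 h
  have : Fact (Nat.Prime 11) := ⟨by norm_num⟩
  exact SC.of_sylow' (r := 11) (by rw [hc]; norm_num) (by rw [hc]; norm_num)
    (fun P => MTwelve.SylowEleven.centralizer_sylow11 hc P)

theorem sc_m22 {G : Type*} [Group G] [Finite G] [IsSimpleGroup G] (h : Spor.IsoM22 G) : SC G := by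
  have hc := NotCT.Orders.m22 h
  have : Fact (Nat.Prime 11) := ⟨by norm_num⟩
  exact SC.of_sylow' (r := 11) (by rw [hc]; norm_num) (by rw [hc]; norm_num)
    (fun P => (M22.Sylow11.sylow_eleven hc P).1)

theorem sc_m23 {G : Type*} [Group G] [Finite G] [IsSimpleGroup G] (h : Spor.IsoM23 G) : SC G := by
  have hc := NotCT.Orders.m23 h
  have : Fact (Nat.Prime 23) := ⟨by norm_num⟩
  exact SC.of_sylow' (r := 23) (by rw [hc]; norm_num) (by rw [hc]; norm_num)
    (fun P => M23.Sylow23.centralizer_eq hc P)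

theorem sc_m24 {G : Type*} [Group G] [Finite G] [IsSimpleGroup G] (h : Spor.IsoM24 G) : SC G := by
  have hc := NotCT.Orders.m24 h
  have : Fact (Nat.Prime 23) := ⟨by norm_num⟩
  exact SC.of_sylow' (r := 23) (by rw [hc]; norm_num) (by rw [hc]; norm_num)
    (fun P => SporadicA.M24.Sylow23.centralizer_eq hc P)

theorem row_m11 (K : Type u) [Group K] [Finite K] [IsSimpleGroup K] (h : Spor.IsoM11 K) : Row K := by
  refine row_of_data (sc_m11 h) ?_ (by rw [NotCT.Orders.m11 h]; norm_num)
    (EvT.of_charTwo (OddHalf.Small.M11.charTwo_of_iso h))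
  obtain ⟨e⟩ := h
  rw [out_of e S2060.result]
  norm_num

theorem row_m22 (K : Type u) [Group K] [Finite K] [IsSimpleGroup K] (h : Spor.IsoM22 K) : Row K := by
  refine row_of_data (sc_m22 h) ?_ (by rw [NotCT.Orders.m22 h]; norm_num)
    (EvT.of_charTwo (OddHalf.Small.Mathieu.m22 h))
  obtain ⟨e⟩ := h
  rw [out_of e S2062.result]

theorem row_m23 (K : Type u) [Group K] [Finite K] [IsSimpleGroup K] (h : Spor.IsoM23 K) : Row K := by
  refine row_of_data (sc_m23 h) ?_ (by rw [NotCT.Orders.m23 h]; norm_num)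
    (EvT.of_charTwo (OddHalf.Small.Mathieu.m23 h))
  obtain ⟨e⟩ := h
  rw [out_of e S2063.result]
  norm_num

theorem row_m24 (K : Type u) [Group K] [Finite K] [IsSimpleGroup K] (h : Spor.IsoM24 K) : Row K := by
  refine row_of_data (sc_m24 h) ?_ (by rw [NotCT.Orders.m24 h]; norm_num)
    (EvT.of_charTwo (OddHalf.Small.M24Char.m24 h))
  obtain ⟨e⟩ := h
  rw [out_of e S2064.result]
  norm_num

theorem row_j3 (K : Type u) [Group K] [Finite K] [IsSimpleGroup K] (h : Spor.IsoJ3 K) : Row K := by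
  refine row_of_data (sc_j3 h) ?_ (by rw [NotCT.Orders.j3 h]; norm_num)
    (EvT.of_charTwo (OddHalf.Small.J3.j3 K h))
  obtain ⟨F, i1, i2, ω, hF, hω, ⟨e⟩⟩ := h
  rw [out_of e (S2067.result hF ω hω)]

end Cfsg.Agent.H184.PD
end

-- part: H184/PD/Large
section
set_option linter.all false
open scoped Cfsg.Agent.FastGrp

/-!
# S4246: `EvT` from a large extraspecial subgroup, from the classes of involutions (helper184)
-/

set_option autoImplicit false
set_option linter.unusedSectionVars false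

namespace Cfsg.Agent.H184.PD

open Subgroup Cfsg.Agent.H160.PD Cfsg.Agent.H524.SporTool

variable {G : Type*} [Group G] [Finite G]

/-- a subgroup of odd index contains a Sylow `2`-subgroup -/
theorem exists_sylow_le {p : ℕ} [hp : Fact p.Prime] {C : Subgroup G} (hi : ¬ p ∣ C.index) :
    ∃ T : Sylow p G, (T : Subgroup G) ≤ C := by
  obtain ⟨P⟩ : Nonempty (Sylow p C) := inferInstance
  have hA2 : IsPGroup p ↥((P : Subgroup C).map C.subtype) := P.2.map _
  obtain ⟨T, hT⟩ := hA2.exists_le_sylow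
  refine ⟨T, ?_⟩
  have h1 : v p C = v p G := by
    have h2 := Subgroup.card_mul_index C
    have h3 : C.index ≠ 0 := index_ne_zero_of_finite
    have h4 := congrArg (fun n => n.factorization p) h2
    simp only [Nat.factorization_mul Nat.card_pos.ne' h3, Finsupp.add_apply] at h4
    rw [Nat.factorization_eq_zero_of_not_dvd hi, add_zero] at h4
    exact h4
  have h5 : Nat.card ↥((P : Subgroup C).map C.subtype) = p ^ v p G := by
    rw [← h1, ← P.card_eq_multiplicity]
    exact (Nat.card_congr ((P : Subgroup C).equivMapOfInjective _ (subtype_injective _)).toEquiv).symm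
  have h6 : Nat.card (T : Subgroup G) = p ^ v p G := T.card_eq_multiplicity
  have h7 : (P : Subgroup C).map C.subtype = (T : Subgroup G) := eq_of_le_of_card_ge hT (by rw [h5, h6])
  rw [← h7]
  exact map_subtype_le _

/-- a `2`-central involution is conjugate to a central element of a given Sylow subgroup -/
theorem conj_central {p : ℕ} [hp : Fact p.Prime] (T : Sylow p G) {t : G}
    (hi : ¬ p ∣ (centralizer ({t} : Set G)).index) : ∃ g : G, ∀ x ∈ (T : Subgroup G), x * (g * t * g⁻¹) = g * t * g⁻¹ * x := by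
  obtain ⟨T', hT'⟩ := exists_sylow_le hi
  obtain ⟨g, hg⟩ := MulAction.exists_smul_eq G T' T
  refine ⟨g, fun x hx => ?_⟩
  have hx' : g⁻¹ * x * g ∈ (T' : Subgroup G) := by
    rw [← hg, Sylow.coe_subgroup_smul] at hx
    have := Subgroup.mem_pointwise_smul_iff_inv_smul_mem.1 hx
    rw [← map_inv, MulAut.smul_def, MulAut.conj_apply, inv_inv] at this
    exact this
  have h1 := mem_centralizer_singleton_iff.1 (hT' hx')
  calc x * (g * t * g⁻¹) = g * (g⁻¹ * x * g * t) * g⁻¹ := by group
    _ = g * (t * (g⁻¹ * x * g)) * g⁻¹ := by rw [h1]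
    _ = g * t * g⁻¹ * x := by group

/-- **From a normal `2`-subgroup `Q` of `C(z)` with `C(Q) ∩ C(z)` small.** -/
theorem EvT.of_cent {Q : Subgroup G} {z : G} (hz : orderOf z = 2) (hi : ¬ 2 ∣ (centralizer ({z} : Set G)).index)
    (hQ : IsPGroup 2 Q) (hzQ : z ∈ Q) (hn : ∀ c, c * z = z * c → ∀ q ∈ Q, c * q * c⁻¹ ∈ Q)
    (hc : ∀ c, c * z = z * c → (∀ q ∈ Q, c * q = q * c) → c = 1 ∨ c = z ∨ c * c = z) : EvT G := by
  have : Fact (Nat.Prime 2) := ⟨Nat.prime_two⟩
  have hz2 : z * z = 1 := by rw [← pow_two, ← hz, pow_orderOf_eq_one]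
  have hz1 : z ≠ 1 := by
    rintro rfl
    rw [orderOf_one] at hz
    omega
  have h4 : ∀ c : G, c = 1 ∨ c = z ∨ c * c = z → c ^ 2 ^ 2 = 1 := by
    intro x hx
    have h1 : x ^ 2 ^ 2 = (x * x) * (x * x) := by
      rw [show 2 ^ 2 = 4 by norm_num]
      simp only [pow_succ, pow_zero, one_mul, mul_assoc]
    rcases hx with h | h | h
    · rw [h, one_pow]
    · rw [h1, h, hz2, one_mul]
    · rw [h1, h, hz2]
  have hat : At2 z := ⟨Q, hQ, hn, fun g hg hgq => ⟨2, h4 g (hc g hg hgq)⟩⟩
  refine EvT.of_conj hat fun t ht hit => ?_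
  obtain ⟨T, hT⟩ := exists_sylow_le hi
  have hQT : Q ≤ T := le_of_norm T hQ fun s hs q hq => hn s (mem_centralizer_singleton_iff.1 (hT hs)) q hq
  obtain ⟨g, hg⟩ := conj_central T hit
  have htt : t * t = 1 := by rw [← pow_two, ← ht, pow_orderOf_eq_one]
  rcases hc (g * t * g⁻¹) (hg z (hQT hzQ)).symm fun x hx => (hg x (hQT hx)).symm with h1 | h1 | h1
  · exfalso
    have h2 : t = 1 := by
      have h3 : t = g⁻¹ * (g * t * g⁻¹) * g := by group
      rw [h3, h1]; group
    rw [h2, orderOf_one] at ht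
    omega
  · exact (isConj_iff.2 ⟨g, h1⟩).symm
  · exfalso
    apply hz1
    rw [← h1]
    calc g * t * g⁻¹ * (g * t * g⁻¹) = g * (t * t) * g⁻¹ := by group
      _ = 1 := by rw [htt]; group

/-- a Sylow subgroup centralizing `z` -/
theorem not_dvd_of_sylow {p : ℕ} [hp : Fact p.Prime] {z : G} (T : Sylow p G) (h : ∀ s ∈ T, s * z = z * s) :
    ¬ p ∣ (centralizer ({z} : Set G)).index := by
  intro hd
  have h1 : (T : Subgroup G) ≤ centralizer ({z} : Set G) := fun s hs => mem_centralizer_singleton_iff.2 (h s hs)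
  exact T.not_dvd_index (hd.trans (index_dvd_of_le h1))

/-- **From a large extraspecial subgroup.** -/
theorem EvT.of_large {Q : Subgroup G} {z : G} (h : Co2Type.Quad.Large Q z)
    (hi : ¬ 2 ∣ (centralizer ({z} : Set G)).index) : EvT G := by
  have : Fact (Nat.Prime 2) := ⟨Nat.prime_two⟩
  have hQ4 : ∀ x ∈ Q, x ^ 2 ^ 2 = 1 := by
    intro x hx
    have h1 : x ^ 2 ^ 2 = (x * x) * (x * x) := by
      rw [show 2 ^ 2 = 4 by norm_num]
      simp only [pow_succ, pow_zero, one_mul, mul_assoc]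
    rcases h.sq x hx with h2 | h2
    · rw [h1, h2, one_mul]
    · rw [h1, h2, h.z_sq]
  have hQ : IsPGroup 2 Q := fun x => ⟨2, Subtype.ext (hQ4 x x.2)⟩
  have hz2 : orderOf z = 2 := orderOf_eq_prime (by rw [pow_two, h.z_sq]) h.z_ne
  have hat : At2 z := ⟨Q, hQ, h.conj_mem, fun g hg hgq => ⟨2, hQ4 g (h.self g hg hgq)⟩⟩
  refine EvT.of_conj hat fun t ht hit => ?_
  obtain ⟨T, hT⟩ := exists_sylow_le hi
  have hQT : Q ≤ T := le_of_norm T hQ fun s hs q hq =>
    h.conj_mem s (mem_centralizer_singleton_iff.1 (hT hs)) q hq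
  obtain ⟨g, hg⟩ := conj_central T hit
  have hc : g * t * g⁻¹ * z = z * (g * t * g⁻¹) := (hg z (hQT h.z_mem)).symm
  have hm : g * t * g⁻¹ ∈ Q := h.self _ hc fun x hx => (hg x (hQT hx)).symm
  have h1 := h.cent _ hm fun x hx => (hg x (hQT hx)).symm
  rcases h1 with h1 | h1
  · exfalso
    have h2 : t = 1 := by
      have h3 : t = g⁻¹ * (g * t * g⁻¹) * g := by group
      rw [h3, h1]; group
    rw [h2, orderOf_one] at ht
    omega
  · exact (isConj_iff.2 ⟨g, h1⟩).symm

/-- the `2`-part of the index from the orders -/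
theorem not_dvd_index_of {p : ℕ} {C : Subgroup G} (a b : ℕ) (hC : Nat.card C = a) (hG : Nat.card G = a * b)
    (hb : ¬ p ∣ b) : ¬ p ∣ C.index := by
  have h1 := Subgroup.card_mul_index C
  rw [hC, hG] at h1
  have h2 : 0 < a := by rw [← hC]; exact Nat.card_pos
  rwa [Nat.eq_of_mul_eq_mul_left h2 h1]

end Cfsg.Agent.H184.PD
end

-- part: H184/PD/RowsB
section
set_option linter.all false
open scoped Cfsg.Agent.FastGrp

/-!
# S4246: the rows `M₁₂`, `J₂`, `HS`, `He` (helper184)
-/

set_option autoImplicit false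
set_option linter.unusedSectionVars false

namespace Cfsg.Agent.H184.PD

open Subgroup Cfsg Cfsg.Agent.H160.PD Cfsg.Agent.H524.SporTool

universe u

theorem evT_m12 {K : Type*} [Group K] [Finite K] (h : Spor.IsoM12 K) : EvT K := by
  have hc := NotCT.Orders.m12 h
  obtain ⟨e⟩ := h
  have : Finite Spor.M12 := Finite.of_equiv K e.toEquiv
  refine EvT.congr e.symm (EvT.of_large Cfsg.Agent.H330.MTw.large ?_)
  refine not_dvd_index_of 192 495 Cfsg.Agent.CoThreeStd.MTwelve.card_cent_v ?_ (by norm_num)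
  rw [← Nat.card_congr e.toEquiv, hc]

theorem row_m12 (K : Type u) [Group K] [Finite K] [IsSimpleGroup K] (h : Spor.IsoM12 K) : Row K := by
  refine row_of_data (sc_m12 h) ?_ (by rw [NotCT.Orders.m12 h]; norm_num) (evT_m12 h)
  obtain ⟨e⟩ := h
  rw [out_of e S2061.result]

theorem evT_j2 {K : Type*} [Group K] [Finite K] (h : Spor.IsoJ2 K) : EvT K := by
  obtain ⟨t, u, Q, v, ρ, D⟩ := Cfsg.Agent.KFacts.J2.Facts.exists_dat_of h
  have hL := Cfsg.Agent.KFacts.J3Sheet.large D.cardC D.M
  refine EvT.of_large hL (not_dvd_index_of 1920 315 D.cardC ?_ (by norm_num))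
  rw [D.card]

theorem row_j2 (K : Type u) [Group K] [Finite K] [IsSimpleGroup K] (h : Spor.IsoJ2 K) : Row K := by
  refine row_of_data (sc_j2 h) ?_ (by rw [NotCT.Orders.j2 h]; norm_num) (evT_j2 h)
  obtain ⟨e⟩ := h
  rw [out_of e S2066.result]

theorem evT_hs {K : Type*} [Group K] [Finite K] (h : Spor.IsoHS K) : EvT K := by
  have hp2 : Fact (Nat.Prime 2) := ⟨Nat.prime_two⟩
  obtain ⟨D⟩ := Cfsg.Agent.KFacts.HS.exists_mod h
  obtain ⟨T, hT⟩ := Cfsg.Agent.KFacts.HS.DFour.cen D
  exact EvT.of_cent (orderOf_eq_prime (by rw [pow_two, Cfsg.Agent.KFacts.HS.DFour.zA_sq])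
    (Cfsg.Agent.KFacts.HS.DFour.zA_ne D)) (not_dvd_of_sylow T hT) (Cfsg.Agent.KFacts.HS.DFour.RL_pGroup D)
    (Cfsg.Agent.KFacts.HS.DFour.zA_mem_RL D) (fun c hc q hq => Cfsg.Agent.KFacts.HS.DFour.RL_norm D hc hq)
    (fun c hc h => Cfsg.Agent.KFacts.HS.DFour.cent_RL D hc h)

theorem row_hs (K : Type u) [Group K] [Finite K] [IsSimpleGroup K] (h : Spor.IsoHS K) : Row K := by
  refine row_of_data (H524.RegSpor.sc_hs h) ?_ (by rw [NotCT.Orders.hs h]; norm_num) (evT_hs h)
  obtain ⟨e⟩ := h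
  rw [out_of e S2072.result]

theorem evT_he {K : Type*} [Group K] [Finite K] (h : Spor.IsoHe K) : EvT K := by
  obtain ⟨e⟩ := h
  have hfin := Cfsg.Agent.KFacts.He.Hyp.finHe
  obtain ⟨R, E, E', S⟩ := Cfsg.Agent.CTwoTab.He.sheet_z
  refine EvT.congr e.symm (EvT.of_cent (Q := R) (z := Cfsg.Agent.CTwoTab.He.z) ?_ ?_ ?_ ?_ ?_ ?_)
  · exact orderOf_eq_prime (by rw [pow_two, S.zz]) S.z1
  · refine not_dvd_index_of 21504 187425 Cfsg.Agent.KFacts.He.Classes.card_centralizer ?_ (by norm_num)
    rw [Cfsg.Agent.KFacts.He.Classes.card_he]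
  · rw [IsPGroup.iff_card]
    exact ⟨7, by rw [S.cardR]; norm_num⟩
  · exact S.h1.ER S.h1.zE
  · intro c hc r hr
    exact S.norR c (Cfsg.Agent.CTwoTab.He.mem_range (mem_centralizer_singleton_iff.2 hc)) r hr
  · intro c hc hcr
    rcases S.cR c (Cfsg.Agent.CTwoTab.He.mem_range (mem_centralizer_singleton_iff.2 hc)) hcr with h | h
    · exact Or.inl h
    · exact Or.inr (Or.inl h)

theorem row_he (K : Type u) [Group K] [Finite K] [IsSimpleGroup K] (h : Spor.IsoHe K) : Row K := by
  refine row_of_data (sc_he h) ?_ (by rw [NotCT.Orders.he h]; norm_num) (evT_he h)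
  obtain ⟨e⟩ := h
  rw [out_of e S2075.result]

end Cfsg.Agent.H184.PD
end

-- part: H184/PD/RowsC_mg
section
set_option linter.all false
open scoped Cfsg.Agent.FastGrp

-- part: H184/PD/RowsC
section
/-!
# S4246: the rows `J₁`, `McL` (helper184)
-/

set_option autoImplicit false
set_option linter.unusedSectionVars false

namespace Cfsg.Agent.H184.PD

open Subgroup Cfsg Cfsg.Agent.H160.PD Cfsg.Agent.H524.SporTool

universe u

section gen

variable {G : Type*} [Group G] [Finite G]

/-- the `2`-part of a subgroup is the `2`-part of the centralizer in it of one of its involutions -/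
theorem exists_inv_central {C : Subgroup G} (h : 2 ∣ Nat.card C) :
    ∃ z ∈ C, orderOf z = 2 ∧ v 2 ↥(C ⊓ centralizer ({z} : Set G)) = v 2 C := by
  have hp2 : Fact (Nat.Prime 2) := ⟨Nat.prime_two⟩
  obtain ⟨P⟩ : Nonempty (Sylow 2 C) := inferInstance
  have hP : Nat.card P = 2 ^ v 2 C := P.card_eq_multiplicity
  have hv : 0 < v 2 C := (v_pos Nat.prime_two).2 h
  have hne : (⊤ : Subgroup P) ≠ ⊥ := by
    intro h0
    have h1 : Nat.card P = 1 := by rw [← Subgroup.card_top, h0, Subgroup.card_bot]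
    rw [hP] at h1
    have := (Nat.pow_eq_one.1 h1).resolve_left (by norm_num)
    omega
  obtain ⟨⟨z, hzP⟩, -, hzc, hz2⟩ := Transfer.PGroupNormal.exists_mem_inf_center_orderOf P.2 ⊤ hne
  rw [Subgroup.orderOf_mk] at hz2
  refine ⟨z, z.2, by rw [Subgroup.orderOf_coe, hz2], ?_⟩
  apply le_antisymm (v_mono inf_le_left 2)
  have h1 : (P : Subgroup C).map C.subtype ≤ C ⊓ centralizer ({(z : G)} : Set G) := by
    rintro _ ⟨x, hx, rfl⟩
    refine ⟨x.2, mem_centralizer_singleton_iff.2 ?_⟩
    have h2 := mem_center_iff.1 hzc ⟨x, hx⟩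
    exact congrArg (fun y : P => (((y : C)) : G)) h2
  have h2 := card_dvd_of_le h1
  have h3 : Nat.card ↥((P : Subgroup C).map C.subtype) = 2 ^ v 2 C := by
    rw [← hP]
    exact (Nat.card_congr ((P : Subgroup C).equivMapOfInjective _ (subtype_injective _)).toEquiv).symm
  rw [h3] at h2
  exact (Nat.prime_two.pow_dvd_iff_le_factorization Nat.card_pos.ne').1 h2

open Cfsg.Agent.TypeM.Two in
/-- the `2`-part of `C(g) ∩ C(t)`, `C(t) = 2.A_n` -/
theorem v_le_of_mt {n : ℕ} (L : MT n G) {g : G} (hg : g * L.t = L.t * g) :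
    v 2 ↥(centralizer ({g} : Set G) ⊓ centralizer ({L.t} : Set G)) ≤
      v 2 ↥(centralizer ({L.K.π ⟨g, L.mem_iff.2 hg⟩} : Set (Equiv.Perm (Fin n)))) + 1 := by
  set D := centralizer ({g} : Set G) ⊓ centralizer ({L.t} : Set G) with hD
  let ψ : ↥D →* Equiv.Perm (Fin n) := L.K.π.comp (Subgroup.inclusion (inf_le_right : D ≤ _))
  have hr : ψ.range ≤ centralizer ({L.K.π ⟨g, L.mem_iff.2 hg⟩} : Set (Equiv.Perm (Fin n))) := by
    rintro _ ⟨d, rfl⟩
    rw [mem_centralizer_singleton_iff]
    show L.K.π _ * L.K.π _ = L.K.π _ * L.K.π _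
    rw [← map_mul, ← map_mul]
    congr 1
    exact Subtype.ext (mem_centralizer_singleton_iff.1 d.2.1)
  have hk : Nat.card ψ.ker ≤ 2 := by
    have h1 : Nat.card ψ.ker ≤ Nat.card (zpowers L.t) := by
      apply Nat.card_le_card_of_injective (fun x : ψ.ker => (⟨(x : D), by
        rcases (L.K.ker _).1 x.2 with h | h
        · have h2 := congrArg Subtype.val h
          change ((x : D) : G) = 1 at h2
          rw [h2]; exact one_mem _
        · have h2 := congrArg Subtype.val h
          change ((x : D) : G) = _ at h2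
          rw [h2, L.hz]; exact mem_zpowers _⟩ : zpowers L.t))
      intro x y hxy
      have h2 : ((x : D) : G) = ((y : D) : G) := congrArg (fun w : zpowers L.t => (w : G)) hxy
      exact Subtype.ext (Subtype.ext h2)
    rwa [Nat.card_zpowers, L.orderOf_t] at h1
  have h1 : Nat.card D = Nat.card ψ.ker * Nat.card ψ.range := by
    rw [← Subgroup.card_mul_index ψ.ker, Subgroup.index_ker]
  have h2 : v 2 D = v 2 ψ.ker + v 2 ψ.range := by
    simp only [v]
    rw [h1, Nat.factorization_mul Nat.card_pos.ne' Nat.card_pos.ne', Finsupp.add_apply]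
  have h3 : v 2 ψ.ker ≤ 1 := by
    have h4 : 0 < Nat.card ψ.ker := Nat.card_pos
    have h5 : Nat.card ψ.ker = 1 ∨ Nat.card ψ.ker = 2 := by omega
    simp only [v]
    rcases h5 with h5 | h5
    · rw [h5]; simp
    · rw [h5, Nat.prime_two.factorization]; simp
  have h4 := v_mono hr 2
  omega

end gen

/-- the elements of odd prime order of `Perm (Fin 8)` -/
theorem v_perm_eight {σ : Equiv.Perm (Fin 8)} (h : (orderOf σ).Prime) (h2 : orderOf σ ≠ 2) :
    v 2 ↥(centralizer ({σ} : Set (Equiv.Perm (Fin 8)))) ≤ 4 := by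
  have hF : Fact (orderOf σ).Prime := ⟨h⟩
  obtain ⟨n, hn⟩ := Equiv.Perm.cycleType_prime_order h
  have h3 := Equiv.Perm.nat_card_centralizer σ
  have h4 := Equiv.Perm.sum_cycleType_le σ
  rw [hn] at h3 h4
  rw [Multiset.sum_replicate, smul_eq_mul, Fintype.card_fin] at h4
  rw [Multiset.sum_replicate, smul_eq_mul, Multiset.prod_replicate, Fintype.card_fin] at h3
  obtain ⟨p, hp⟩ : ∃ p, p = orderOf σ := ⟨_, rfl⟩
  rw [← hp] at h h2 h3 h4
  have h5 : 3 ≤ p := by
    have := h.two_le
    omega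
  have h6 : n + 1 ≤ 2 := by
    by_contra hcon
    push Not at hcon
    have : 3 * 3 ≤ (n + 1) * p := Nat.mul_le_mul hcon h5
    omega
  have h7 : p ≤ 8 := by
    have : 1 * p ≤ (n + 1) * p := Nat.mul_le_mul_right _ (by omega)
    omega
  have h8 : (Multiset.replicate (n + 1) p).toFinset = {p} := by
    rw [Multiset.toFinset_replicate]
    simp
  rw [h8, Finset.prod_singleton, Multiset.count_replicate_self] at h3
  simp only [v]
  rw [h3]
  clear h3 hn h8 hF
  by_contra hcon
  push Not at hcon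
  have h9 : n = 0 ∨ n = 1 := by omega
  have h10 := (Nat.prime_two.pow_dvd_iff_le_factorization (by positivity)).2 hcon
  rcases h9 with rfl | rfl
  · interval_cases p
    all_goals first
      | (revert h10; decide)
      | (revert h; norm_num)
  · have h11 : p ≤ 4 := by omega
    interval_cases p
    all_goals first
      | (revert h10; decide)
      | (revert h; norm_num)

/-- the `2`-index of `C(g)` in `McL` -/
theorem lt_mcl {K : Type*} [Group K] [Finite K] (hc : Nat.card K = 898128000) (L : TypeM.Two.MT 8 K) {g : K}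
    (hg : (orderOf g).Prime) (hg2 : orderOf g ≠ 2) : v 2 (centralizer ({g} : Set K)) + 1 < v 2 K := by
  have hK : 7 ≤ v 2 K := by
    rw [← Nat.prime_two.pow_dvd_iff_le_factorization Nat.card_pos.ne', hc]
    norm_num
  by_cases h2 : 2 ∣ Nat.card (centralizer ({g} : Set K))
  · obtain ⟨z, hzC, hz2, hv⟩ := exists_inv_central h2
    obtain ⟨L', rfl⟩ := L.exists_rebase (s := z) (by rw [← pow_two, ← hz2, pow_orderOf_eq_one]) (by
      rintro rfl
      rw [orderOf_one] at hz2
      omega)
    have hgt : g * L'.t = L'.t * g := (mem_centralizer_singleton_iff.1 hzC).symm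
    have h3 := v_le_of_mt L' hgt
    have h4 : orderOf (L'.K.π ⟨g, L'.mem_iff.2 hgt⟩) = orderOf g := by
      have h5 : orderOf (L'.K.π ⟨g, L'.mem_iff.2 hgt⟩) ∣ orderOf g := by
        have := orderOf_map_dvd L'.K.π ⟨g, L'.mem_iff.2 hgt⟩
        rwa [Subgroup.orderOf_mk] at this
      rcases (Nat.dvd_prime hg).1 h5 with h6 | h6
      · exfalso
        rw [orderOf_eq_one_iff] at h6
        rcases (L'.K.ker _).1 h6 with h7 | h7
        · have h8 : g = 1 := congrArg Subtype.val h7
          rw [h8, orderOf_one] at hg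
          exact Nat.not_prime_one hg
        · have h8 : g = L'.t := (congrArg Subtype.val h7).trans L'.hz
          rw [h8, L'.orderOf_t] at hg2
          exact hg2 rfl
      · exact h6
    have h5 := v_perm_eight (σ := L'.K.π ⟨g, L'.mem_iff.2 hgt⟩) (by rwa [h4]) (by rwa [h4])
    omega
  · have h3 := v_eq_zero h2
    omega

theorem row_mcl (K : Type u) [Group K] [Finite K] [IsSimpleGroup K] (h : Spor.IsoMcL K) : Row K := by
  have hc := NotCT.Orders.mcl h
  obtain ⟨-, -, -, ⟨L⟩⟩ := TypeM.FactsMcL.facts h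
  have h4 : 4 ∣ Nat.card K := by rw [hc]; norm_num
  have ho : out K = 2 := by
    obtain ⟨e⟩ := h
    exact out_of e S2073.result
  refine row_of_sc' (center_bot' h4) (H524.RegSpor.sc_mcl h) ho.le h4 fun g hg hg2 => ?_
  have h1 := lt_mcl hc L hg hg2
  rw [ho, Nat.prime_two.factorization, Finsupp.single_eq_same]
  exact h1

theorem row_j1 (K : Type u) [Group K] [Finite K] [IsSimpleGroup K] (h : Spor.IsoJ1 K) : Row K := by
  have hc := NotCT.Orders.j1 h
  have h4 : 4 ∣ Nat.card K := by rw [hc]; norm_num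
  have hZ := center_bot' (K := K) h4
  obtain ⟨e⟩ := h
  have hfin : Finite Spor.J1 := Finite.of_equiv K e.toEquiv
  have c2 : ∀ t : K, orderOf t = 2 → Nat.card (centralizer ({t} : Set K)) = 120 := by
    intro t ht
    rw [← card_centralizer_equiv e]
    exact SporRec.J1.EqTopC.card_cent2 H413.JOneLocal.isLocal _ (by rw [MulEquiv.orderOf_eq, ht])
  have c3 : ∀ t : K, orderOf t = 3 → Nat.card (centralizer ({t} : Set K)) = 30 := by
    intro t ht
    rw [← card_centralizer_equiv e]
    exact H413.JOneLocal.isLocal.cent3 _ (by rw [MulEquiv.orderOf_eq, ht])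
  have c5 : ∀ t : K, orderOf t = 5 → Nat.card (centralizer ({t} : Set K)) = 30 := by
    intro t ht
    rw [← card_centralizer_equiv e]
    exact H413.JOneLocal.isLocal.cent5 _ (by rw [MulEquiv.orderOf_eq, ht])
  have hna : ¬ ∀ a b : K, a * b = b * a := by
    intro hab
    have h1 : center K = ⊤ := by
      rw [eq_top_iff]
      intro a _
      rw [mem_center_iff]
      exact fun b => hab b a
    rw [hZ] at h1
    have h2 : Nat.card K = 1 := by rw [← Subgroup.card_top, ← h1, Subgroup.card_bot]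
    omega
  have hsc : SC K := SC.of_card (r := 7) (by norm_num) (by rw [hc]; norm_num) fun x hx => card_seven_j1 hna hc c2 c3 c5 hx
  have ho : out K = 1 := out_of e S2065.result
  have hK : 3 ≤ v 2 K := by
    rw [← Nat.prime_two.pow_dvd_iff_le_factorization Nat.card_pos.ne', hc]
    norm_num
  refine row_of_sc' hZ hsc (by omega) h4 fun g hg hg2 => ?_
  rw [ho, Nat.factorization_one, Finsupp.zero_apply, add_zero]
  have h30 : (30 : ℕ).factorization 2 ≤ 1 := by
    by_contra hcon
    push Not at hcon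
    have := (Nat.prime_two.pow_dvd_iff_le_factorization (by norm_num : (30 : ℕ) ≠ 0)).2 hcon
    norm_num at this
  by_cases h2 : 2 ∣ Nat.card (centralizer ({g} : Set K))
  · obtain ⟨z, hzC, hz2, -⟩ := exists_inv_central h2
    have hgz : g ∈ centralizer ({z} : Set K) :=
      mem_centralizer_singleton_iff.2 (mem_centralizer_singleton_iff.1 hzC).symm
    have hd : orderOf g ∣ 120 := by
      rw [← c2 z hz2]
      exact (Subgroup.orderOf_mk g hgz) ▸ orderOf_dvd_natCard (⟨g, hgz⟩ : centralizer ({z} : Set K))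
    have h5 : orderOf g = 3 ∨ orderOf g = 5 := by
      rw [show (120 : ℕ) = 2 ^ 3 * (3 * 5) by norm_num, hg.dvd_mul, hg.dvd_mul] at hd
      rcases hd with hd | hd | hd
      · exact absurd ((Nat.prime_dvd_prime_iff_eq hg Nat.prime_two).1 (hg.dvd_of_dvd_pow hd)) hg2
      · exact Or.inl ((Nat.prime_dvd_prime_iff_eq hg (by norm_num)).1 hd)
      · exact Or.inr ((Nat.prime_dvd_prime_iff_eq hg (by norm_num)).1 hd)
    have h6 : Nat.card (centralizer ({g} : Set K)) = 30 := by
      rcases h5 with h5 | h5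
      · exact c3 g h5
      · exact c5 g h5
    have h7 : v 2 (centralizer ({g} : Set K)) = (30 : ℕ).factorization 2 := by
      simp only [v]
      rw [h6]
    omega
  · have h3 := v_eq_zero h2
    omega

end Cfsg.Agent.H184.PD
end

-- part: H583/ImcNoCent
section
/-!
# `NoCent 2 G` from the centralizer of a Sylow 2-subgroup (helper583)
-/

set_option autoImplicit false

open Cfsg

namespace Cfsg.Agent.H583.ImcNoCent

open Cfsg.Agent.H625.SylConst

universe u

/-- An element of order prime to `p` whose centralizer has full `p`-part centralizes a Sylow `p`-subgroup. -/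
theorem noCent_of_sylow {K : Type u} [Group K] [Finite K] {p : ℕ} [hp : Fact p.Prime]
    (h : ∀ T : Sylow p K, ∀ x : K, (∀ a ∈ (T : Subgroup K), a * x = x * a) → ¬ p ∣ orderOf x → x = 1) :
    Cfsg.Agent.H661.SC.NoCent p K := by
  intro g hg hle
  set C : Subgroup K := Subgroup.centralizer ({g} : Set K) with hC
  obtain ⟨P⟩ : Nonempty (Sylow p C) := inferInstance
  have h1 : IsPGroup p ((P : Subgroup C).map C.subtype) := P.isPGroup'.map _
  obtain ⟨T, hT⟩ := h1.exists_le_sylow
  have hcP : Nat.card ((P : Subgroup C).map C.subtype) = p ^ (Nat.card C).factorization p := by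
    rw [← P.card_eq_multiplicity]
    exact (Nat.card_congr ((P : Subgroup C).equivMapOfInjective _ C.subtype_injective).toEquiv).symm
  have hcT : Nat.card (T : Subgroup K) = p ^ (Nat.card K).factorization p := T.card_eq_multiplicity
  have hle2 : Nat.card (T : Subgroup K) ≤ Nat.card ((P : Subgroup C).map C.subtype) := by
    rw [hcP, hcT]
    exact Nat.pow_le_pow_right hp.out.pos hle
  have heq : (P : Subgroup C).map C.subtype = (T : Subgroup K) := Subgroup.eq_of_le_of_card_ge hT hle2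
  refine h T g ?_ hg
  intro a ha
  rw [← heq] at ha
  obtain ⟨c, -, rfl⟩ := Subgroup.mem_map.1 ha
  exact Subgroup.mem_centralizer_singleton_iff.1 c.2

theorem noCent_of_CT {K : Type u} [Group K] [Finite K] (h : Cfsg.Agent.H633.CentTwo.CT K) :
    Cfsg.Agent.H661.SC.NoCent 2 K := by
  have hf : Fact (Nat.Prime 2) := ⟨Nat.prime_two⟩
  refine noCent_of_sylow fun T x hx ho => ?_
  exact Cfsg.Agent.H633.CentTwo.eq_one_of_isPGroup (h T)
    (Subgroup.mem_centralizer_iff.2 fun a ha => hx a ha) ho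

end Cfsg.Agent.H583.ImcNoCent
end

-- part: H219/PD/RowsCo
section
/-!
# S4246: the rows `Co₁`, `Co₂`, `Co₃`, `Ru`, `J₄` (helper219)

`|Out| = 1`, a self-centralizing element of prime order, and the centralizer of a Sylow `2`-subgroup is a `2`-group.
-/

set_option autoImplicit false
set_option linter.unusedSectionVars false

namespace Cfsg.Agent.H219.PD

open Subgroup Cfsg Cfsg.Agent.H160.PD Cfsg.Agent.H184.PD Cfsg.Agent.H524.SporTool

universe u

/-- the centralizers of the elements of odd prime order have not the full `2`-part -/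
theorem lt_of_ct {K : Type u} [Group K] [Finite K] (h : H633.CentTwo.CT K) {g : K} (hg : (orderOf g).Prime)
    (hg2 : orderOf g ≠ 2) : v 2 (centralizer ({g} : Set K)) < v 2 K := by
  by_contra hcon
  push Not at hcon
  have h1 := H583.ImcNoCent.noCent_of_CT h g (fun h2 => hg2 ((Nat.prime_dvd_prime_iff_eq Nat.prime_two hg).1 h2).symm)
    hcon
  rw [h1, orderOf_one] at hg
  exact Nat.not_prime_one hg

theorem row_of_ct {K : Type u} [Group K] [Finite K] [IsSimpleGroup K] (hsc : SC K) (ho : out K = 1)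
    (h4 : 4 ∣ Nat.card K) (h : H633.CentTwo.CT K) : Row K := by
  refine row_of_sc' (center_bot' h4) hsc (by omega) h4 fun g hg hg2 => ?_
  rw [ho, Nat.factorization_one, Finsupp.zero_apply, add_zero]
  exact lt_of_ct h hg hg2

theorem row_co1 (K : Type u) [Group K] [Finite K] [IsSimpleGroup K] (h : Spor.IsoCo1 K) : Row K := by
  refine row_of_ct (sc_co1 h) ?_ (by rw [NotCT.Orders.co1 h]; norm_num) (H633.CentTwo.co1 h)
  obtain ⟨e⟩ := h
  exact out_of e S2069.result

theorem row_co2 (K : Type u) [Group K] [Finite K] [IsSimpleGroup K] (h : Spor.IsoCo2 K) : Row K := by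
  refine row_of_ct (sc_co2 h) ?_ (by rw [NotCT.Orders.co2 h]; norm_num) (H633.CentTwo.co2 h)
  obtain ⟨e⟩ := h
  exact out_of e S2070.result

theorem row_co3 (K : Type u) [Group K] [Finite K] [IsSimpleGroup K] (h : Spor.IsoCo3 K) : Row K := by
  refine row_of_ct (sc_co3 h) ?_ (by rw [NotCT.Orders.co3 h]; norm_num) (H633.CentTwo.co3 h)
  obtain ⟨e⟩ := h
  exact out_of e S2071.result

theorem row_ru (K : Type u) [Group K] [Finite K] [IsSimpleGroup K] (h : Spor.IsoRu K) : Row K := by
  refine row_of_ct (sc_ru h) ?_ (by rw [NotCT.Orders.ru h]; norm_num) (H633.CentTwo.ru h)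
  obtain ⟨e⟩ := h
  exact out_of e S2077.result

end Cfsg.Agent.H219.PD
end
end

-- part: H817/PD/OutTwo_mg
section
prune_inst 0x300005007422000000000000000000200000010000000000000001020808000080000000020000000008008000000000000000c0420000000a000000000000000008000000100c00000000000001100000000000000000000000000000000000000000000
set_option linter.all false
open scoped Cfsg.Agent.FastGrp

-- part: H817/PD/OutNum
section
/-!
# The 2-parts of the orders of the groups of Lie type (helper817, for S4246)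

`two_num_ge` : for odd `p` and every shape except `L 2` and `Ree`,
`v₂(num) ≥ 4 + 2 v₂(dd) + v₂(f)`.
-/

set_option autoImplicit false

namespace Cfsg.Agent.H817.PD.OutNum

open Finset Cfsg.Agent.H902.Art

/-- the 2-adic valuation -/
def v (n : ℕ) : ℕ := n.factorization 2

theorem v_mul {a b : ℕ} (ha : a ≠ 0) (hb : b ≠ 0) : v (a * b) = v a + v b := by
  rw [v, Nat.factorization_mul ha hb, Finsupp.add_apply]; rfl

theorem v_le {a b : ℕ} (hb : b ≠ 0) (h : a ∣ b) : v a ≤ v b := by
  have ha : a ≠ 0 := fun h0 => hb (by rw [h0] at h; exact Nat.eq_zero_of_zero_dvd h)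
  exact (Nat.factorization_le_iff_dvd ha hb).2 h 2

theorem v_pow (a n : ℕ) : v (a ^ n) = n * v a := by
  rw [v, Nat.factorization_pow, Finsupp.smul_apply, smul_eq_mul]; rfl

theorem v_two : v 2 = 1 := Nat.prime_two.factorization_self

theorem v_odd {a : ℕ} (ha : Odd a) : v a = 0 :=
  Nat.factorization_eq_zero_of_not_dvd (fun h => (Nat.not_even_iff_odd.2 ha) (even_iff_two_dvd.2 h))

theorem one_le_v {a : ℕ} (ha : a ≠ 0) (h : Even a) : 1 ≤ v a := by
  rw [← v_two]
  exact v_le ha (even_iff_two_dvd.1 h)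

theorem le_v_of_pow_dvd {a k : ℕ} (ha : a ≠ 0) (h : 2 ^ k ∣ a) : k ≤ v a := by
  have := v_le ha h
  rwa [v_pow, v_two, mul_one] at this

theorem v_lt {n : ℕ} (hn : n ≠ 0) : v n < n := Nat.factorization_lt 2 hn

theorem two_mul_v_le {n : ℕ} (hn : n ≠ 0) : 2 * v n ≤ n := by
  have h1 : 2 ^ v n ≤ n := Nat.ordProj_le 2 hn
  have h2 : ∀ k : ℕ, 2 * k ≤ 2 ^ k := by
    intro k
    induction k with
    | zero => simp
    | succ k ih =>
      rcases Nat.eq_zero_or_pos k with rfl | hk
      · norm_num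
      · have : 2 ≤ 2 ^ k := Nat.le_self_pow (by omega) 2 |>.trans le_rfl
        rw [pow_succ]
        omega
  exact (h2 _).trans h1

section odd

variable {p f : ℕ} (hp : 3 ≤ p) (ho : Odd p) (hf : 1 ≤ f)
include hp ho hf

theorem q_ge : 3 ≤ p ^ f := hp.trans (Nat.le_self_pow (by omega) p)

theorem q_odd : Odd (p ^ f) := ho.pow

/-- lifting the exponent -/
theorem v_sq : 3 + v f ≤ v ((p ^ f) ^ 2 - 1) := by
  have hF : Fact (Nat.Prime 2) := ⟨Nat.prime_two⟩
  have h1 : (p ^ f) ^ 2 - 1 = (p ^ 2) ^ f - 1 ^ f := by rw [one_pow, ← pow_mul, ← pow_mul, mul_comm]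
  have h8 : 8 ∣ p ^ 2 - 1 := by
    obtain ⟨k, rfl⟩ := ho
    have h2 : (2 * k + 1) ^ 2 - 1 = 4 * (k * (k + 1)) := by
      have : (2 * k + 1) ^ 2 = 4 * (k * (k + 1)) + 1 := by ring
      rw [this, Nat.add_sub_cancel]
    rw [h2]
    obtain ⟨j, hj⟩ := Nat.even_mul_succ_self k
    exact ⟨j, by rw [hj]; ring⟩
  have hp2 : 1 < p ^ 2 := by nlinarith only [hp]
  have h3 : 3 ≤ v (p ^ 2 - 1) := le_v_of_pow_dvd (by omega) h8
  -- `(p²)^f - 1` : induction over the 2-part of `f`
  have key : ∀ (k : ℕ) (x : ℕ), 1 < x → Odd x → 3 ≤ v (x - 1) → 3 + k ≤ v (x ^ 2 ^ k - 1) := by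
    intro k
    induction k with
    | zero => intro x hx hxo hx3; simpa only [_root_.add_zero, _root_.pow_zero, _root_.pow_one] using hx3
    | succ k ih =>
      intro x hx hxo hx3
      have h4 := ih x hx hxo hx3
      have h5 : 1 < x ^ 2 ^ k := one_lt_pow₀ hx (by positivity)
      have h6 : x ^ 2 ^ (k + 1) - 1 = (x ^ 2 ^ k + 1) * (x ^ 2 ^ k - 1) := by
        have h7 := Nat.sq_sub_sq (x ^ 2 ^ k) 1
        rwa [one_pow, ← pow_mul, ← pow_succ] at h7
      rw [h6, v_mul (by omega) (by omega)]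
      have h8 : 1 ≤ v (x ^ 2 ^ k + 1) := one_le_v (by omega) ((hxo.pow).add_one)
      omega
  have h9 : f = 2 ^ v f * (f / 2 ^ v f) := (Nat.ordProj_mul_ordCompl_eq_self f 2).symm
  have h10 := key (v f) (p ^ 2) hp2 ho.pow h3
  have h11 : (p ^ 2) ^ 2 ^ v f - 1 ∣ (p ^ f) ^ 2 - 1 := by
    rw [h1]
    conv_rhs => rw [h9]
    rw [pow_mul, one_pow]
    have := Nat.sub_dvd_pow_sub_pow ((p ^ 2) ^ 2 ^ v f) 1 (f / 2 ^ v f)
    rwa [one_pow] at this
  have h12 : 1 < (p ^ f) ^ 2 := one_lt_pow₀ (by have := q_ge hp ho hf; omega) (by norm_num)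
  exact h10.trans (v_le (by omega) h11)

theorem v_even {i : ℕ} (hi : i ≠ 0) (he : Even i) : 3 + v f ≤ v ((p ^ f) ^ i - 1) := by
  obtain ⟨j, rfl⟩ := he
  have h1 : (p ^ f) ^ 2 - 1 ∣ (p ^ f) ^ (j + j) - 1 := by
    rw [← two_mul, pow_mul]
    have := Nat.sub_dvd_pow_sub_pow ((p ^ f) ^ 2) 1 j
    rwa [one_pow] at this
  have h2 : 1 < (p ^ f) ^ (j + j) := one_lt_pow₀ (by have := q_ge hp ho hf; omega) hi
  exact (v_sq hp ho hf).trans (v_le (by omega) h1)

theorem v_four : 4 + v f ≤ v ((p ^ f) ^ 4 - 1) := by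
  have h1 : (p ^ f) ^ 4 - 1 = ((p ^ f) ^ 2 + 1) * ((p ^ f) ^ 2 - 1) := by
    have h7 := Nat.sq_sub_sq ((p ^ f) ^ 2) 1
    rwa [one_pow, ← pow_mul] at h7
  have h2 : 1 < (p ^ f) ^ 2 := one_lt_pow₀ (by have := q_ge hp ho hf; omega) (by norm_num)
  rw [h1, v_mul (by omega) (by omega)]
  have h3 : 1 ≤ v ((p ^ f) ^ 2 + 1) := one_le_v (by omega) ((q_odd hp ho hf).pow.add_one)
  have := v_sq hp ho hf
  omega

theorem v_sub {i : ℕ} (hi : i ≠ 0) : 1 ≤ v ((p ^ f) ^ i - 1) := by
  have h2 : 1 < (p ^ f) ^ i := one_lt_pow₀ (by have := q_ge hp ho hf; omega) hi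
  exact one_le_v (by omega) (Nat.Odd.sub_odd (q_odd hp ho hf).pow odd_one)

theorem v_add (i : ℕ) : 1 ≤ v ((p ^ f) ^ i + 1) :=
  one_le_v (by omega) ((q_odd hp ho hf).pow.add_one)

omit hp ho hf in
theorem v_prod {s : Finset ℕ} {g : ℕ → ℕ} (hg : ∀ i ∈ s, g i ≠ 0) : v (∏ i ∈ s, g i) = ∑ i ∈ s, v (g i) := by
  rw [v, Nat.factorization_prod hg, Finset.sum_apply']; rfl

omit hp ho hf in
/-- the lower bound for a product over `range (n - 1)` -/
theorem sum_ge {n : ℕ} (hn : 3 ≤ n) {w : ℕ → ℕ} {c : ℕ} (h0 : 3 + c ≤ w 0) (h2 : 4 + c ≤ w 2) (h1 : ∀ i, 1 ≤ w i) :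
    n + 1 + c ≤ ∑ i ∈ range (n - 1), w i ∧ (4 ≤ n → n + 4 + c ≤ ∑ i ∈ range (n - 1), w i) := by
  obtain ⟨m, rfl⟩ : ∃ m, n = m + 3 := ⟨n - 3, by omega⟩
  induction m with
  | zero =>
    refine ⟨?_, fun h => by omega⟩
    have : ∑ i ∈ range (0 + 3 - 1), w i = w 0 + w 1 := by simp [Finset.sum_range_succ]
    rw [this]
    have := h1 1
    omega
  | succ m ih =>
    obtain ⟨ih1, ih2⟩ := ih (by omega)
    have e : m + 1 + 3 - 1 = (m + 3 - 1) + 1 := by omega
    rw [e, Finset.sum_range_succ]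
    rcases Nat.eq_zero_or_pos m with rfl | hm
    · have e2 : 0 + 3 - 1 = 2 := rfl
      rw [e2] at ih1 ⊢
      exact ⟨by omega, fun _ => by omega⟩
    · have := h1 (m + 3 - 1)
      have := ih2 (by omega)
      exact ⟨by omega, fun _ => by omega⟩

theorem one_lt_pow' {i : ℕ} (hi : i ≠ 0) : 1 < (p ^ f) ^ i :=
  one_lt_pow₀ (by have := q_ge hp ho hf; omega) hi

theorem sub_ne {i : ℕ} (hi : i ≠ 0) : (p ^ f) ^ i - 1 ≠ 0 := by
  have := one_lt_pow' hp ho hf hi
  omega

omit hp ho hf in
theorem v_le_one {a b : ℕ} (hb : b = 2 ∨ b = 3) (h : a ∣ b) : v a ≤ 1 := by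
  rcases hb with rfl | rfl
  · exact (v_le (by norm_num) h).trans v_two.le
  · refine (v_le (by norm_num) h).trans ?_
    rw [v_odd (by decide)]
    exact Nat.zero_le _

omit hp ho hf in
theorem v_dvd_four {a : ℕ} (h : a ∣ 4) : v a ≤ 2 := by
  refine (v_le (by norm_num) h).trans ?_
  rw [show (4 : ℕ) = 2 ^ 2 by norm_num, v_pow, v_two]

/-- two even factors -/
theorem of_two {i j M d : ℕ} (hi : i ≠ 0) (hie : Even i) (hj : j ≠ 0) (hje : Even j) (hM : M ≠ 0)
    (h : ((p ^ f) ^ i - 1) * ((p ^ f) ^ j - 1) ∣ M) (hd : v d ≤ 1) : 4 + 2 * v d + v f ≤ v M := by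
  have h1 := v_le hM h
  rw [v_mul (sub_ne hp ho hf hi) (sub_ne hp ho hf hj)] at h1
  have h2 := v_even hp ho hf hi hie
  have h3 := v_even hp ho hf hj hje
  omega

theorem prod_ge (m : ℕ) : m * (3 + v f) ≤ v (∏ i ∈ range m, ((p ^ f) ^ (2 * (i + 1)) - 1)) := by
  rw [v_prod (fun i _ => sub_ne hp ho hf (by omega))]
  calc m * (3 + v f) = ∑ _i ∈ range m, (3 + v f) := by rw [Finset.sum_const, card_range, smul_eq_mul]
    _ ≤ _ := Finset.sum_le_sum fun i _ => v_even hp ho hf (by omega) (even_two_mul _)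

theorem prod_ne (m : ℕ) : ∏ i ∈ range m, ((p ^ f) ^ (2 * (i + 1)) - 1) ≠ 0 :=
  Finset.prod_ne_zero_iff.2 fun i _ => sub_ne hp ho hf (by omega)

/-- odd `q` -/
theorem v_num_ge {X : Sh} (hok : Ok X p f) (h2 : X ≠ .L 2) (hR : X ≠ .Ree) :
    4 + 2 * v (dd X (p ^ f)) + v f ≤ v (num X (p ^ f)) := by
  have hp2 : p ≠ 2 := by omega
  have hne : ∀ i, i ≠ 0 → (p ^ f) ^ i - 1 ≠ 0 := fun i hi => sub_ne hp ho hf hi
  cases X with
  | L n =>
    obtain ⟨hn, -⟩ := hok
    have hn3 : 3 ≤ n := by
      rcases Nat.lt_or_ge n 3 with h | h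
      · exact absurd (by rw [show n = 2 by omega]) h2
      · exact h
    have h3 := sum_ge (n := n) (w := fun i => v ((p ^ f) ^ (i + 2) - 1)) (c := v f) hn3
      (by have := v_sq hp ho hf; simpa only [_root_.zero_add, _root_.ge_iff_le] using this) (by have := v_four hp ho hf; simpa only [_root_.Nat.reduceAdd, _root_.ge_iff_le] using this)
      (fun i => v_sub hp ho hf (by omega))
    have h4 : v (num (.L n) (p ^ f)) = ∑ i ∈ range (n - 1), v ((p ^ f) ^ (i + 2) - 1) :=
      v_prod fun i _ => hne _ (by omega)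
    have h5 : v (dd (.L n) (p ^ f)) ≤ v n := v_le (by omega) (Nat.gcd_dvd_left _ _)
    rw [h4]
    rcases Nat.lt_or_ge n 4 with h | h
    · have h6 : n = 3 := by omega
      subst h6
      have h7 : v 3 = 0 := v_odd (by decide)
      have := h3.1
      omega
    · have := h3.2 h
      have := two_mul_v_le (n := n) (by omega)
      omega
  | C m =>
    obtain ⟨hm, -⟩ := hok
    have h3 := prod_ge hp ho hf m
    have h4 : v (dd (.C m) (p ^ f)) ≤ 1 := v_le_one (Or.inl rfl) (Nat.gcd_dvd_left _ _)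
    change 4 + 2 * v (dd (.C m) (p ^ f)) + v f ≤ v (∏ i ∈ range m, ((p ^ f) ^ (2 * (i + 1)) - 1))
    have : 2 * (3 + v f) ≤ m * (3 + v f) := Nat.mul_le_mul_right _ hm
    omega
  | U n =>
    obtain ⟨hn3, -⟩ := hok
    have h3 := sum_ge (n := n) (w := fun i => v (if Even i then (p ^ f) ^ (i + 2) - 1 else (p ^ f) ^ (i + 2) + 1))
      (c := v f) hn3 (by have := v_sq hp ho hf; simpa only [_root_.Even.zero, ↓ _root_.reduceIte, _root_.zero_add, _root_.ge_iff_le] using this)
      (by have := v_four hp ho hf; rw [if_pos (by decide)]; simpa only [_root_.Nat.reduceAdd, _root_.ge_iff_le] using this)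
      (fun i => by
        split_ifs
        · exact v_sub hp ho hf (by omega)
        · exact v_add hp ho hf _)
    have h4 : v (num (.U n) (p ^ f)) = ∑ i ∈ range (n - 1),
        v (if Even i then (p ^ f) ^ (i + 2) - 1 else (p ^ f) ^ (i + 2) + 1) :=
      v_prod fun i _ => by
        split_ifs
        · exact hne _ (by omega)
        · omega
    have h5 : v (dd (.U n) (p ^ f)) ≤ v n := v_le (by omega) (Nat.gcd_dvd_left _ _)
    rw [h4]
    rcases Nat.lt_or_ge n 4 with h | h
    · have h6 : n = 3 := by omega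
      subst h6
      have h7 : v 3 = 0 := v_odd (by decide)
      have := h3.1
      omega
    · have := h3.2 h
      have := two_mul_v_le (n := n) (by omega)
      omega
  | D m =>
    have hm : 4 ≤ m := hok
    have h3 := prod_ge hp ho hf (m - 1)
    have h4 : v (dd (.D m) (p ^ f)) ≤ 2 := v_dvd_four (Nat.gcd_dvd_left _ _)
    change 4 + 2 * v (dd (.D m) (p ^ f)) + v f ≤
      v (((p ^ f) ^ m - 1) * ∏ i ∈ range (m - 1), ((p ^ f) ^ (2 * (i + 1)) - 1))
    rw [v_mul (hne m (by omega)) (prod_ne hp ho hf _)]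
    have : 3 * (3 + v f) ≤ (m - 1) * (3 + v f) := Nat.mul_le_mul_right _ (by omega)
    omega
  | DD m =>
    have hm : 4 ≤ m := hok
    have h3 := prod_ge hp ho hf (m - 1)
    have h4 : v (dd (.DD m) (p ^ f)) ≤ 2 := v_dvd_four (Nat.gcd_dvd_left _ _)
    change 4 + 2 * v (dd (.DD m) (p ^ f)) + v f ≤
      v (((p ^ f) ^ m + 1) * ∏ i ∈ range (m - 1), ((p ^ f) ^ (2 * (i + 1)) - 1))
    rw [v_mul (by omega) (prod_ne hp ho hf _)]
    have : 3 * (3 + v f) ≤ (m - 1) * (3 + v f) := Nat.mul_le_mul_right _ (by omega)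
    omega
  | G2 =>
    refine of_two hp ho hf (i := 2) (j := 6) (by norm_num) (by decide) (by norm_num) (by decide) ?_ dvd_rfl ?_
    · exact mul_ne_zero (hne _ (by norm_num)) (hne _ (by norm_num))
    · exact v_le_one (Or.inl rfl) (one_dvd _)
  | F4 =>
    refine of_two hp ho hf (i := 2) (j := 6) (by norm_num) (by decide) (by norm_num) (by decide) ?_ ?_ ?_
    · simp only [num]
      simp only [mul_ne_zero_iff]
      refine ⟨⟨⟨?_, ?_⟩, ?_⟩, ?_⟩ <;> exact hne _ (by norm_num)
    · exact ⟨((p ^ f) ^ 8 - 1) * ((p ^ f) ^ 12 - 1), by simp only [num]; ring⟩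
    · exact v_le_one (Or.inl rfl) (one_dvd _)
  | E6 =>
    refine of_two hp ho hf (i := 2) (j := 6) (by norm_num) (by decide) (by norm_num) (by decide) ?_ ?_ ?_
    · simp only [num]
      simp only [mul_ne_zero_iff]
      refine ⟨⟨⟨⟨⟨?_, ?_⟩, ?_⟩, ?_⟩, ?_⟩, ?_⟩ <;> exact hne _ (by norm_num)
    · exact ⟨((p ^ f) ^ 5 - 1) * ((p ^ f) ^ 8 - 1) * ((p ^ f) ^ 9 - 1) * ((p ^ f) ^ 12 - 1), by
        simp only [num]; ring⟩
    · exact v_le_one (Or.inr rfl) (Nat.gcd_dvd_left _ _)
  | E7 =>
    refine of_two hp ho hf (i := 2) (j := 6) (by norm_num) (by decide) (by norm_num) (by decide) ?_ ?_ ?_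
    · simp only [num]
      simp only [mul_ne_zero_iff]
      refine ⟨⟨⟨⟨⟨⟨?_, ?_⟩, ?_⟩, ?_⟩, ?_⟩, ?_⟩, ?_⟩ <;> exact hne _ (by norm_num)
    · exact ⟨((p ^ f) ^ 8 - 1) * ((p ^ f) ^ 10 - 1) * ((p ^ f) ^ 12 - 1) * ((p ^ f) ^ 14 - 1) * ((p ^ f) ^ 18 - 1), by
        simp only [num]; ring⟩
    · exact v_le_one (Or.inl rfl) (Nat.gcd_dvd_left _ _)
  | E8 =>
    refine of_two hp ho hf (i := 2) (j := 8) (by norm_num) (by decide) (by norm_num) (by decide) ?_ ?_ ?_
    · simp only [num]
      simp only [mul_ne_zero_iff]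
      refine ⟨⟨⟨⟨⟨⟨⟨?_, ?_⟩, ?_⟩, ?_⟩, ?_⟩, ?_⟩, ?_⟩, ?_⟩ <;> exact hne _ (by norm_num)
    · exact ⟨((p ^ f) ^ 12 - 1) * ((p ^ f) ^ 14 - 1) * ((p ^ f) ^ 18 - 1) * ((p ^ f) ^ 20 - 1) *
        ((p ^ f) ^ 24 - 1) * ((p ^ f) ^ 30 - 1), by simp only [num]; ring⟩
    · exact v_le_one (Or.inl rfl) (one_dvd _)
  | TE6 =>
    refine of_two hp ho hf (i := 2) (j := 6) (by norm_num) (by decide) (by norm_num) (by decide) ?_ ?_ ?_
    · simp only [num]
      simp only [mul_ne_zero_iff]
      refine ⟨⟨⟨⟨⟨?_, ?_⟩, ?_⟩, ?_⟩, ?_⟩, ?_⟩ <;> first | exact hne _ (by norm_num) | exact Nat.succ_ne_zero _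
    · exact ⟨((p ^ f) ^ 5 + 1) * ((p ^ f) ^ 8 - 1) * ((p ^ f) ^ 9 + 1) * ((p ^ f) ^ 12 - 1), by
        simp only [num]; ring⟩
    · exact v_le_one (Or.inr rfl) (Nat.gcd_dvd_left _ _)
  | TD4 =>
    refine of_two hp ho hf (i := 2) (j := 6) (by norm_num) (by decide) (by norm_num) (by decide) ?_ ?_ ?_
    · simp only [num]
      simp only [mul_ne_zero_iff]
      refine ⟨⟨?_, ?_⟩, ?_⟩ <;> first | exact hne _ (by norm_num) | exact Nat.succ_ne_zero _
    · exact ⟨_, rfl⟩
    · exact v_le_one (Or.inl rfl) (one_dvd _)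
  | Sz => exact absurd hok.1 hp2
  | Ree => exact absurd rfl hR
  | TF4 => exact absurd hok.1 hp2

end odd

/-- even `q` : `dd` is odd -/
theorem v_dd_even {X : Sh} {f : ℕ} (hf : 1 ≤ f) (hok : Ok X 2 f) : v (dd X (2 ^ f)) = 0 := by
  have he : ∀ i, i ≠ 0 → Even ((2 ^ f) ^ i) := fun i hi => by
    rw [← pow_mul]
    exact even_two.pow_of_ne_zero (Nat.mul_ne_zero (by omega) hi)
  have h1 : ∀ i, i ≠ 0 → Odd ((2 ^ f) ^ i - 1) := fun i hi =>
    Nat.Even.sub_odd (Nat.one_le_pow _ _ (by positivity)) (he i hi) odd_one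
  have h2 : ∀ i, i ≠ 0 → Odd ((2 ^ f) ^ i + 1) := fun i hi => (he i hi).add_one
  have h3 : ∀ a b : ℕ, Odd b → v (Nat.gcd a b) = 0 := fun a b hb => by
    apply v_odd
    obtain ⟨k, hk⟩ := Nat.gcd_dvd_right a b
    rw [hk] at hb
    exact (Nat.odd_mul.1 hb).1
  have h4 : Odd (2 ^ f - 1) := by have := h1 1 one_ne_zero; rwa [pow_one] at this
  have h5 : Odd (2 ^ f + 1) := by have := h2 1 one_ne_zero; rwa [pow_one] at this
  cases X with
  | L n => exact h3 _ _ h4
  | C m => exact h3 _ _ h4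
  | U n => exact h3 _ _ h5
  | D m => exact h3 _ _ (h1 m (by have : 4 ≤ m := hok; omega))
  | DD m => exact h3 _ _ (h2 m (by have : 4 ≤ m := hok; omega))
  | E6 => exact h3 _ _ h4
  | E7 => exact h3 _ _ h4
  | TE6 => exact h3 _ _ h5
  | _ => exact v_odd odd_one

theorem two_le_NN {X : Sh} {p f : ℕ} (hok : Ok X p f) (h2 : X ≠ .L 2) : 2 ≤ NN X := by
  cases X with
  | L n =>
    obtain ⟨hn, -⟩ := hok
    have hn3 : 3 ≤ n := by
      rcases Nat.lt_or_ge n 3 with h | h
      · exact absurd (by rw [show n = 2 by omega]) h2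
      · exact h
    have : 3 * 2 ≤ n * (n - 1) := Nat.mul_le_mul hn3 (by omega)
    change 2 ≤ n * (n - 1) / 2
    omega
  | C m =>
    have : 2 ^ 2 ≤ m ^ 2 := Nat.pow_le_pow_left hok.1 2
    change 2 ≤ m ^ 2
    omega
  | U n =>
    obtain ⟨hn, -⟩ := hok
    have : 3 * 2 ≤ n * (n - 1) := Nat.mul_le_mul hn (by omega)
    change 2 ≤ n * (n - 1) / 2
    omega
  | D m =>
    have hm : 4 ≤ m := hok
    have : 4 * 3 ≤ m * (m - 1) := Nat.mul_le_mul hm (by omega)
    change 2 ≤ m * (m - 1)
    omega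
  | DD m =>
    have hm : 4 ≤ m := hok
    have : 4 * 3 ≤ m * (m - 1) := Nat.mul_le_mul hm (by omega)
    change 2 ≤ m * (m - 1)
    omega
  | _ => simp [NN]

end Cfsg.Agent.H817.PD.OutNum
end

-- part: H817/PD/OutTwo
section
/-!
# `|Out S|₂ < |S|₂` for the known simple groups (helper817, for S4246)

`v_out_lt` : `v₂ |Out S| + 1 ≤ v₂ |S|`;
`aut_two` : `v₂ |Aut S| + 1 ≤ 2 v₂ |S|`.
-/

set_option autoImplicit false

namespace Cfsg.Agent.H817.PD

open Cfsg Cfsg.Agent.OrdDiv Finset
open Cfsg.Agent.H902 Cfsg.Agent.H902.Names Cfsg.Agent.H934.OutB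
open Cfsg.Agent.H817.PD.OutNum

universe u

/-- the claim -/
def VO (S : Type*) [Group S] : Prop := v (Nat.card (Cfsg.Out S)) + 1 ≤ v (Nat.card S)

theorem VO.congr {S T : Type u} [Group S] [Group T] (e : S ≃* T) (h : VO T) : VO S := by
  rw [VO, card_out_congr e, Nat.card_congr e.toEquiv]
  exact h

theorem two_le_of_four {n : ℕ} (hn : n ≠ 0) (h : 4 ∣ n) : 2 ≤ v n :=
  le_v_of_pow_dvd hn (by norm_num; exact h)

theorem VO.of_le_two {S : Type*} [Group S] [Finite S] (h : Nat.card (Cfsg.Out S) ≤ 2) (h4 : 4 ∣ Nat.card S) : VO S := by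
  have h1 := two_le_of_four Nat.card_pos.ne' h4
  have h2 : v (Nat.card (Cfsg.Out S)) ≤ 1 := by
    generalize Nat.card (Cfsg.Out S) = n at h
    interval_cases n
    · simp [v]
    · simp [v]
    · exact v_two.le
  unfold VO
  omega

/-- `L 2` -/
theorem vo_psl_two {S : Type u} [Group S] [Finite S] [IsSimpleGroup S] (hna : ¬ IsMulCommutative S) {p f : ℕ}
    (h : OrdDiv.Real (.psl 2 (p ^ f)) S) (hr : Art.Real (.L 2) p f (Nat.card S)) : VO S := by
  obtain ⟨hp, hf, hok, heq⟩ := hr
  have hpf := Fact.mk hp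
  obtain ⟨F, _, _, hF, ⟨e⟩⟩ := h
  have h1 := Cfsg.Agent.S0813.result p f hf hF 2 le_rfl hok.2
  rw [H364.OutLie.card_pgl le_rfl, hF] at h1
  have h2 : Nat.card (MulAut S) = (Nat.gcd 2 (p ^ f - 1) * f) * Nat.card S := by
    rw [H364.OutLie.mulaut_congr e, h1, Nat.card_congr e.toEquiv, if_pos rfl]; ring
  have h3 := card_out_of_aut hna h2
  have hq4 := hok.2 rfl
  have hS0 : Nat.card S ≠ 0 := Nat.card_pos.ne'
  have hnum : Art.num (.L 2) (p ^ f) = (p ^ f) ^ 2 - 1 := by
    simp only [Art.num, _root_.Nat.add_one_sub_one, _root_.Finset.range_one, _root_.Finset.prod_singleton, _root_.zero_add]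
  have hg : Nat.gcd 2 (p ^ f - 1) ≠ 0 := Nat.gcd_ne_zero_left (by norm_num)
  have hq0 : p ^ f ≠ 0 := by omega
  have hq2 : (p ^ f) ^ 2 - 1 ≠ 0 := by
    have : 4 ^ 2 ≤ (p ^ f) ^ 2 := Nat.pow_le_pow_left hq4 2
    omega
  have hNN : Art.NN (.L 2) = 1 := rfl
  rw [hnum, hNN, pow_one] at heq
  change Nat.gcd 2 (p ^ f - 1) * Nat.card S = p ^ f * ((p ^ f) ^ 2 - 1) at heq
  have h4 := congrArg v heq
  rw [v_mul hg hS0, v_mul hq0 hq2] at h4
  rw [VO, h3, v_mul hg (by omega)]
  rcases hp.eq_two_or_odd' with rfl | ho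
  · have h5 : v (Nat.gcd 2 (2 ^ f - 1)) = 0 := by
      have := v_dd_even (X := .L 2) hf hok
      exact this
    rw [v_pow, v_two, mul_one] at h4
    have := v_lt (n := f) (by omega)
    omega
  · have hp3 : 3 ≤ p := by
      have := hp.two_le
      obtain ⟨k, rfl⟩ := ho
      omega
    have h5 := v_sq hp3 ho hf
    have h6 : v (Nat.gcd 2 (p ^ f - 1)) ≤ 1 := v_le_one (Or.inl rfl) (Nat.gcd_dvd_left _ _)
    omega

/-- `²G₂` -/
theorem vo_ree {S : Type u} [Group S] [Finite S] {q : ℕ}
    (h : OrdDiv.Real (.ree q) S) (h2 : 2 ∣ Nat.card S) : VO S := by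
  obtain ⟨F, _, _, m, hm, hF, hq, ⟨e⟩⟩ := h
  have h1 := Cfsg.Agent.S2127.result hm (hF.trans hq)
  rw [VO, card_out_congr e, h1, v_odd (odd_two_mul_add_one m)]
  exact one_le_v Nat.card_pos.ne' (even_iff_two_dvd.2 h2)

theorem vo_lie {S : Type u} [Group S] [Finite S] [IsSimpleGroup S] (hna : ¬ IsMulCommutative S)
    {g : Grp} {X : Art.Sh} {p f : ℕ} (hg : IsLie g X p f) (h : OrdDiv.Real g S)
    (hr : Art.Real X p f (Nat.card S)) : VO S := by
  by_cases hX : X = .L 2
  · subst hX
    cases hg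
    exact vo_psl_two hna h hr
  by_cases hR : X = .Ree
  · subst hR
    cases hg
    refine vo_ree h ?_
    obtain ⟨hp, hf, hok, heq⟩ := hr
    obtain ⟨rfl, -, -⟩ := hok
    change 1 * Nat.card S = (3 ^ f) ^ 3 * ((3 ^ f - 1) * ((3 ^ f) ^ 3 + 1)) at heq
    rw [one_mul] at heq
    rw [heq]
    refine Dvd.dvd.mul_left (Dvd.dvd.mul_right ?_ _) _
    rw [← even_iff_two_dvd]
    exact Nat.Odd.sub_odd (Odd.pow (by decide)) odd_one
  obtain ⟨c, hc1, hc2, hc3⟩ := H364.OutLie.card_out (fun h => hna ⟨⟨h⟩⟩) hg h hr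
  obtain ⟨hp, hf, hok, heq⟩ := hr
  have hS0 : Nat.card S ≠ 0 := Nat.card_pos.ne'
  have hq0 : p ^ f ≠ 0 := (Nat.pow_pos hp.pos).ne'
  have hO0 : Nat.card (Cfsg.Out S) ≠ 0 := Nat.card_pos.ne'
  have hc0 : c ≠ 0 := by
    rintro rfl
    rw [zero_mul] at hc1
    exact hO0 hc1
  have hd0 : Art.dd X (p ^ f) ≠ 0 := by
    cases X with
    | L n => exact Nat.gcd_ne_zero_left (by have := hok.1; omega)
    | U n => exact Nat.gcd_ne_zero_left (by have := hok.1; omega)
    | C n => exact Nat.gcd_ne_zero_left (by norm_num)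
    | D n => exact Nat.gcd_ne_zero_left (by norm_num)
    | DD n => exact Nat.gcd_ne_zero_left (by norm_num)
    | E6 => exact Nat.gcd_ne_zero_left (by norm_num)
    | E7 => exact Nat.gcd_ne_zero_left (by norm_num)
    | TE6 => exact Nat.gcd_ne_zero_left (by norm_num)
    | _ => exact one_ne_zero
  have hN0 : Art.num X (p ^ f) ≠ 0 := by
    intro h0
    rw [h0, mul_zero] at heq
    exact (mul_ne_zero hd0 hS0) heq
  have h4 := congrArg v heq
  rw [v_mul hd0 hS0, v_mul (pow_ne_zero _ hq0) hN0] at h4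
  rw [VO, hc1, v_mul hc0 (by omega)]
  rcases hp.eq_two_or_odd' with rfl | ho
  · have h5 := v_dd_even hf hok
    have h6 := two_le_NN hok hX
    have h7 := v_le (mul_ne_zero (by norm_num) hd0) (hc3 rfl)
    rw [v_mul (by norm_num) hd0, h5] at h7
    have h8 : v 6 = 1 := by
      rw [show 6 = 2 * 3 by norm_num, v_mul (by norm_num) (by norm_num), v_two, v_odd (by decide)]
    rw [v_pow, v_pow, v_two, mul_one] at h4
    have h9 := v_lt (n := f) (by omega)
    have h10 : 2 * f ≤ Art.NN X * f := Nat.mul_le_mul_right _ h6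
    omega
  · have hp3 : 3 ≤ p := by
      have := hp.two_le
      obtain ⟨k, rfl⟩ := ho
      omega
    have h5 := v_num_ge hp3 ho hf hok hX hR
    have h7 := v_le (mul_ne_zero (by norm_num) hd0) hc2
    rw [v_mul (by norm_num) hd0] at h7
    have h8 : v 24 = 3 := by
      rw [show 24 = 2 ^ 3 * 3 by norm_num, v_mul (by norm_num) (by norm_num), v_pow, v_two, v_odd (by decide)]
    omega

theorem vo_alt_six {S : Type u} [Group S] [Finite S] [IsSimpleGroup S] (hna : ¬ IsMulCommutative S)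
    (e : S ≃* alternatingGroup (Fin 6)) : VO S := by
  have : Fact (Nat.Prime 3) := ⟨Nat.prime_three⟩
  have : Fintype (GaloisField 3 2) := Fintype.ofFinite _
  have hF : Fintype.card (GaloisField 3 2) = 3 ^ 2 := by
    rw [← Nat.card_eq_fintype_card]
    exact GaloisField.card 3 2 (by norm_num)
  obtain ⟨e'⟩ := Cfsg.Agent.S0254.result (F := GaloisField 3 2) (by rw [hF]; norm_num)
  have e2 := e.trans e'.symm
  refine vo_psl_two hna (p := 3) (f := 2) ⟨_, inferInstance, inferInstance, hF, ⟨e2⟩⟩ ?_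
  rw [Nat.card_congr e2.toEquiv]
  exact psl_real Nat.prime_three (by norm_num) hF le_rfl (fun _ => by norm_num)

theorem vo_alt {S : Type u} [Group S] [Finite S] [IsSimpleGroup S] (hna : ¬ IsMulCommutative S) {n : ℕ} (hn : 5 ≤ n)
    (h : OrdDiv.Real (.alt n) S) (hc : 2 * Nat.card S = n.factorial) : VO S := by
  obtain ⟨e⟩ := h
  by_cases h6 : n = 6
  · subst h6
    exact vo_alt_six hna e
  apply VO.of_le_two
  · rw [card_out_congr e, H489.card_out_alt hn h6]
  · have h1 : Nat.factorial 5 ∣ n.factorial := Nat.factorial_dvd_factorial hn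
    rw [← hc] at h1
    have h2 : 2 * 60 ∣ 2 * Nat.card S := by
      have : Nat.factorial 5 = 2 * 60 := by decide
      rwa [this] at h1
    exact (by norm_num : 4 ∣ 60).trans (Nat.dvd_of_mul_dvd_mul_left (by norm_num) h2)

theorem spor_out_le {S : Type u} [Group S] {x : Grp × ℕ} (hx : x ∈ spor) (hr : OrdDiv.Real x.1 S) :
    Nat.card (Cfsg.Out S) ≤ 2 := by
  have key : ∀ y ∈ spor, y.1 = .tits ∨ (∀ {S : Type u} [Group S], OrdDiv.Real y.1 S → IsSporadicGroup S) := by
    intro y hy
    simp only [spor, List.mem_cons, List.not_mem_nil, or_false] at hy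
    rcases hy with rfl | rfl | rfl | rfl | rfl | rfl | rfl | rfl | rfl | rfl | rfl | rfl | rfl | rfl | rfl | rfl | rfl |
      rfl | rfl | rfl | rfl | rfl | rfl | rfl | rfl | rfl | rfl
    · exact Or.inl rfl
    all_goals
      right
      intro S _ h
      unfold IsSporadicGroup
      simp only [OrdDiv.Real] at h
      simp only [h, true_or, or_true]
  rcases key x hx with h | h
  · rw [h] at hr
    exact H489.card_out_tits hr
  · exact H489.card_out_sporadic (h hr)

theorem vo_spor {S : Type u} [Group S] [Finite S] {x : Grp × ℕ} (hx : x ∈ spor) (hr : OrdDiv.Real x.1 S)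
    (hc : Nat.card S = x.2) : VO S := by
  apply VO.of_le_two (spor_out_le hx hr)
  rw [hc]
  have key : ∀ y ∈ spor, 4 ∣ y.2 := by decide +kernel
  exact key x hx

/-- **`v₂ |Out S| + 1 ≤ v₂ |S|`** -/
theorem vo {S : Type u} [Group S] [Finite S] [IsSimpleGroup S] (hna : ¬ IsMulCommutative S)
    (hK : IsKnownSimple' S) : VO S := by
  rcases exists_nam OrdDiv.table hK (fun h => hna ⟨⟨h⟩⟩) with ⟨n, hn, h, hc⟩ | ⟨g, X, p, f, hg, h, hc⟩ | ⟨x, hx, h, hc⟩
  · exact vo_alt hna hn h hc
  · exact vo_lie hna hg h hc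
  · exact vo_spor hx h hc

/-- **`v₂ |Aut S| + 1 ≤ 2 v₂ |S|`** -/
theorem aut_two {S : Type u} [Group S] [Finite S] [IsSimpleGroup S] (hna : ¬ IsMulCommutative S)
    (hK : IsKnownSimple' S) : (Nat.card (MulAut S)).factorization 2 + 1 ≤ 2 * (Nat.card S).factorization 2 := by
  have h1 : v (Nat.card (MulAut S)) = v (Nat.card (Cfsg.Out S)) + v (Nat.card S) := by
    rw [← card_out_mul S hna, v_mul Nat.card_pos.ne' Nat.card_pos.ne']
  have h2 := vo hna hK
  change v (Nat.card (MulAut S)) + 1 ≤ 2 * v (Nat.card S)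
  rw [VO] at h2
  omega

end Cfsg.Agent.H817.PD
end

-- part: H184/PD/RowsD
section
/-!
# S4246: the row `ON` (helper184)

The squares of the elements of a Sylow `2`-subgroup `S` contain `f`, `a f`, and `C(f) ∩ C(a)` is a `2`-group.
-/

set_option autoImplicit false
set_option linter.unusedSectionVars false

namespace Cfsg.Agent.H184.PD

open Subgroup Cfsg Cfsg.Agent.H160.PD Cfsg.Agent.H524.SporTool

universe u

section

variable {G : Type*} [Group G] [Finite G]

/-- if only `2`-elements centralize all the squares of a Sylow `2`-subgroup -/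
theorem lt_of_sq (T : Sylow 2 G) (h : ∀ y : G, (∀ t ∈ T, y * (t * t) = (t * t) * y) → ∃ k : ℕ, y ^ 2 ^ k = 1)
    {g : G} (hg : (orderOf g).Prime) (hg2 : orderOf g ≠ 2) :
    v 2 (centralizer ({g} : Set G)) + 1 < v 2 G := by
  by_contra hcon
  push Not at hcon
  have : Fact (Nat.Prime 2) := ⟨Nat.prime_two⟩
  obtain ⟨P⟩ : Nonempty (Sylow 2 (centralizer ({g} : Set G))) := inferInstance
  set A : Subgroup G := (P : Subgroup (centralizer ({g} : Set G))).map (centralizer ({g} : Set G)).subtype with hA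
  have hAC : A ≤ centralizer ({g} : Set G) := map_subtype_le _
  have hA2 : IsPGroup 2 A := P.2.map _
  have hAc : Nat.card A = 2 ^ v 2 (centralizer ({g} : Set G)) := by
    rw [hA, ← P.card_eq_multiplicity]
    exact (Nat.card_congr ((P : Subgroup (centralizer ({g} : Set G))).equivMapOfInjective _
      (subtype_injective _)).toEquiv).symm
  obtain ⟨T', hAT⟩ := hA2.exists_le_sylow
  have hTc : Nat.card (T' : Subgroup G) = 2 ^ v 2 G := T'.card_eq_multiplicity
  have hle : v 2 (centralizer ({g} : Set G)) ≤ v 2 G :=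
    (Nat.factorization_le_iff_dvd Nat.card_pos.ne' Nat.card_pos.ne').2 (card_subgroup_dvd_card _) 2
  have hri : A.relIndex T' = 1 ∨ A.relIndex T' = 2 := by
    have h1 : Nat.card A * A.relIndex T' = Nat.card (T' : Subgroup G) := by
      have := card_mul_index (A.subgroupOf (T' : Subgroup G))
      rw [← this, relIndex]
      congr 1
      exact (Nat.card_congr (Subgroup.subgroupOfEquivOfLe hAT).toEquiv).symm
    rw [hAc, hTc] at h1
    obtain ⟨d, hd⟩ : ∃ d, v 2 G = v 2 (centralizer ({g} : Set G)) + d := ⟨_, (Nat.add_sub_of_le hle).symm⟩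
    rw [hd, pow_add] at h1
    have h2 := Nat.eq_of_mul_eq_mul_left (by positivity) h1
    have h3 : d = 0 ∨ d = 1 := by omega
    rcases h3 with rfl | rfl
    · left; simpa using h2
    · right; simpa using h2
  have hsq : ∀ t ∈ (T' : Subgroup G), t * t ∈ A := by
    intro t ht
    rcases hri with h1 | h1
    · exact A.mul_mem (relIndex_eq_one.1 h1 ht) (relIndex_eq_one.1 h1 ht)
    · have h2 := Subgroup.mul_self_mem_of_index_two (H := A.subgroupOf (T' : Subgroup G)) h1 ⟨t, ht⟩
      exact h2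
  obtain ⟨k, hk⟩ := MulAction.exists_smul_eq G T' T
  obtain ⟨m, hm⟩ := h (k * g * k⁻¹) (by
    intro t ht
    have ht' : k⁻¹ * t * k ∈ (T' : Subgroup G) := by
      have ht2 : t ∈ ((k • T' : Sylow 2 G) : Subgroup G) := by rw [hk]; exact ht
      rw [Sylow.coe_subgroup_smul] at ht2
      have := Subgroup.mem_pointwise_smul_iff_inv_smul_mem.1 ht2
      rw [← map_inv, MulAut.smul_def, MulAut.conj_apply, inv_inv] at this
      exact this
    have h1 := mem_centralizer_singleton_iff.1 (hAC (hsq _ ht'))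
    have h2 : t * t = k * (k⁻¹ * t * k * (k⁻¹ * t * k)) * k⁻¹ := by group
    rw [h2]
    calc k * g * k⁻¹ * (k * (k⁻¹ * t * k * (k⁻¹ * t * k)) * k⁻¹)
        = k * (g * (k⁻¹ * t * k * (k⁻¹ * t * k))) * k⁻¹ := by group
      _ = k * ((k⁻¹ * t * k * (k⁻¹ * t * k)) * g) * k⁻¹ := by rw [h1]
      _ = _ := by group)
  have h3 : g ^ 2 ^ m = 1 := by
    rw [conj_pow] at hm
    have : g ^ 2 ^ m = k⁻¹ * (k * g ^ 2 ^ m * k⁻¹) * k := by group
    rw [this, hm]
    group
  have h9 : orderOf g ∣ 2 ^ m := orderOf_dvd_of_pow_eq_one h3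
  exact hg2 ((Nat.prime_dvd_prime_iff_eq hg Nat.prime_two).1 (hg.dvd_of_dvd_pow h9))

end

section ON

open Cfsg.Spor (ON)
open Cfsg.Agent.SporadicB.ON45Word (on)
open Cfsg.Agent.KFacts.ON.Struct (mem_K0)
open Cfsg.Agent.KFacts.ON.Cent (hON)
open Cfsg.Agent.ONType

theorem lt_on [Finite ON] {g : ON} (hg : (orderOf g).Prime) (hg2 : orderOf g ≠ 2) :
    v 2 (centralizer ({g} : Set ON)) + 1 < v 2 ON := by
  obtain ⟨P, hP⟩ := Cfsg.Agent.KFacts.ON.OneClass.exists_sylow
  refine lt_of_sq P (fun y hy => ?_) hg hg2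
  have hmem : ∀ t : ON, t ∈ P ↔ t ∈ TupS.S hON.1 := by
    intro t
    rw [← hP]
    rfl
  have hgg : on .g * on .g = on .a * on .f := by
    have h1 := TupT0.gg_eq hON.1
    exact h1
  have hvf : y * on .f = on .f * y := by
    have h1 := hy KFacts.ON.Words.v ((hmem _).2 (TupS.T0_le_S hON.1 KFacts.ON.Qs.vT))
    rwa [KFacts.ON.Words.vv] at h1
  have haf : y * (on .a * on .f) = on .a * on .f * y := by
    have h1 := hy (on .g) ((hmem _).2 (TupS.T0_le_S hON.1 TupT0.g_mem))
    rwa [hgg] at h1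
  have ha : y * on .a = on .a * y := by
    have h1 : y * on .a * on .f = on .a * y * on .f := by
      calc y * on .a * on .f = y * (on .a * on .f) := by group
        _ = on .a * (on .f * y) := by rw [haf]; group
        _ = on .a * (y * on .f) := by rw [hvf]
        _ = _ := by group
    exact mul_right_cancel h1
  have hyT : y ∈ TupT0.T0 := TupK.mem_T0 hON.1 (mem_K0.2 hvf) ha
  have h2 : IsPGroup 2 (TupS.S hON.1) := IsPGroup.of_card (n := 9) KFacts.ON.Qs.card_S
  obtain ⟨k, hk⟩ := h2 ⟨y, TupS.T0_le_S hON.1 hyT⟩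
  exact ⟨k, congrArg Subtype.val hk⟩

theorem sc_on [Finite ON] : SC ON :=
  SC.of_card (r := 31) (by norm_num) (by rw [KFacts.ON.OneClass.card_ON]; norm_num)
    fun _ hx => H680.ONThirtyOne.card_cent hx

theorem out_on : out ON = 2 := out_of (MulEquiv.refl ON) S2078.result

theorem row_on (K : Type u) [Group K] [Finite K] [IsSimpleGroup K] (h : Spor.IsoON K) : Row K := by
  obtain ⟨e⟩ := h
  have hf : Finite ON := Finite.of_equiv K e.toEquiv
  have hs : IsSimpleGroup ON := hON.1
  have h4 : 4 ∣ Nat.card ON := by rw [KFacts.ON.OneClass.card_ON]; norm_num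
  have hrow : Row ON := by
    refine row_of_sc' (center_bot' h4) sc_on (by rw [out_on]) h4 fun g hg hg2 => ?_
    rw [out_on, Nat.prime_two.factorization, Finsupp.single_eq_same]
    exact lt_on hg hg2
  exact hrow.congr e

end ON

end Cfsg.Agent.H184.PD
end

private theorem dce_a6187cae5bfe : _root_.True := by
  try have : _root_.True := by simp only [_root_.Cfsg.Agent.OrdDiv.Real.eq_6]
  try have : _root_.True := by simp only [_root_.Cfsg.Agent.H902.Art.num.eq_10]
  try have : _root_.True := by simp only [_root_.Cfsg.Agent.OrdDiv.Real.eq_36]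
  try have : _root_.True := by simp only [_root_.Cfsg.Agent.OrdDiv.Real.eq_33]
  try have : _root_.True := by simp only [_root_.Cfsg.Agent.OrdDiv.Real.eq_12]
  try have : _root_.True := by simp only [_root_.Cfsg.Agent.H902.Art.NN.eq_13]
  try have : _root_.True := by simp only [_root_.Cfsg.Agent.OrdDiv.Real.eq_30]
  try have : _root_.True := by simp only [_root_.Cfsg.Agent.OrdDiv.Real.eq_39]
  try have : _root_.True := by simp only [_root_.Cfsg.Agent.OrdDiv.Real.eq_22]
  try have : _root_.True := by simp only [_root_.Cfsg.Agent.H902.Art.num.eq_13]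
  try have : _root_.True := by simp only [_root_.Cfsg.Agent.H902.Art.NN.eq_15]
  try have : _root_.True := by simp only [_root_.Cfsg.Agent.OrdDiv.Real.eq_2]
  try have : _root_.True := by simp only [_root_.Cfsg.Agent.OrdDiv.Real.eq_27]
  try have : _root_.True := by simp only [_root_.Cfsg.Agent.OrdDiv.Real.eq_38]
  try have : _root_.True := by simp only [_root_.Cfsg.Agent.H902.Art.NN.eq_1]
  try have : _root_.True := by simp only [_root_.Cfsg.Agent.OrdDiv.Real.eq_35]
  try have : _root_.True := by simp only [_root_.Cfsg.Agent.OrdDiv.Real.eq_17]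
  try have : _root_.True := by simp only [_root_.Cfsg.Agent.OrdDiv.Real.eq_29]
  try have : _root_.True := by simp only [_root_.Cfsg.Agent.H902.Art.NN.eq_14]
  try have : _root_.True := by simp only [_root_.Cfsg.Agent.H902.Art.num.eq_11]
  try have : _root_.True := by simp only [_root_.Cfsg.Agent.H902.Art.num.eq_14]
  try have : _root_.True := by simp only [_root_.Cfsg.Agent.OrdDiv.Real.eq_4]
  try have : _root_.True := by simp only [_root_.Cfsg.Agent.H902.Art.NN.eq_11]
  try have : _root_.True := by simp only [_root_.Cfsg.Agent.OrdDiv.Real.eq_8]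
  try have : _root_.True := by simp only [_root_.Cfsg.Agent.OrdDiv.Real.eq_21]
  try have : _root_.True := by simp only [_root_.Cfsg.Agent.OrdDiv.Real.eq_31]
  try have : _root_.True := by simp only [_root_.Cfsg.Agent.OrdDiv.Real.eq_10]
  try have : _root_.True := by simp only [_root_.Cfsg.Agent.H902.Art.num.eq_6]
  try have : _root_.True := by simp only [_root_.Cfsg.Agent.H902.Art.NN.eq_3]
  try have : _root_.True := by simp only [_root_.Cfsg.Agent.OrdDiv.Real.eq_18]
  try have : _root_.True := by simp only [_root_.Cfsg.Agent.H817.PD.VO.eq_1]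
  try have : _root_.True := by simp only [_root_.Cfsg.Agent.H817.PD.OutNum.v.eq_1]
  try have : _root_.True := by simp only [_root_.Cfsg.Agent.H902.Art.num.eq_1]
  try have : _root_.True := by simp only [_root_.Cfsg.Agent.OrdDiv.Real.eq_7]
  try have : _root_.True := by simp only [_root_.Cfsg.Agent.OrdDiv.Real.eq_9]
  try have : _root_.True := by simp only [_root_.Cfsg.Agent.OrdDiv.Real.eq_32]
  try have : _root_.True := by simp only [_root_.Cfsg.Agent.OrdDiv.Real.eq_5]
  try have : _root_.True := by simp only [_root_.Cfsg.Agent.H902.Art.num.eq_15]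
  try have : _root_.True := by simp only [_root_.Cfsg.Agent.H902.Art.num.eq_2]
  try have : _root_.True := by simp only [_root_.Cfsg.Agent.H902.Art.NN.eq_5]
  try have : _root_.True := by simp only [_root_.Cfsg.Agent.H902.Art.NN.eq_9]
  try have : _root_.True := by simp only [_root_.Cfsg.Agent.H902.Art.NN.eq_7]
  try have : _root_.True := by simp only [_root_.Cfsg.Agent.OrdDiv.Real.eq_34]
  try have : _root_.True := by simp only [_root_.Cfsg.Agent.OrdDiv.Real.eq_19]
  try have : _root_.True := by simp only [_root_.Cfsg.Agent.OrdDiv.Real.eq_3]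
  try have : _root_.True := by simp only [_root_.Cfsg.Agent.H902.Art.NN.eq_10]
  try have : _root_.True := by simp only [_root_.Cfsg.Agent.H902.Art.NN.eq_4]
  try have : _root_.True := by simp only [_root_.Cfsg.Agent.H902.Art.NN.eq_8]
  try have : _root_.True := by simp only [_root_.Cfsg.Agent.OrdDiv.Real.eq_11]
  try have : _root_.True := by simp only [_root_.Cfsg.Agent.OrdDiv.Real.eq_25]
  try have : _root_.True := by simp only [_root_.Cfsg.Agent.H902.Art.num.eq_4]
  try have : _root_.True := by simp only [_root_.Cfsg.Agent.OrdDiv.Real.eq_41]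
  try have : _root_.True := by simp only [_root_.Cfsg.Agent.H902.Art.num.eq_8]
  try have : _root_.True := by simp only [_root_.Cfsg.Agent.OrdDiv.Real.eq_14]
  try have : _root_.True := by simp only [_root_.Cfsg.Agent.OrdDiv.Real.eq_28]
  try have : _root_.True := by simp only [_root_.Cfsg.Agent.OrdDiv.Real.eq_43]
  try have : _root_.True := by simp only [_root_.Cfsg.Agent.H902.Art.num.eq_7]
  try have : _root_.True := by simp only [_root_.Cfsg.Agent.OrdDiv.Real.eq_1]
  try have : _root_.True := by simp only [_root_.Cfsg.Agent.H902.Art.num.eq_9]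
  try have : _root_.True := by simp only [_root_.Cfsg.Agent.OrdDiv.Real.eq_15]
  try have : _root_.True := by simp only [_root_.Cfsg.Agent.H902.Art.num.eq_5]
  try have : _root_.True := by simp only [_root_.Cfsg.Agent.H902.Art.NN.eq_2]
  try have : _root_.True := by simp only [_root_.Cfsg.Agent.H902.Art.num.eq_12]
  try have : _root_.True := by simp only [_root_.Cfsg.Agent.H902.Art.NN.eq_12]
  try have : _root_.True := by simp only [_root_.Cfsg.Agent.OrdDiv.Real.eq_13]
  try have : _root_.True := by simp only [_root_.Cfsg.Agent.OrdDiv.Real.eq_24]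
  try have : _root_.True := by simp only [_root_.Cfsg.Agent.OrdDiv.Real.eq_42]
  try have : _root_.True := by simp only [_root_.Cfsg.Agent.OrdDiv.Real.eq_23]
  try have : _root_.True := by simp only [_root_.Cfsg.Agent.OrdDiv.Real.eq_16]
  try have : _root_.True := by simp only [_root_.Cfsg.Agent.H902.Art.NN.eq_6]
  try have : _root_.True := by simp only [_root_.Cfsg.Agent.OrdDiv.Real.eq_20]
  try have : _root_.True := by simp only [_root_.Cfsg.Agent.OrdDiv.Real.eq_44]
  try have : _root_.True := by simp only [_root_.Cfsg.Agent.H902.Art.num.eq_3]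
  try have : _root_.True := by simp only [_root_.Cfsg.Agent.OrdDiv.Real.eq_26]
  try have : _root_.True := by simp only [_root_.Cfsg.Agent.OrdDiv.Real.eq_37]
  try have : _root_.True := by simp only [_root_.Cfsg.Agent.OrdDiv.Real.eq_40]
  exact _root_.True.intro
end

-- part: H569/PD/HN
section
set_option linter.all false
open scoped Cfsg.Agent.FastGrp

/-!
# The row of S4246 for `HN` (helper569)
-/

set_option autoImplicit false

namespace Cfsg.Agent.H569.PD

open Subgroup Cfsg Cfsg.Agent.H160.PD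

namespace HN

open Cfsg.Agent.KFacts.HN Cfsg.Agent.HN.XWords Cfsg.Agent.HN.XStruct
open Cfsg.Agent.HN Cfsg.Agent.HN.Pres Cfsg.Agent.HN.P1408 Cfsg.Agent.HN.H0Basic

theorem twoC : TwoC W0 RS where
  comm r hr := mem_centralizer_singleton_iff.1 (RS_le_PP hr)
  norm c hc r hr := conj_RS (mem_PP.2 hc) hr
  pg := RS_isPGroup
  self := by
    intro c _ h
    rcases cent_RS h with h1 | h1 <;> rw [h1]
    · exact RS.one_mem
    · exact W0_mem_RS

end HN

theorem row_hn_model [IsSimpleGroup Spor.HN] : Row Spor.HN := by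
  have hc := Cfsg.Agent.KFacts.HN.Classes.card_HN
  have hfin : Finite Spor.HN := Nat.finite_of_card_ne_zero (by rw [hc]; norm_num)
  have hv : v 2 Spor.HN = 14 := fact_two (m := 16664484375) (by rw [hc]; norm_num) (by norm_num)
  refine row_one (na_of_card (by rw [hc]; norm_num)) Cfsg.Agent.KFacts.HN.out_index (r := 19) (by norm_num) (by norm_num)
    (by rw [hc]; norm_num) Cfsg.Agent.H94.CopHN.sc_nineteen HN.twoC ?_ (by rw [hv]; norm_num)
  intro u hu huv
  rcases SigZeroHN.card_centralizer_cases hu with ⟨-, h⟩ | ⟨h, -⟩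
  · exfalso
    have h1 : v 2 (centralizer ({u} : Set Spor.HN)) = 11 := fact_two (m := 86625) (by rw [h]; norm_num) (by norm_num)
    omega
  · obtain ⟨g, hg⟩ := isConj_iff.1 h.symm
    exact ⟨g, hg.symm⟩

/-- **The row of `HN`.** -/
theorem row_hn {K : Type*} [Group K] [Finite K] [IsSimpleGroup K] (h : Spor.IsoHN K) : Row K := by
  obtain ⟨e⟩ := h
  have := simple_congr e
  exact row_hn_model.congr e

end Cfsg.Agent.H569.PD
end

-- part: H569/PD/LargeC
section
set_option linter.all false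
open scoped Cfsg.Agent.FastGrp

/-!
# Rows of S4246 for sporadic groups: large subgroups of centralisers (helper569)
-/

set_option autoImplicit false

namespace Cfsg.Agent.H569.PD

open Subgroup Cfsg.Agent.H160.PD

universe u

theorem TwoC.of_large {G : Type u} [Group G] [Finite G] {Q : Subgroup G} {z : G}
    (h : Cfsg.Agent.Co2Type.Quad.Large Q z) : TwoC z Q where
  comm x hx := h.comm_z x hx
  norm c hc r hr := h.conj_mem c hc r hr
  pg := Cfsg.Agent.LargeExtra.Base.isPGroup h
  self c hc hr := h.self c hc hr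

theorem v_of_odd_index {K : Type*} [Group K] [Finite K] {t : K} (h : Odd (centralizer ({t} : Set K)).index) :
    v 2 (centralizer ({t} : Set K)) = v 2 K := by
  have h1 : Nat.card K = Nat.card (centralizer ({t} : Set K)) * (centralizer ({t} : Set K)).index :=
    (card_mul_index _).symm
  change (Nat.card (centralizer ({t} : Set K))).factorization 2 = (Nat.card K).factorization 2
  rw [h1, Nat.factorization_mul Nat.card_pos.ne' (Subgroup.index_ne_zero_of_finite), Finsupp.add_apply,
    Nat.factorization_eq_zero_of_not_dvd (n := (centralizer ({t} : Set K)).index) (p := 2)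
      (fun h2 => by rw [Nat.odd_iff] at h; omega), add_zero]

end Cfsg.Agent.H569.PD
end

-- part: H160/PD/Asm
section
set_option linter.all false
open scoped Cfsg.Agent.FastGrp

-- part: H569/PD/Fi24
section
/-!
# The row of S4246 for `Fi24'` (helper569)
-/

set_option autoImplicit false

namespace Cfsg.Agent.H569.PD

open Subgroup Cfsg Cfsg.Agent.H160.PD

theorem sc_of_self {G : Type*} [Group G] [Finite G] {r : ℕ} (hr : r.Prime) (hd : ¬ r * r ∣ Nat.card G)
    (h : H408.SporEng.Self r G) (x : G) (hx : orderOf x = r) : Nat.card (centralizer ({x} : Set G)) = r := by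
  obtain ⟨y, hy, hc⟩ := h
  rw [H689.card_centralizer_of_sylow hr hd hx hy, hc]

namespace Fi24

open Cfsg.Spor Cfsg.Agent.R01 Cfsg.Agent.R08 Cfsg.Agent.R08.FiTwentyFour
open Cfsg.Agent.R08.TetTwo Cfsg.Agent.R08.TetThree Cfsg.Agent.R08.TetBasic
open Cfsg.Agent.CTwoTab.FiTF

local notation "Pr" => Cfsg.Agent.R08.TetFi24A.At

theorem hc : Nat.card Spor.Fi24' = 1255205709190661721292800 := NotCT.Orders.fi24 (K := Spor.Fi24') ⟨MulEquiv.refl _⟩

theorem finite : Finite Spor.Fi24' := Nat.finite_of_card_ne_zero (by rw [hc]; norm_num)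

theorem hv : v 2 Spor.Fi24' = 21 := fact_two (m := 598528723330813275) (by rw [hc]; norm_num) (by norm_num)

theorem twoC : TwoC z0 R0 where
  comm r hr := mem_centralizer_singleton_iff.1 (R0_le hr)
  norm c hc := R0_norm c (mem_centralizer_singleton_iff.2 hc)
  pg := R0_p
  self c _ h := by
    rcases R0_cent c h with rfl | rfl
    · exact R0.one_mem
    · exact z0_mem

theorem v_pair {a b : Fi24} (P : Pr a b) {t : Spor.Fi24'} (ht : (t : Fi24) = a * b) :
    v 2 (centralizer ({t} : Set Spor.Fi24')) ≤ 19 := by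
  have hfin := finite
  have hi : (N a b).relIndex (centralizer ({t} : Set Spor.Fi24')) = 1 ∨
      (N a b).relIndex (centralizer ({t} : Set Spor.Fi24')) = 2 := by
    by_cases h1 : centralizer ({t} : Set Spor.Fi24') ≤ N a b
    · exact Or.inl (relIndex_eq_one.2 h1)
    · right
      obtain ⟨c, hc, hcN⟩ := SetLike.not_le_iff_exists.1 h1
      have key : ∀ x ∈ centralizer ({t} : Set Spor.Fi24'), x ∉ N a b →
          ((x : Fi24) * a * (x : Fi24)⁻¹ = b ∧ (x : Fi24) * b * (x : Fi24)⁻¹ = a) := by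
        intro x hx hxN
        rcases fix_or_swap P ht hx with h | h
        · exfalso
          apply hxN
          rw [mem_N, mem_Cab]
          exact ⟨mem_commutator_iff.1 x.2, mul_inv_eq_iff_eq_mul.1 h.1, mul_inv_eq_iff_eq_mul.1 h.2⟩
        · exact h
      refine index_eq_two_iff.2 ⟨⟨c, hc⟩, fun b' => ?_⟩
      rw [mem_subgroupOf, mem_subgroupOf]
      by_cases hb : (b' : Spor.Fi24') ∈ N a b
      · exact Or.inr ⟨hb, fun h => hcN (((N a b).mul_mem_cancel_left hb).1 h)⟩
      · refine Or.inl ⟨?_, hb⟩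
        obtain ⟨k1, k2⟩ := key c hc hcN
        obtain ⟨k3, k4⟩ := key b' b'.2 hb
        have h3 : ∀ u v w : Fi24, (c : Fi24) * u * (c : Fi24)⁻¹ = v →
            (((b' : Spor.Fi24')) : Fi24) * v * (((b' : Spor.Fi24')) : Fi24)⁻¹ = w →
            (((b' : Spor.Fi24')) : Fi24) * (c : Fi24) * u = w * ((((b' : Spor.Fi24')) : Fi24) * (c : Fi24)) := by
          rintro u v w rfl rfl
          group
        rw [mem_N, mem_Cab]
        exact ⟨mem_commutator_iff.1 (((b' * ⟨c, hc⟩ : ↥(centralizer ({t} : Set Spor.Fi24'))) : Spor.Fi24')).2,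
          h3 _ _ _ k1 k4, h3 _ _ _ k2 k3⟩
  have h1 : Nat.card (N a b) * (N a b).relIndex (centralizer ({t} : Set Spor.Fi24')) =
      Nat.card (centralizer ({t} : Set Spor.Fi24')) := by
    have := card_mul_index ((N a b).subgroupOf (centralizer ({t} : Set Spor.Fi24')))
    rwa [Nat.card_congr (subgroupOfEquivOfLe (N_le ht)).toEquiv] at this
  have h2 : Nat.card (N a b) = 2 * 64561751654400 :=
    (Nat.card_congr (eN a b).toEquiv).trans (OddHalf.D4.Spor.FiTF.card_Cab P)
  rw [h2] at h1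
  rcases hi with hi | hi <;> rw [hi] at h1
  · have : v 2 (centralizer ({t} : Set Spor.Fi24')) = 18 :=
      fact_two (m := 492567075) (by rw [← h1]; norm_num) (by norm_num)
    omega
  · have : v 2 (centralizer ({t} : Set Spor.Fi24')) = 19 :=
      fact_two (m := 492567075) (by rw [← h1]; norm_num) (by norm_num)
    omega

theorem classes' (u : Spor.Fi24') (hu : orderOf u = 2) (huv : v 2 (centralizer {u}) = v 2 Spor.Fi24') :
    ∃ g : Spor.Fi24', u = g * z0 * g⁻¹ := by
  rcases classes u hu with ⟨a, b, P, h⟩ | h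
  · have h1 := v_pair P h
    have h2 := hv
    omega
  · exact h

theorem out_le : out Spor.Fi24' = 1 ∨ out Spor.Fi24' = 2 :=
  (Nat.dvd_prime Nat.prime_two).1 Cfsg.Agent.KFacts.FiTF.out

end Fi24

theorem row_fi24_model [IsSimpleGroup Spor.Fi24'] : Row Spor.Fi24' := by
  have hfin := Fi24.finite
  have hv := Fi24.hv
  exact row_one (na_of_card (by rw [Fi24.hc]; norm_num)) Fi24.out_le
    (r := 29) (by norm_num) (by norm_num) (by rw [Fi24.hc]; norm_num)
    (sc_of_self (by norm_num) (by rw [Fi24.hc]; norm_num) H408.SporSelf.fi24) Fi24.twoC Fi24.classes'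
    (by rw [hv]; norm_num)

/-- **The row of `Fi24'`.** -/
theorem row_fi24 {K : Type*} [Group K] [Finite K] [IsSimpleGroup K] (h : Spor.IsoFi24' K) : Row K := by
  obtain ⟨e⟩ := h
  have := simple_congr e
  exact row_fi24_model.congr e

end Cfsg.Agent.H569.PD
end

-- part: H569/PD/Th
section
/-!
# The row of S4246 for `Th` (helper569)
-/

set_option autoImplicit false

namespace Cfsg.Agent.H569.PD

open Subgroup Cfsg Cfsg.Agent.H160.PD

theorem row_th_model [IsSimpleGroup Spor.Th] : Row Spor.Th := by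
  have hc : Nat.card Spor.Th = 90745943887872000 := NotCT.Orders.th ⟨MulEquiv.refl _⟩
  have hfin : Finite Spor.Th := Nat.finite_of_card_ne_zero (by rw [hc]; norm_num)
  have hv : v 2 Spor.Th = 15 := fact_two (m := 2769346432125) (by rw [hc]; norm_num) (by norm_num)
  obtain ⟨Q, hQ, hQc, -, hcQ, -⟩ := Cfsg.Agent.MonsterX.ThOneClass.struct
  have hp : Fact (Nat.Prime 2) := ⟨Nat.prime_two⟩
  refine row_zero (na_of_card (by rw [hc]; norm_num)) (out_eq_one Cfsg.Agent.KFacts.Th.Main.inner) (r := 19) (by norm_num)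
    (by norm_num) (by rw [hc]; norm_num) Cfsg.Agent.H981.SCTh.sc_th (TwoC.of_sub Q (IsPGroup.of_card hQc) hcQ) ?_
  rw [hv]
  exact fact_two (m := 2835) (by rw [Cfsg.Agent.MonsterX.ThOneClass.card_a]; norm_num) (by norm_num)

/-- **The row of `Th`.** -/
theorem row_th {K : Type*} [Group K] [Finite K] [IsSimpleGroup K] (h : Spor.IsoTh K) : Row K := by
  obtain ⟨e⟩ := h
  have := simple_congr e
  exact row_th_model.congr e

end Cfsg.Agent.H569.PD
end

-- part: H569/PD/Baby
section
/-!
# The row of S4246 for `B` (helper569)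
-/

set_option autoImplicit false

namespace Cfsg.Agent.H569.PD

open Subgroup Cfsg Cfsg.Agent.H160.PD

section

open Cfsg.Agent.BabyM Cfsg.Agent.BabyM.Model Cfsg.Agent.BabyU.ClosModel Cfsg.Agent.BabyU.ClosLane

theorem row_b_model [IsSimpleGroup Inst.M.G] (hsc : Cfsg.Agent.H537.Cop.SC 47 Inst.M.G)
    (hc : Nat.card Inst.M.G = 4154781481226426191177580544000000) : Row Inst.M.G := by
  have hfin := A.finite_G
  have D := Cfsg.Agent.KFacts.Baby.Sheet.data Cfsg.Agent.KFacts.CoTwo.InnerB.inner Cfsg.Agent.KFacts.Baby.Row.fix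
  exact row_zero (na_of_card (by rw [hc]; norm_num)) (out_eq_one D.allInner) (r := 47) (by norm_num) (by norm_num)
    (by rw [hc]; norm_num) hsc (TwoC.of_large D.large) (v_of_odd_index D.odd)

end

/-- **The row of `B`.** -/
theorem row_b (hK : Cfsg.Agent.H995.CopEngine.AllKnown.{0}) {K : Type*} [Group K] [Finite K] [IsSimpleGroup K]
    (h : Spor.IsoB K) : Row K := by
  obtain ⟨e⟩ := h
  obtain ⟨f⟩ := Cfsg.Agent.KFacts.Baby.RowB.exists_iso ⟨MulEquiv.refl Cfsg.Spor.BabyMonster⟩
  have := simple_congr (e.trans f.symm)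
  refine Row.congr (e.trans f.symm) (row_b_model (Cfsg.Agent.H537.Cop.SC.congr f (Cfsg.Agent.H291.SCBaby.sc hK)) ?_)
  rw [Nat.card_congr f.toEquiv]
  exact Cfsg.Agent.S1704.result.2

end Cfsg.Agent.H569.PD
end

-- part: H569/PD/Monster
section
/-!
# The row of S4246 for `M` (helper569)
-/

set_option autoImplicit false

namespace Cfsg.Agent.H569.PD

open Subgroup Cfsg Cfsg.Agent.H160.PD

section

open Cfsg.Spor (Co1)
open Cfsg.Agent.MonsterX Cfsg.Agent.MonsterX.Model Cfsg.Agent.MonsterX.MainSimple Cfsg.Agent.MonsterX.MainBasic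

theorem row_m_of {W : Type} [AddCommGroup W] [Module ℚ W] {M : MData W} (hG : MGroup M Co1) (hR : MRep M)
    (hL : MLat M) (hO : MOrbit M) (hT : MTrans M) [IsSimpleGroup M.G] (hsc : Cfsg.Agent.H537.Cop.SC 59 M.G)
    (hc : Nat.card M.G = 808017424794512875886459904961710757005754368000000000) : Row M.G := by
  have hfin := G_finite hO
  have hco := Cfsg.Agent.KFacts.MonsterE.simple_Co1
  obtain ⟨π, D⟩ := Cfsg.Agent.KFacts.MonsterE.data_model hG hR hL hO hT
  exact row_zero (na_of_card (by rw [hc]; norm_num)) (out_eq_one D.inner) (r := 59) (by norm_num) (by norm_num)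
    (by rw [hc]; norm_num) hsc (TwoC.of_large D.large) (v_of_odd_index D.odd)

theorem row_m_model (hK : Cfsg.Agent.H995.CopEngine.AllKnown.{0}) : Row Cfsg.Agent.H568.SC.Mon.MG := by
  have h := Cfsg.Agent.MonsterP.EquivOf.isM_model
  have hs := h.1
  exact row_m_of Instance.mGroup Instance.mRep Instance.mLat InstanceFinal.mOrbit Instance.mTrans
    (Cfsg.Agent.H568.SC.Mon.sc_model hK) h.2

end

/-- **The row of `M`.** -/
theorem row_m (hK : Cfsg.Agent.H995.CopEngine.AllKnown.{0}) {K : Type*} [Group K] [Finite K] [IsSimpleGroup K]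
    (h : Spor.IsoM K) : Row K := by
  obtain ⟨e⟩ := h
  obtain ⟨f⟩ := Cfsg.Agent.MonsterP.Equiv.equiv
  exact Row.congr (e.trans f) (row_m_model hK)

end Cfsg.Agent.H569.PD
end

-- part: H569/PD/Ly
section
/-!
# The row of S4246 for `Ly` (helper569)
-/

set_option autoImplicit false

namespace Cfsg.Agent.H569.PD

open Subgroup Cfsg Cfsg.Agent.H160.PD
open Cfsg.Agent Cfsg.Agent.SporRec Cfsg.Agent.SporRec.TwoAn Cfsg.Agent.SporRec.LyType Cfsg.Agent.SporRec.LyFiveCore
open Cfsg.Agent.TypeM.McLFromLy Cfsg.Agent.CpAutLy.Cov Cfsg.Agent.CpAutLy.Types Cfsg.Agent.CpAut.Cyc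
open Cfsg.Agent.H709.PB Cfsg.Agent.H394.PBTools

/-- no element of odd prime order centralises a Sylow 2-subgroup -/
theorem ly_v {G : Type*} [Group G] [Finite G] (L : LyType G) (hcard : Nat.card G = 51765179004000000) {y : G}
    (hy : (orderOf y).Prime) (hy2 : orderOf y ≠ 2) : v 2 (centralizer {y}) < v 2 G := by
  classical
  have hv : v 2 G = 8 := fact_two (m := 202207730484375) (by rw [hcard]; norm_num) (by norm_num)
  by_contra hcon
  have : Fact (Nat.Prime 2) := ⟨Nat.prime_two⟩
  obtain ⟨f, hf⟩ := LyFiveFinal.exists_five L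
  obtain ⟨D, P, hDP, hyD, hD⟩ := exists_pair y
  have hyv : v 2 (centralizer ({y} : Set G)) = v 2 G := le_antisymm (v_le_top _) (not_lt.1 hcon)
  have e1 : D = P := by
    apply eq_of_le_of_card_ge hDP
    rw [hD, hyv, card_sylow]
  have hQ1 : (P : Subgroup G) ≠ ⊥ := by
    intro h
    have h9 := card_sylow P
    rw [h, Subgroup.card_bot, hv] at h9
    revert h9
    decide
  obtain ⟨s, hs, hs2, hsc⟩ := H799.PB.exists_central P.isPGroup' hQ1
  have hsy : s * y = y * s := (hyD s (e1 ▸ hs)).symm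
  have hle : (P : Subgroup G) ≤ centralizer ({y} : Set G) ⊓ centralizer ({s} : Set G) := fun q hq =>
    ⟨mem_centralizer_singleton_iff.2 (hyD q (e1 ▸ hq)).symm, mem_centralizer_singleton_iff.2 (hsc q hq)⟩
  have h9 : 2 ^ 8 ∣ nn y s := by
    rw [← hv, ← card_sylow P]
    exact card_dvd_of_le hle
  have hr : Fact (orderOf y).Prime := ⟨hy⟩
  rcases H799.PB.nn_table L hf hy hy2 rfl hs2 hsy with ⟨-, h | h | h⟩ | ⟨-, h | h⟩ | ⟨-, h⟩ | ⟨-, h⟩
  · rw [h] at h9; revert h9; decide
  · rw [h] at h9; revert h9; decide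
  · rw [h] at h9; revert h9; decide
  · rw [h.2] at h9; revert h9; decide
  · have := h9.trans h; revert this; decide
  · rw [h] at h9; revert h9; decide
  · have := h9.trans h; revert this; decide

theorem row_ly_model [IsSimpleGroup Spor.Ly] : Row Spor.Ly := by
  have hfin : Finite Spor.Ly := Cfsg.Agent.Ly.Setup.finite_ly
  have hc : Nat.card Spor.Ly = 51765179004000000 := Cfsg.Agent.Ly.Setup.card_ly
  obtain ⟨L, -, -⟩ := H799.PB.exists_lyType
  have ho : out Spor.Ly = 1 := out_eq_one fun α => by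
    obtain ⟨g, hg⟩ := Cfsg.Agent.TypeM.OutLyFin.inner_ly α
    exact ⟨g, hg.symm⟩
  exact row_of (e := 0) (na_of_card (by rw [hc]; norm_num)) (oi_of_out (Or.inl ho)) (r := 31) (by norm_num) (by norm_num)
    (by rw [hc]; norm_num) (by rw [ho]; norm_num)
    (fun x hx => H613.Ly5.ThirtyOne.card_centralizer31 ⟨MulEquiv.refl _⟩ hx) (by rw [ho]; simp)
    fun y hy hy2 => ly_v L hc hy hy2

/-- **The row of `Ly`.** -/
theorem row_ly {K : Type*} [Group K] [Finite K] [IsSimpleGroup K] (h : Spor.IsoLy K) : Row K := by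
  obtain ⟨e⟩ := h
  have := simple_congr e
  exact row_ly_model.congr e

end Cfsg.Agent.H569.PD
end

-- part: H569/PD/J4
section
/-!
# The row of S4246 for `J4` (helper569)
-/

set_option autoImplicit false

namespace Cfsg.Agent.H569.PD

open Subgroup Cfsg Cfsg.Agent.H160.PD

/-- **The row of `J4`.** -/
theorem row_j4 {K : Type*} [Group K] [Finite K] [IsSimpleGroup K] (h : Spor.IsoJ4 K) : Row K := by
  have hc : Nat.card K = 86775571046077562880 := NotCT.Orders.j4 h
  obtain ⟨-, -, ⟨F⟩⟩ := KFacts.J4.Base.exists_full h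
  have ho : out K = 1 := out_eq_one (KFacts.J4.SheetJ4.inner F)
  exact H184.PD.row_of_evT (center_eq_bot (na_of_card (by rw [hc]; norm_num))) (H524.SporTool.sc_j4 h) (by rw [ho]; norm_num)
    (by rw [hc]; norm_num) (H184.PD.EvT.of_charTwo (SevenCases.SporJ4.charTwo h))

end Cfsg.Agent.H569.PD
end

-- part: H219/PD/RowSuz
section
/-!
# S4246: the row `Suz` (helper219)
-/

set_option autoImplicit false
set_option linter.unusedSectionVars false

namespace Cfsg.Agent.H219.PD

open Subgroup Cfsg Cfsg.Agent.H160.PD Cfsg.Agent.H184.PD Cfsg.Agent.H524.SporTool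
open Cfsg.Spor Cfsg.Agent.SuzThree.CentA Cfsg.Agent.KFacts.SuzSheet

universe u

theorem evT_suz {K : Type u} [Group K] [Finite K] (h : Spor.IsoSuz K) : EvT K := by
  have hc := NotCT.Orders.suz h
  obtain ⟨e⟩ := h
  have : Finite Spor.Suz := Finite.of_equiv K e.toEquiv
  have hcS : Nat.card Spor.Suz = 448345497600 := by rw [← Nat.card_congr e.toEquiv, hc]
  refine EvT.congr e.symm (EvT.of_large KFacts.SuzLarge.large ?_)
  have h1 : C1 = centralizer ({z0} : Set Suz) := by
    ext x
    rw [mem_C1]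
  refine not_dvd_index_of 3317760 135135 ?_ (by rw [hcS]) (by norm_num)
  rw [← h1, KFacts.SuzCent.card_C1]

theorem row_suz (K : Type u) [Group K] [Finite K] [IsSimpleGroup K] (h : Spor.IsoSuz K) : Row K := by
  refine row_of_data (sc_suz h) ?_ (by rw [NotCT.Orders.suz h]; norm_num) (evT_suz h)
  obtain ⟨e⟩ := h
  rw [out_of e S2074.result]

end Cfsg.Agent.H219.PD
end

-- part: H160/PD/AsmSpor
section
/-!
# The rows of S4246 for the sporadic groups: assembly (helper160)
-/

set_option autoImplicit false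

namespace Cfsg.Agent.H160.PD

open Cfsg

universe u

/-- sporadic groups -/
theorem row_sporadic (hK : Cfsg.Agent.H995.CopEngine.AllKnown.{0}) (hON : ∀ (K : Type u) [Group K] [Finite K] [IsSimpleGroup K], Spor.IsoON K → Row K) (K : Type u) [Group K] [Finite K]
    [IsSimpleGroup K] (h : IsSporadicGroup K) : Row K := by
  rcases h with h | h | h | h | h | h | h | h | h | h | h | h | h | h | h | h | h | h | h | h | h | h | h | h | h | h
  · exact H184.PD.row_m11 K h
  · exact H184.PD.row_m12 K h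
  · exact H184.PD.row_m22 K h
  · exact H184.PD.row_m23 K h
  · exact H184.PD.row_m24 K h
  · exact H184.PD.row_j1 K h
  · exact H184.PD.row_j2 K h
  · exact H184.PD.row_j3 K h
  · exact H569.PD.row_j4 h
  · exact H219.PD.row_co1 K h
  · exact H219.PD.row_co2 K h
  · exact H219.PD.row_co3 K h
  · exact H184.PD.row_mcl K h
  · exact H184.PD.row_hs K h
  · exact H219.PD.row_suz K h
  · exact H184.PD.row_he K h
  · exact H219.PD.row_ru K h
  · exact hON K h
  · exact H569.PD.row_ly h
  · exact H569.PD.row_fi22 h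
  · exact H569.PD.row_fi23 h
  · exact H569.PD.row_fi24 h
  · exact H569.PD.row_hn h
  · exact H569.PD.row_th h
  · exact H569.PD.row_b hK h
  · exact H569.PD.row_m hK h

end Cfsg.Agent.H160.PD
end

-- part: H160/PD/Asm
section
/-!
# The rows of S4246: assembly over the list of simple groups (helper160)
-/

set_option autoImplicit false

namespace Cfsg.Agent.H160.PD

open Cfsg

universe u

theorem row_known (hK : Cfsg.Agent.H995.CopEngine.AllKnown.{0})
    (hON : ∀ (K : Type u) [Group K] [Finite K] [IsSimpleGroup K], Spor.IsoON K → Row K)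
    (K : Type u) [Group K] [Finite K] [IsSimpleGroup K]
    (hna : ¬ IsMulCommutative K) (h : IsKnownSimple' K) : Row K := by
  rcases h with h | h | h | h | h | h | h | h | h | h
  · exfalso
    have : Fact (Nat.card K).Prime := ⟨h⟩
    have : IsCyclic K := isCyclic_of_prime_card (p := Nat.card K) rfl
    exact hna inferInstance
  · exact row_class K (Or.inl h)
  · exact row_class K (Or.inr (Or.inl h))
  · exact row_class K (Or.inr (Or.inr (Or.inl h)))
  · exact row_class K (Or.inr (Or.inr (Or.inr (Or.inl h))))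
  · exact row_class K (Or.inr (Or.inr (Or.inr (Or.inr (Or.inl h)))))
  · exact row_class K (Or.inr (Or.inr (Or.inr (Or.inr (Or.inr (Or.inl h))))))
  · exact row_class K (Or.inr (Or.inr (Or.inr (Or.inr (Or.inr (Or.inr h))))))
  · exact row_exc K h
  · exact row_sporadic hK hON K h

end Cfsg.Agent.H160.PD
end
end
end
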